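import Cfsg.Agent.SuzPres.RankThree.GCheck

/-!
The automorphisms of the graph on 416 points: a bound for their number.
-/

set_option autoImplicit false
set_option maxRecDepth 8000

namespace Cfsg.Lib.SuzPres.RankThree

open Cfsg.Lib.CosetCert Cfsg.Lib.PermCert MulAction

/-- The automorphisms of the graph on 416 points. -/
def aut416 : Subgroup (Equiv.Perm (Fin 416)) where
  carrier := {p | ∀ x y : Fin 416, adjL (p x).val (p y).val = adjL x.val y.val}
  one_mem' := fun _ _ => rfl
  mul_mem' := by
    intro g h hg hh x y
    exact (hg (h x) (h y)).trans (hh x y)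
  inv_mem' := by
    intro g hg x y
    have := hg (g⁻¹ x) (g⁻¹ y)
    rw [show g (g⁻¹ x) = x from g.apply_symm_apply x, show g (g⁻¹ y) = y from g.apply_symm_apply y] at this
    exact this.symm

/-- A base point. -/
def basePt (k : ℕ) : Fin 416 :=
  ⟨autBase.getD k 0, by
    by_cases hk : k < autBase.length
    · rw [List.getD_eq_getElem _ _ hk]
      exact Nat.le_of_ble_eq_true (List.all_eq_true.1 aut_cands.2 _ (List.getElem_mem hk))
    · rw [List.getD_eq_default _ _ (not_lt.1 hk)]
      norm_num⟩

/-- The automorphisms fixing the first base points. -/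
def autFix (k : ℕ) : Subgroup (Equiv.Perm (Fin 416)) :=
  aut416 ⊓ ⨅ t : Fin k, stabilizer (Equiv.Perm (Fin 416)) (basePt t.val)

theorem mem_autFix {k : ℕ} {g : Equiv.Perm (Fin 416)} :
    g ∈ autFix k ↔ g ∈ aut416 ∧ ∀ t < k, g (basePt t) = basePt t := by
  simp only [autFix, Subgroup.mem_inf, Subgroup.mem_iInf, mem_stabilizer_iff, Equiv.Perm.smul_def]
  exact and_congr_right fun _ => ⟨fun h t ht => h ⟨t, ht⟩, fun h t => h t.val t.isLt⟩

theorem card_autFix_step {k : ℕ} (hk : k < 6) :
    Nat.card (autFix k) ≤ (candOf k).length * Nat.card (autFix (k + 1)) := by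
  classical
  have hsub : orbit (autFix k) (basePt k) ⊆ {x : Fin 416 | x.val ∈ candOf k} := by
    rintro _ ⟨g, rfl⟩
    obtain ⟨hg, hfix⟩ := mem_autFix.1 g.2
    simp only [Set.mem_ofPred_eq, candOf, List.mem_filter, List.mem_range, List.all_eq_true, Bool.and_eq_true,
      beq_iff_eq, bne_iff_ne]
    refine ⟨Fin.isLt _, fun t ht => ?_⟩
    have ha := hg (basePt t) (basePt k)
    rw [hfix t ht] at ha
    refine ⟨ha, fun e => ?_⟩
    have e' : g.1 (basePt k) = g.1 (basePt t) := (Fin.ext e : g.1 (basePt k) = basePt t).trans (hfix t ht).symm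
    have heq : (autBase.getD k 0) = autBase.getD t 0 := congrArg Fin.val (g.1.injective e')
    have hne : ∀ k < 6, ∀ t < k, autBase.getD k 0 ≠ autBase.getD t 0 := by decide +kernel
    exact hne k hk t ht heq
  have hstab : (stabilizer (autFix k) (basePt k)).map (autFix k).subtype = autFix (k + 1) := by
    ext g
    constructor
    · rintro ⟨g', hg', rfl⟩
      obtain ⟨hg, hfix⟩ := mem_autFix.1 g'.2
      refine mem_autFix.2 ⟨hg, fun t ht => ?_⟩
      rcases Nat.lt_succ_iff_lt_or_eq.1 ht with ht | rfl
      · exact hfix t ht
      · exact hg'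
    · intro hg
      obtain ⟨ha, hfix⟩ := mem_autFix.1 hg
      exact ⟨⟨g, mem_autFix.2 ⟨ha, fun t ht => hfix t (ht.trans k.lt_succ_self)⟩⟩, hfix k k.lt_succ_self, rfl⟩
  have horb : (orbit (autFix k) (basePt k)).ncard ≤ (candOf k).length := by
    refine (Set.ncard_le_ncard hsub (Set.toFinite _)).trans ?_
    have hnd : (candOf k).Nodup := List.nodup_range.filter _
    rw [← List.toFinset_card_of_nodup hnd,
      ← Set.ncard_coe_finset]
    exact Set.ncard_le_ncard_of_injOn Fin.val (fun x hx => by simpa using hx)
      (fun x _ y _ e => Fin.ext e) (Finset.finite_toSet _)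
  rw [← Subgroup.card_mul_index (stabilizer (autFix k) (basePt k)), index_stabilizer,
    Nat.card_congr ((stabilizer (autFix k) (basePt k)).equivMapOfInjective _
      (autFix k).subtype_injective).toEquiv, hstab, mul_comm]
  exact Nat.mul_le_mul_right _ horb

theorem autFix_six : autFix 6 = ⊥ := by
  refine eq_bot_iff.2 fun g hg => Subgroup.mem_bot.2 ?_
  obtain ⟨ha, hfix⟩ := mem_autFix.1 hg
  have hmem : ∀ (l : List ℕ) (s j : ℕ), (l.foldl (fun s i => s ||| 1 <<< i) s).testBit j = true ↔
      s.testBit j = true ∨ j ∈ l := by
    intro l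
    induction l with
    | nil => simp
    | cons a l ih =>
      intro s j
      rw [List.foldl_cons, ih, Nat.testBit_or, Bool.or_eq_true, Nat.one_shiftLeft, Nat.testBit_two_pow,
        decide_eq_true_eq, List.mem_cons, or_assoc]
      exact or_congr Iff.rfl (or_congr eq_comm Iff.rfl)
  have hlen : autBase.length = 6 := rfl
  have key : ∀ k, k ≤ rounds.length → ∀ x : Fin 416, (fixedAfter k).testBit x.val = true → g x = x := by
    intro k
    induction k with
    | zero =>
      intro _ x hx
      rw [fixedAfter, hmem] at hx
      simp only [List.take_zero, List.flatten_nil, List.append_nil, Nat.zero_testBit, Bool.false_eq_true,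
        false_or] at hx
      obtain ⟨t, ht, e⟩ := List.getElem_of_mem hx
      rw [hlen] at ht
      have : x = basePt t := Fin.ext (by rw [← e]; exact (List.getD_eq_getElem _ _ _).symm)
      rw [this]
      exact hfix t ht
    | succ k ih =>
      intro hk x hx
      rw [fixedAfter, hmem, List.take_succ_eq_append_getElem (by omega), List.flatten_append, ← List.append_assoc,
        List.mem_append, ← or_assoc, ← hmem] at hx
      rcases hx with hx | hx
      · exact ih (by omega) x hx
      · simp only [List.flatten_cons, List.flatten_nil, List.append_nil] at hx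
        have hround := List.all_eq_true.1 (List.all_eq_true.1 aut_rounds.1 k (List.mem_range.2 (by omega))) x.val
          (by rw [List.getD_eq_getElem _ _ (show k < rounds.length by omega)]; exact hx)
        simp only [lonely, Bool.and_eq_true, Bool.not_eq_true', List.all_eq_true, List.mem_range, Bool.or_eq_true,
          beq_iff_eq, beq_eq_false_iff_ne] at hround
        obtain ⟨⟨-, hnx⟩, hall⟩ := hround
        rcases hall (g x).val (g x).isLt with (h | h) | h
        · have := g.injective (ih (by omega) (g x) h)
          rw [this, hnx] at h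
          exact Bool.noConfusion h
        · exact Fin.ext h
        · refine absurd (Nat.eq_of_testBit_eq fun j => ?_) h
          rw [Nat.testBit_and, Nat.testBit_and]
          by_cases hj : (fixedAfter k).testBit j = true
          · have hlt : fixedAfter k < 2 ^ 416 := by
              have h2 := List.all_eq_true.1 aut_rounds.2.2 k (List.mem_range.2 (by
                have : rounds.length = 3 := rfl
                omega))
              simp only [Bool.or_eq_true] at h2
              rcases h2 with h2 | h2
              · have := Nat.le_of_ble_eq_true h2; omega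
              · exact Nat.le_of_ble_eq_true h2
            have hj416 : j < 416 := by
              by_contra hj'
              rw [Nat.testBit_lt_two_pow (lt_of_lt_of_le hlt (Nat.pow_le_pow_right (by norm_num) (not_lt.1 hj')))] at hj
              exact Bool.noConfusion hj
            have e := ha x ⟨j, hj416⟩
            rw [ih (by omega) ⟨j, hj416⟩ hj] at e
            simp only [adjL] at e
            rw [e]
          · rw [Bool.not_eq_true] at hj
            rw [hj, Bool.and_false, Bool.and_false]
  refine Equiv.ext fun x => key rounds.length le_rfl x ?_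
  exact List.all_eq_true.1 aut_rounds.2.1 x.val (List.mem_range.2 x.isLt)

theorem card_aut416 : Nat.card aut416 ≤ 503193600 := by
  have h0 : autFix 0 = aut416 := by
    ext g
    rw [mem_autFix]
    exact ⟨fun h => h.1, fun h => ⟨h, fun t ht => absurd ht (Nat.not_lt_zero t)⟩⟩
  have hc := aut_cands.1
  simp only [show List.range 6 = [0, 1, 2, 3, 4, 5] from rfl, List.map_cons, List.map_nil, List.cons.injEq,
    and_true] at hc
  obtain ⟨c0, c1, c2, c3, c4, c5⟩ := hc
  have s0 := card_autFix_step (k := 0) (by norm_num)
  have s1 := card_autFix_step (k := 1) (by norm_num)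
  have s2 := card_autFix_step (k := 2) (by norm_num)
  have s3 := card_autFix_step (k := 3) (by norm_num)
  have s4 := card_autFix_step (k := 4) (by norm_num)
  have s5 := card_autFix_step (k := 5) (by norm_num)
  have s6 : Nat.card (autFix 6) = 1 := by rw [autFix_six]; exact Subgroup.card_bot
  rw [c0] at s0; rw [c1] at s1; rw [c2] at s2; rw [c3] at s3; rw [c4] at s4; rw [c5] at s5
  rw [← h0]
  norm_num at s0 s1 s2 s3 s4 s5
  omega

end Cfsg.Lib.SuzPres.RankThree
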