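import Cfsg.Agent.SuzPres.RankThree.Labelling
import Cfsg.Agent.SuzPres.RankThree.LocalAut

/-!
A transitive group of degree 1782 with point stabiliser the group on six letters and suborbits of sizes 416 and 1365
is the presented Suzuki group.
-/

set_option autoImplicit false
set_option maxRecDepth 8000

namespace Cfsg.Lib.SuzPres.RankThree

open Cfsg.Lib.CosetCert Cfsg.Lib.PermCert MulAction
open scoped Pointwise

universe u

/-- The numbered point. -/
def ptF (i : Fin 416) : Fin 1782 :=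
  ⟨ptN i.val, by
    have h := List.all_eq_true.1 pts_ok.1 i.val (List.mem_range.2 i.isLt)
    simp only [Bool.and_eq_true] at h
    exact Nat.le_of_ble_eq_true h.1.1⟩

theorem ptF_mem (i : Fin 416) : ptF i ∈ maskSet mask1 := by
  have h := List.all_eq_true.1 pts_ok.1 i.val (List.mem_range.2 i.isLt)
  simp only [Bool.and_eq_true] at h
  exact h.1.2

theorem ptF_inj : Function.Injective ptF := by
  intro i j e
  have h := fun k : Fin 416 => List.all_eq_true.1 pts_ok.1 k.val (List.mem_range.2 k.isLt)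
  simp only [Bool.and_eq_true, beq_iff_eq] at h
  exact Fin.ext ((h i).2.symm.trans ((congrArg (fun z : Fin 1782 => idxN z.val) e).trans (h j).2))

theorem ptF_surj {z : Fin 1782} (hz : z ∈ maskSet mask1) : ∃ i, ptF i = z := by
  have h := List.all_eq_true.1 pts_ok.2.1 z.val (List.mem_range.2 z.isLt)
  simp only [Bool.and_eq_true, Bool.or_eq_true, Bool.not_eq_true', beq_iff_eq] at h
  rcases h with h | h
  · rw [show mask1.testBit z.val = true from hz] at h
    exact Bool.noConfusion h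
  · exact ⟨⟨idxN z.val, Nat.le_of_ble_eq_true h.1⟩, Fin.ext h.2⟩

theorem ptF_loc {l : ℕ} (hl : l < 6) (i : Fin 416) :
    ∃ j : Fin 416, j.val = locN l i.val ∧ ptF j = imS l • ptF i := by
  have h := List.all_eq_true.1 (List.all_eq_true.1 loc_ok l (List.mem_range.2 hl)) i.val (List.mem_range.2 i.isLt)
  simp only [Bool.and_eq_true, beq_iff_eq] at h
  refine ⟨⟨locN l i.val, Nat.le_of_ble_eq_true h.1⟩, rfl, Fin.ext (h.2.trans ?_)⟩
  rw [show ptN i.val = (ptF i).val from rfl, ← im_smul (by omega) (ptF i)]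
  simp only [imS, hl, dite_true]
  rfl

theorem imS_sq {l : ℕ} (hl : l < 6) : imS l * imS l = 1 := by
  refine Subtype.ext ?_
  simp only [imS, hl, dite_true, Subgroup.coe_mul, Subgroup.coe_one]
  exact good_im.inv (by omega)

section Model

variable {ι : Fin 1782 → Fin 1782}

/-- The rows are the neighbours among the numbered points. -/
theorem rows_adj (L : Labelling GM p0 JTwo.q0 phiM ι) (i j : Fin 416) :
    adjL i.val j.val = true ↔ (orbGraph GM p0 JTwo.q0).Adj (ι (ptF i)) (ι (ptF j)) := by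
  set Γ := orbGraph GM p0 JTwo.q0
  let Q : ℕ → Prop := fun q => ∀ hq : q < 416, ∀ j : Fin 416,
    adjL q j.val = true ↔ Γ.Adj (ι (ptF ⟨q, hq⟩)) (ι (ptF j))
  have main : ∀ (t : List (ℕ × ℕ × ℕ)) (seen : ℕ), rowsOK seen t = true → (∀ q, seen.testBit q = true → Q q) →
      ∀ q, (locMask t seen).testBit q = true → Q q := by
    intro t
    induction t with
    | nil => intro seen _ hs q hq; exact hs q hq
    | cons e r ih =>
      obtain ⟨q', par, l⟩ := e
      intro seen hok hs q hq
      simp only [rowsOK, Bool.and_eq_true, List.all_eq_true, List.mem_range, beq_iff_eq] at hok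
      obtain ⟨⟨⟨⟨⟨⟨hpar, hq'⟩, hp⟩, hl⟩, hloc⟩, hrow⟩, hrest⟩ := hok
      refine ih _ hrest (fun i hi => ?_) q hq
      rw [Nat.testBit_or, Bool.or_eq_true, Nat.one_shiftLeft, Nat.testBit_two_pow, decide_eq_true_eq] at hi
      rcases hi with hi | rfl
      · exact hs i hi
      intro hlt j
      have hl' : l < 6 := Nat.le_of_ble_eq_true hl
      have hp' : par < 416 := Nat.le_of_ble_eq_true hp
      obtain ⟨j', hj', ej'⟩ := ptF_loc hl' j
      obtain ⟨j'', hj'', ej''⟩ := ptF_loc hl' j'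
      have hjj : j'' = j := ptF_inj (by rw [ej'', ej', smul_smul, imS_sq hl', one_smul])
      subst hjj
      obtain ⟨q'', hq'', eq''⟩ := ptF_loc hl' ⟨par, hp'⟩
      have : q'' = ⟨q', hlt⟩ := Fin.ext (hq''.trans hloc)
      subst this
      have h1 := hrow j'.val j'.isLt
      rw [← hj''] at h1
      rw [h1, hs par hpar hp' j', eq'', ej'', L.adj_smul]
  have hroot : ∀ q, (1 <<< u0Loc).testBit q = true → Q q := by
    intro q hq
    rw [Nat.one_shiftLeft, Nat.testBit_two_pow, decide_eq_true_eq] at hq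
    subst hq
    intro hlt j
    have h := List.all_eq_true.1 row0_ok j.val (List.mem_range.2 j.isLt)
    rw [beq_iff_eq] at h
    have e : ptF ⟨u0Loc, hlt⟩ = JTwo.q0 := Fin.ext pts_ok.2.2.1
    rw [h, e, L.adj1 _ (ptF_mem j)]
    rfl
  exact main locTree _ rows_ok hroot i.val (List.all_eq_true.1 loc_cover i.val (List.mem_range.2 i.isLt)) i.isLt j

/-- The automorphisms of the model graph fixing the base point. -/
def autP (ι : Fin 1782 → Fin 1782) : Subgroup (Equiv.Perm (Fin 1782)) where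
  carrier := {p | p p0 = p0 ∧ ∀ x y, (orbGraph GM p0 JTwo.q0).Adj (p x) (p y) ↔ (orbGraph GM p0 JTwo.q0).Adj x y}
  one_mem' := ⟨rfl, fun _ _ => Iff.rfl⟩
  mul_mem' := by
    rintro g h ⟨g0, hg⟩ ⟨h0, hh⟩
    exact ⟨by rw [Equiv.Perm.mul_apply, h0, g0], fun x y => (hg (h x) (h y)).trans (hh x y)⟩
  inv_mem' := by
    rintro g ⟨g0, hg⟩
    refine ⟨g.symm_apply_eq.2 g0.symm, fun x y => ?_⟩
    have := hg (g⁻¹ x) (g⁻¹ y)
    rw [show g (g⁻¹ x) = x from g.apply_symm_apply x, show g (g⁻¹ y) = y from g.apply_symm_apply y] at this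
    exact this.symm

theorem ext_local (L : Labelling GM p0 JTwo.q0 phiM ι) {k : Equiv.Perm (Fin 1782)} (hk : k ∈ autP ι)
    (h : ∀ y ∈ maskSet mask1, k (ι y) = ι y) : k = 1 := by
  obtain ⟨k0, hk⟩ := hk
  refine Equiv.ext fun z => ?_
  obtain ⟨x, rfl⟩ := L.bij.2 z
  show k (ι x) = ι x
  rcases cover x with rfl | hx | hx
  · rw [L.base]; exact k0
  · exact h x hx
  obtain ⟨x', hx'⟩ := L.bij.2 (k (ι x))
  have hx2 : x' ∈ maskSet mask2 := by
    rcases cover x' with rfl | h' | h'
    · rw [L.base] at hx'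
      have e : ι x = p0 := k.injective (hx'.symm.trans k0.symm)
      exact absurd ((L.bij.1 (e.trans L.base.symm)) ▸ hx) p0_not2
    · have e : ι x = ι x' := k.injective (hx'.symm.trans (h x' h').symm)
      exact absurd (L.bij.1 e ▸ hx) (fun h2 => not_both h' h2)
    · exact h'
  obtain ⟨g, hg⟩ := exists_to_pOne hx
  obtain ⟨g', hg'⟩ := exists_to_pOne hx2
  have hset : g⁻¹ • S0 = g'⁻¹ • S0 := by
    ext y
    by_cases hy : y ∈ maskSet mask1
    · have e1 : g • y ∈ S0 ↔ (orbGraph GM p0 JTwo.q0).Adj (ι x) (ι y) := by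
        rw [← L.adj2 _ ((mask1_inv g y).1 hy), ← hg, L.adj_smul]
      have e2 : g' • y ∈ S0 ↔ (orbGraph GM p0 JTwo.q0).Adj (ι x') (ι y) := by
        rw [← L.adj2 _ ((mask1_inv g' y).1 hy), ← hg', L.adj_smul]
      rw [Set.mem_inv_smul_set_iff, Set.mem_inv_smul_set_iff, e1, e2, hx']
      conv_rhs => rw [← h y hy]
      exact (hk _ _).symm
    · rw [Set.mem_inv_smul_set_iff, Set.mem_inv_smul_set_iff]
      exact iff_of_false (fun e => hy ((mask1_inv g y).2 (S0_sub e))) (fun e => hy ((mask1_inv g' y).2 (S0_sub e)))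
  have ex : x = g⁻¹ • pOne := eq_inv_smul_iff.2 hg
  have ex' : x' = g'⁻¹ • pOne := eq_inv_smul_iff.2 hg'
  rw [← hx', ex, ex', smul_S0_inj hset]

theorem card_autP (L : Labelling GM p0 JTwo.q0 phiM ι) : Nat.card (autP ι) ≤ 503193600 := by
  classical
  have hres : ∀ (k : autP ι) (i : Fin 416), ∃ j : Fin 416, k.1 (ι (ptF i)) = ι (ptF j) := by
    intro k i
    obtain ⟨x, hx⟩ := L.bij.2 (k.1 (ι (ptF i)))
    have hmem : x ∈ maskSet mask1 := by
      rw [← L.adj0, hx]
      have h := (k.2.2 (ι p0) (ι (ptF i))).2 (by rw [L.base, L.adj0]; exact ptF_mem i)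
      rwa [L.base, k.2.1] at h
    obtain ⟨j, hj⟩ := ptF_surj hmem
    exact ⟨j, by rw [hj, hx]⟩
  choose r hr using hres
  have hinj : ∀ k, Function.Injective (r k) := fun k i j e => ptF_inj (L.bij.1 (k.1.injective (by rw [hr, hr, e])))
  let res : autP ι → aut416 := fun k => ⟨Equiv.ofBijective (r k) ((Finite.injective_iff_bijective).1 (hinj k)),
    fun x y => by
      rw [Bool.eq_iff_iff, rows_adj L, rows_adj L]
      show (orbGraph GM p0 JTwo.q0).Adj (ι (ptF (r k x))) (ι (ptF (r k y))) ↔ _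
      rw [← hr, ← hr]
      exact k.2.2 _ _⟩
  have hres' : Function.Injective res := by
    intro k k' e
    have h1 : k'⁻¹ * k = 1 := by
      refine Subtype.ext (ext_local L (k'⁻¹ * k).2 fun y hy => ?_)
      obtain ⟨i, rfl⟩ := ptF_surj hy
      have e' : r k i = r k' i := congrArg (fun q : aut416 => q.1 i) e
      show k'.1⁻¹ (k.1 (ι (ptF i))) = _
      rw [hr, e', ← hr]
      exact k'.1.symm_apply_apply _
    exact (inv_mul_eq_one.1 h1).symm
  exact (Nat.card_le_card_of_injective res hres').trans card_aut416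

end Model

theorem GM_simple : IsSimpleGroup GM := by
  haveI := simple_suz
  haveI : Nontrivial GM := (MonoidHom.ofInjective psi_injective).symm.toEquiv.nontrivial
  exact IsSimpleGroup.isSimpleGroup_of_surjective (MonoidHom.ofInjective psi_injective).toMonoidHom
    (MonoidHom.ofInjective psi_injective).surjective

theorem card_GM : Nat.card GM = 448345497600 := by
  rw [GM, ← Nat.card_congr (MonoidHom.ofInjective psi_injective).toEquiv, card_suz]

/-- The point stabiliser of the model as a group of permutations. -/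
noncomputable def M0 : Subgroup (Equiv.Perm (Fin 1782)) := (stabilizer GM p0).map GM.subtype

theorem card_M0 : Nat.card M0 = 251596800 := by
  rw [M0, Subgroup.card_map_of_injective GM.subtype_injective, Nat.card_congr phiM.toEquiv, card_S6]

/-- A group of automorphisms of the model graph with the order and the point stabiliser of the model is the model. -/
theorem model_eq {ι : Fin 1782 → Fin 1782} (L : Labelling GM p0 JTwo.q0 phiM ι) (T : Subgroup (Equiv.Perm (Fin 1782)))
    (hA : ∀ t ∈ T, ∀ x y, (orbGraph GM p0 JTwo.q0).Adj (t x) (t y) ↔ (orbGraph GM p0 JTwo.q0).Adj x y)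
    (hc : Nat.card T = 448345497600) (htr : ∀ x, ∃ g ∈ T, g p0 = x) (hs : M0 ≤ T) : T = GM := by
  classical
  have hGMA : ∀ m ∈ GM, ∀ x y, (orbGraph GM p0 JTwo.q0).Adj (m x) (m y) ↔ (orbGraph GM p0 JTwo.q0).Adj x y :=
    fun m hm x y => setupM.smul_adj ⟨m, hm⟩
  have hM0 : M0 ≤ autP ι := by
    rintro _ ⟨k, hk, rfl⟩
    exact ⟨hk, hGMA _ k.2⟩
  have hnorm : ∀ h ∈ autP ι, ∀ s ∈ M0, h * s * h⁻¹ ∈ M0 := by
    have hmul := Subgroup.card_mul_index (M0.subgroupOf (autP ι))
    rw [Nat.card_congr (Subgroup.subgroupOfEquivOfLe hM0).toEquiv, card_M0] at hmul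
    have hle := card_autP L
    have hpos : 0 < (M0.subgroupOf (autP ι)).index := Nat.pos_of_ne_zero fun e => by
      have : 0 < Nat.card (autP ι) := Nat.card_pos
      rw [e] at hmul
      omega
    have h2 : (M0.subgroupOf (autP ι)).index ≤ 2 := by omega
    have hn : (M0.subgroupOf (autP ι)).Normal := by
      rcases Nat.lt_or_ge (M0.subgroupOf (autP ι)).index 2 with h | h
      · rw [Subgroup.index_eq_one.1 (show (M0.subgroupOf (autP ι)).index = 1 by omega)]
        infer_instance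
      · exact Subgroup.normal_of_index_eq_two (le_antisymm h2 h)
    intro h hh s hs'
    exact hn.conj_mem ⟨s, hM0 hs'⟩ hs' ⟨h, hh⟩
  have hall : ∀ m ∈ GM, ∀ s ∈ M0, m * s * m⁻¹ ∈ T := by
    intro m hm s hs'
    obtain ⟨g, hg, e⟩ := htr (m p0)
    have hh : g⁻¹ * m ∈ autP ι := by
      refine ⟨g.symm_apply_eq.2 e.symm, fun x y => ?_⟩
      exact (hA _ (inv_mem hg) (m x) (m y)).trans (hGMA m hm x y)
    have h2 := mul_mem (mul_mem hg (hs (hnorm _ hh s hs'))) (inv_mem hg)
    have e2 : g * (g⁻¹ * m * s * (g⁻¹ * m)⁻¹) * g⁻¹ = m * s * m⁻¹ := by group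
    exact e2 ▸ h2
  let s : Set GM := {g | (g : Equiv.Perm (Fin 1782)) ∈ M0}
  haveI := GM_simple
  have htop : Subgroup.normalClosure s = ⊤ := by
    rcases (inferInstance : (Subgroup.normalClosure s).Normal).eq_bot_or_eq_top with h | h
    · exfalso
      haveI : Nontrivial M0 := (Finite.one_lt_card_iff_nontrivial).1 (by rw [card_M0]; norm_num)
      obtain ⟨⟨_, k, hk, rfl⟩, hne⟩ := exists_ne (1 : M0)
      refine hne (Subtype.ext ?_)
      have : k ∈ Subgroup.normalClosure s := Subgroup.subset_normalClosure ⟨k, hk, rfl⟩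
      rw [h, Subgroup.mem_bot] at this
      exact congrArg (fun z : GM => (z : Equiv.Perm (Fin 1782))) this
    · exact h
  have hN : Subgroup.normalClosure s ≤ T.subgroupOf GM := by
    refine (Subgroup.closure_le _).2 fun x hx => ?_
    obtain ⟨a, ha, hax⟩ := Group.mem_conjugatesOfSet_iff.1 hx
    obtain ⟨c, rfl⟩ := isConj_iff.1 hax
    exact hall c.1 c.2 a.1 ha
  rw [htop, top_le_iff, Subgroup.subgroupOf_eq_top] at hN
  exact (Subgroup.eq_of_le_of_card_ge hN (by rw [hc, card_GM])).symm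

variable {Ω : Type u} [Fintype Ω] [DecidableEq Ω] {G : Subgroup (Equiv.Perm Ω)} {a b c : Ω}

theorem recognition (hΩ : Fintype.card Ω = 1782) (htr : IsPretransitive G Ω) (φ : stabilizer G a ≃* S6)
    (hb : (orbit (stabilizer G a) b).ncard = 416) (hc : (orbit (stabilizer G a) c).ncard = 1365) :
    Cfsg.Spor.IsoSuz G := by
  classical
  haveI := htr
  have h : Setup G a b c := ⟨hΩ, htr, hb, hc⟩
  obtain ⟨ιG, LG⟩ := exists_labelling h φ
  obtain ⟨ιM, LM⟩ := exists_labelling setupM phiM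
  let EG : Fin 1782 ≃ Ω := Equiv.ofBijective ιG LG.bij
  let EM : Fin 1782 ≃ Fin 1782 := Equiv.ofBijective ιM LM.bij
  let E : Fin 1782 ≃ Ω := EM.symm.trans EG
  have hE : ∀ x, E (ιM x) = ιG x := fun x => congrArg EG (EM.symm_apply_apply x)
  have hadj : ∀ z w, (orbGraph G a b).Adj (E z) (E w) ↔ (orbGraph GM p0 JTwo.q0).Adj z w := by
    intro z w
    obtain ⟨x, rfl⟩ := LM.bij.2 z
    obtain ⟨y, rfl⟩ := LM.bij.2 w
    rw [hE, hE]
    exact adj_same LG LM x y
  have hE0 : E p0 = a := by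
    conv_lhs => rw [← LM.base]
    rw [hE, LG.base]
  let ρ : G →* Equiv.Perm (Fin 1782) :=
    { toFun := fun g => E.trans ((MulAction.toPerm g).trans E.symm)
      map_one' := Equiv.ext fun x => by simp
      map_mul' := fun g k => Equiv.ext fun x => by simp [mul_smul] }
  have hρ : ∀ g x, E (ρ g x) = g • E x := fun g x => E.apply_symm_apply _
  have ρinj : Function.Injective ρ := fun g k e => by
    refine Subtype.ext (Equiv.ext fun z => ?_)
    obtain ⟨x, rfl⟩ := E.surjective z
    show g • E x = k • E x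
    rw [← hρ, ← hρ, e]
  have hG : Nat.card G = 448345497600 := by
    rw [← Subgroup.card_mul_index (stabilizer G a), index_stabilizer_of_transitive, Nat.card_eq_fintype_card (α := Ω),
      hΩ, Nat.card_congr φ.toEquiv, card_S6]
  have hT := model_eq LM ρ.range (by
      rintro _ ⟨g, rfl⟩ x y
      rw [← hadj, ← hadj, hρ, hρ]
      exact h.smul_adj g) (by rw [← Nat.card_congr (MonoidHom.ofInjective ρinj).toEquiv, hG]) (fun x => by
      obtain ⟨g, hg⟩ := exists_smul_eq G a (E x)
      exact ⟨ρ g, ⟨g, rfl⟩, E.injective (by rw [hρ, hE0, hg])⟩) (by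
      rintro _ ⟨k, hk, rfl⟩
      refine ⟨(φ.symm (phiM ⟨k, hk⟩)).1, Equiv.ext fun z => E.injective ?_⟩
      obtain ⟨x, rfl⟩ := LM.bij.2 z
      rw [hρ, hE, show (φ.symm (phiM ⟨k, hk⟩)).1 • ιG x = φ.symm (phiM ⟨k, hk⟩) • ιG x from rfl, LG.equiv,
        φ.apply_symm_apply, show (GM.subtype k) (ιM x) = (⟨k, hk⟩ : stabilizer GM p0) • ιM x from rfl, LM.equiv, hE])
  exact ⟨((MonoidHom.ofInjective ρinj).trans (MulEquiv.subgroupCongr hT)).trans
    (MonoidHom.ofInjective psi_injective).symm⟩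

end Cfsg.Lib.SuzPres.RankThree
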