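import Cfsg.Agent.SuzPres.RankThree.Label

/-!
The model as a rank 3 group, and the stabiliser of the model set.
-/

set_option autoImplicit false
set_option maxRecDepth 8000

namespace Cfsg.Lib.SuzPres.RankThree

open Cfsg.Lib.CosetCert Cfsg.Lib.PermCert MulAction
open scoped Pointwise

/-- The model group of degree 1782. -/
def GM : Subgroup (Equiv.Perm (Fin 1782)) := psi.range

theorem psi_injective : Function.Injective psi := by
  haveI := simple_suz
  rw [← MonoidHom.ker_eq_bot_iff]
  rcases (inferInstance : psi.ker.Normal).eq_bot_or_eq_top with h | h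
  · exact h
  exfalso
  obtain ⟨g, hg⟩ := transitive.exists_smul_eq p0 pOne
  have h1 : psi g = 1 := MonoidHom.mem_ker.1 (h.ge (Subgroup.mem_top g))
  rw [smul_def, h1, Equiv.Perm.one_apply] at hg
  exact absurd (congrArg Fin.val hg) (by decide)

/-- The stabiliser of the base point as a map. -/
def toStab : S6 →* stabilizer GM p0 where
  toFun g := ⟨⟨psi g.1, g.1, rfl⟩, mem_stabilizer_iff.2 (mem_stabilizer_iff.1 (first_six_le g.2))⟩
  map_one' := Subtype.ext (Subtype.ext (map_one psi))
  map_mul' _ _ := Subtype.ext (Subtype.ext (map_mul psi _ _))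

theorem toStab_bijective : Function.Bijective toStab := by
  constructor
  · intro g g' e
    exact Subtype.ext (psi_injective (congrArg (fun z : stabilizer GM p0 => z.1.1) e))
  · rintro ⟨⟨_, g, rfl⟩, hg⟩
    have hg' : g ∈ first 6 := by
      rw [← stabilizer_zero]
      exact mem_stabilizer_iff.2 (mem_stabilizer_iff.1 hg)
    exact ⟨⟨g, hg'⟩, rfl⟩

/-- The stabiliser of the base point is the group on six letters. -/
noncomputable def phiM : stabilizer GM p0 ≃* S6 := (MulEquiv.ofBijective toStab toStab_bijective).symm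

theorem phiM_smul (k : stabilizer GM p0) (x : Fin 1782) : k • x = phiM k • x := by
  obtain ⟨g, rfl⟩ := toStab_bijective.2 k
  rw [phiM, show (MulEquiv.ofBijective toStab toStab_bijective).symm (toStab g) = g from
    MulEquiv.ofBijective toStab toStab_bijective |>.symm_apply_apply g]
  rfl

theorem orbit_stabM (x : Fin 1782) : orbit (stabilizer GM p0) x = orbit S6 x := by
  ext y
  constructor
  · rintro ⟨k, rfl⟩
    exact ⟨phiM k, (phiM_smul k x).symm⟩
  · rintro ⟨g, rfl⟩
    refine ⟨phiM.symm g, ?_⟩
    show phiM.symm g • x = g • x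
    rw [phiM_smul, phiM.apply_symm_apply]

theorem transM : IsPretransitive GM (Fin 1782) := ⟨fun x y => by
  obtain ⟨g, hg⟩ := transitive.exists_smul_eq x y
  exact ⟨⟨psi g, g, rfl⟩, hg⟩⟩

theorem setupM : Setup GM p0 JTwo.q0 pOne := by
  refine ⟨Fintype.card_fin _, transM, ?_, ?_⟩
  · rw [orbit_stabM, orbit1.1 _ q0_mem, orbit1.2.1]
  · rw [orbit_stabM, orbit2.1 _ pOne_mem, orbit2.2.1]

theorem stabW_K0 {w : List ℕ} (hw : w ∈ stabW) : sixWord w = true ∧ wval imS w ∈ K0 := by
  haveI := finite_S6
  have h := List.all_eq_true.1 stab_ok w hw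
  simp only [Bool.and_eq_true, List.all_eq_true, List.mem_range, Bool.or_eq_true, Bool.not_eq_true'] at h
  refine ⟨h.1, ?_⟩
  rw [← inv_mem_iff, K0, mem_stabilizer_iff]
  refine Set.eq_of_subset_of_ncard_le ?_ (by rw [Set.ncard_smul_set]) (Set.toFinite _)
  rintro _ ⟨x, hx, rfl⟩
  show goodMask.testBit ((wval imS w : S6)⁻¹ • x : Fin 1782).val = true
  rw [evalS h.1]
  rcases h.2 x.val x.isLt with e | e
  · rw [show goodMask.testBit x.val = true from hx] at e
    exact Bool.noConfusion e
  · exact e

/-- The point joined to the model set is determined by it. -/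
theorem K0_eq : K0 = stabilizer S6 pOne := by
  have hf : Near GM p0 JTwo.q0 phiM id := by
    refine ⟨fun x _ y _ e => e, fun k x _ => phiM_smul k x, ?_⟩
    rw [Set.image_id, orbit_stabM, orbit1.1 _ q0_mem]
  obtain ⟨g, -, h2, hK⟩ := far_class setupM phiM hf
  have hstab : (stabilizer (stabilizer GM p0) pOne).map phiM.toMonoidHom = stabilizer S6 pOne := by
    ext x
    constructor
    · rintro ⟨k, hk, rfl⟩
      rw [mem_stabilizer_iff]
      exact (phiM_smul k pOne).symm.trans hk
    · intro hx
      refine ⟨phiM.symm x, ?_, phiM.apply_symm_apply x⟩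
      rw [SetLike.mem_coe, mem_stabilizer_iff, phiM_smul, phiM.apply_symm_apply]
      exact hx
  rw [hstab] at h2
  set p := g⁻¹ • pOne with hp
  have hK0 : K0 = stabilizer S6 p := by
    rw [hp, stabilizer_smul_eq_stabilizer_map_conj, h2, stabilizer_smul_eq_stabilizer_map_conj, Subgroup.map_map]
    convert (Subgroup.map_id (stabilizer S6 S0)).symm using 2
    · rfl
    · refine MonoidHom.ext fun z => ?_
      simp [mul_assoc]
  suffices p = pOne by rw [hK0, this]
  have hp2 : p ∈ maskSet mask2 := (mask2_inv _ pOne).1 pOne_mem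
  obtain ⟨hlen, htr, hcov, hsz, hone⟩ := classes_ok
  have h1 := List.all_eq_true.1 hcov p.val (List.mem_range.2 p.isLt)
  rw [beq_iff_eq, show mask2.testBit p.val = true from hp2, eq_comm, List.any_eq_true] at h1
  obtain ⟨i, hi, hip⟩ := h1
  rw [List.mem_range] at hi
  have hi' : i < sClasses.length := hlen ▸ hi
  have h2 := List.all_eq_true.1 htr _ (List.getElem_mem hi')
  rw [Bool.and_eq_true] at h2
  have hsub : maskSet (sMask i) ⊆ {p} := by
    intro y hy
    rw [mem_maskSet, sMask, List.getD_eq_getElem _ _ hi'] at hy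
    rw [sMask, List.getD_eq_getElem _ _ hi'] at hip
    have hb := Nat.le_of_ble_eq_true h2.1
    obtain ⟨r, hr, er⟩ := tree_orbit (fun w hw => (stabW_K0 hw).1) (fun w hw => (stabW_K0 hw).2) hb h2.2 p hip
    obtain ⟨s, hs, es⟩ := tree_orbit (fun w hw => (stabW_K0 hw).1) (fun w hw => (stabW_K0 hw).2) hb h2.2 y hy
    have hfix : (s * r⁻¹) • p = p := mem_stabilizer_iff.1 (hK0.le (mul_mem hs (inv_mem hr)))
    rw [Set.mem_singleton_iff, ← hfix, mul_smul, ← er, inv_smul_smul, es]
  have hcnt := Set.ncard_le_ncard hsub (Set.finite_singleton p)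
  rw [Set.ncard_singleton, JTwo.ncard_maskSet] at hcnt
  simp only [show List.range 4 = [0, 1, 2, 3] from rfl, List.map_cons, List.map_nil, List.cons.injEq, and_true] at hsz
  obtain ⟨-, s1, s2, s3⟩ := hsz
  interval_cases i
  · rw [hone, Nat.one_shiftLeft, Nat.testBit_two_pow, decide_eq_true_eq] at hip
    exact Fin.ext hip.symm
  · omega
  · omega
  · omega

/-- A set of translates determines the point. -/
theorem smul_S0_inj {g g' : S6} (h : g • S0 = g' • S0) : g • pOne = g' • pOne := by
  have h1 : g⁻¹ * g' ∈ K0 := by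
    rw [K0, mem_stabilizer_iff, mul_smul, ← h, inv_smul_smul]
  rw [K0_eq, mem_stabilizer_iff, mul_smul, inv_smul_eq_iff] at h1
  exact h1.symm

end Cfsg.Lib.SuzPres.RankThree
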