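import Cfsg.Agent.SuzPres.RankThree.GDefs

/-!
Kernel checks for the graph on the 416 points and the orbits of a point stabiliser.
-/

set_option autoImplicit false
set_option maxRecDepth 8000
set_option Elab.async false

namespace Cfsg.Lib.SuzPres.RankThree

open Cfsg.Lib.CosetCert Cfsg.Lib.PermCert

theorem pts_ok : ((List.range 416).all fun i => Nat.blt (ptN i) 1782 && mask1.testBit (ptN i) &&
      (idxN (ptN i) == i)) = true ∧
    ((List.range 1782).all fun z => !mask1.testBit z || (Nat.blt (idxN z) 416 && (ptN (idxN z) == z))) = true ∧
    ptN u0Loc = 995 ∧ u0Loc < 416 := by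
  decide +kernel

theorem loc_ok : ((List.range 6).all fun l => (List.range 416).all fun i =>
    Nat.blt (locN l i) 416 && (ptN (locN l i) == evalW tabs [l] (ptN i))) = true := by decide +kernel

theorem row0_ok : ((List.range 416).all fun j => adjL u0Loc j == mask100.testBit (ptN j)) = true := by
  decide +kernel

theorem rows_ok : rowsOK (1 <<< u0Loc) locTree = true := by decide +kernel

theorem loc_cover : ((List.range 416).all fun i => (locMask locTree (1 <<< u0Loc)).testBit i) = true := by
  decide +kernel

theorem aut_cands : (List.range 6).map (fun k => (candOf k).length) = [416, 100, 36, 14, 4, 6] ∧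
    autBase.all (fun b => Nat.blt b 416) = true := by decide +kernel

theorem aut_rounds : ((List.range rounds.length).all fun k =>
      (rounds.getD k []).all fun x => lonely (fixedAfter k) x) = true ∧
    ((List.range 416).all fun x => (fixedAfter rounds.length).testBit x) = true ∧
    ((List.range 417).all fun k => Nat.blt rounds.length k || Nat.blt (fixedAfter k) (2 ^ 416)) = true := by
  decide +kernel

theorem stab_ok : (stabW.all fun w => sixWord w && ((List.range 1782).all fun z =>
      !goodMask.testBit z || goodMask.testBit (evalW tabs w z))) = true := by decide +kernel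

theorem classes_ok : sClasses.length = 4 ∧
    (sClasses.all fun o => Nat.blt o.1 1782 && scanOrb tabs 1782 stabW (1 <<< o.1) o.2) = true ∧
    ((List.range 1782).all fun z => mask2.testBit z == (List.range 4).any fun i => (sMask i).testBit z) = true ∧
    (List.range 4).map (fun i => JTwo.cnt (sMask i)) = [1, 1024, 20, 320] ∧
    sMask 0 = 1 <<< 1 := by decide +kernel

theorem classes_disj : ((List.range 4).all fun i => (List.range 1782).all fun z =>
    !(sMask i).testBit z || (List.range i).all fun j => !(sMask j).testBit z) = true := by decide +kernel

theorem hj_ok : JTwo.cnt mask100 = 100 ∧ JTwo.cnt mask315 = 315 ∧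
    ((List.range 1782).all fun z => mask1.testBit z ==
      ((z == 995) || mask100.testBit z || mask315.testBit z)) = true ∧
    mask100.testBit 995 = false ∧ mask315.testBit 995 = false := by decide +kernel

end Cfsg.Lib.SuzPres.RankThree
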