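import Cfsg.Agent.SuzPres.RankThree.VDefs
import Cfsg.Agent.SuzPres.RankThree.GData

/-!
Tests for the graph on the 416 points and the orbits of a point stabiliser.
-/

set_option autoImplicit false

namespace Cfsg.Lib.SuzPres.RankThree

open Cfsg.Lib.CosetCert Cfsg.Lib.PermCert

/-- The point with a number. -/
def ptN (i : ℕ) : ℕ := ap ptTab i

/-- The number of a point. -/
def idxN (z : ℕ) : ℕ := ap idxTab z

/-- A letter on the numbers. -/
def locN (l i : ℕ) : ℕ := ap (locTabs.getD l (0, 0)).1 i

/-- Adjacency of two numbered points. -/
def adjL (i j : ℕ) : Bool := (rows.getD i 0).testBit j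

/-- The suborbit of 100 points. -/
def mask100 : ℕ := JTwo.treeMask JTwo.orbit0

/-- The rows follow a spanning tree. -/
def rowsOK : ℕ → List (ℕ × ℕ × ℕ) → Bool
  | _, [] => true
  | seen, (q, par, l) :: r =>
    seen.testBit par && Nat.blt q 416 && Nat.blt par 416 && Nat.blt l 6 && (locN l par == q) &&
      ((List.range 416).all fun j => adjL q (locN l j) == adjL par j) && rowsOK (seen ||| 1 <<< q) r

/-- The union of the reached numbers. -/
def locMask : List (ℕ × ℕ × ℕ) → ℕ → ℕ
  | [], s => s
  | (q, _, _) :: r, s => locMask r (s ||| 1 <<< q)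

/-- Points that look like the next base point from the earlier ones. -/
def candOf (k : ℕ) : List ℕ :=
  (List.range 416).filter fun x => (List.range k).all fun t =>
    (adjL (autBase.getD t 0) x == adjL (autBase.getD t 0) (autBase.getD k 0)) && (x != autBase.getD t 0)

/-- The points fixed after some rounds. -/
def fixedAfter (k : ℕ) : ℕ := (autBase ++ (rounds.take k).flatten).foldl (fun s i => s ||| 1 <<< i) 0

/-- A point is the only one not fixed with its pattern. -/
def lonely (F x : ℕ) : Bool :=
  Nat.blt x 416 && !F.testBit x &&
    (List.range 416).all fun y => F.testBit y || (y == x) || !(rows.getD y 0 &&& F == rows.getD x 0 &&& F)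

/-- The orbits of a stabiliser of a point among the 1365. -/
def sMask (i : ℕ) : ℕ := JTwo.treeMask (sClasses.getD i (0, []))

end Cfsg.Lib.SuzPres.RankThree
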