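import Cfsg.Agent.SuzPres.RankThree.JDefs

/-!
Kernel checks for the Sylow 5-subgroups of the subgroup on five letters.
-/

set_option autoImplicit false
set_option maxRecDepth 8000
set_option Elab.async false

namespace Cfsg.Lib.SuzPres.RankThree

open Cfsg.Lib.CosetCert Cfsg.Lib.PermCert

theorem words_five : (([aW, bW] ++ kW ++ nW).all JTwo.fiveWord) = true := by decide +kernel

theorem sizes_ok : kW.length = 18 ∧ nW.length = 300 ∧ entries.length = 2016 ∧ mates.length = 5 ∧
    chainU.map (fun S => S.lev.b) = bases ∧
    Nat.blt nGen.1 300 = true ∧ Nat.blt nGen.2 300 = true := by decide +kernel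

theorem p_ok : imgs (repW 5 aW) = imgs [] ∧ imgs (repW 5 bW) = imgs [] ∧ imgs (aW ++ bW) = imgs (bW ++ aW) ∧
    ((List.range 5).all fun i => (List.range 5).all fun j => pImgs.getD (5 * i + j) [] == imgs (pW i j)) = true ∧
    pImgs.length = 25 ∧
    ((List.range 25).all fun i => (List.range i).all fun j => pImgs.getD i [] != pImgs.getD j []) = true := by
  decide +kernel

theorem n_norm : (nW.all fun n => pImgs.contains (imgs (conjW aW n)) && pImgs.contains (imgs (conjW bW n))) = true := by
  decide +kernel

theorem n_distinct : incr code nW = true := by decide +kernel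

theorem fix_mem : (fixSet.all fun z => Nat.blt z 1782 && mask315.testBit z &&
    (List.range 25).any fun k => !(k == 0) && (evalW tabs (pW (k / 5) (k % 5)) z == z)) = true := by decide +kernel

theorem fix_all : ((List.range 1782).all fun z => !mask315.testBit z || fixSet.contains z ||
    (List.range 25).all fun k => (k == 0) || (evalW tabs (pW (k / 5) (k % 5)) z != z)) = true := by decide +kernel

theorem entries_ok : (entries.all fun e => Nat.blt e.1 18 && Nat.blt e.2 300 &&
    ((e.1 == 0) || (e.1 == 8) || (goodCerts.map Prod.fst).contains e.1)) = true ∧
    (entries.filter fun e => e.1 == 0).length = 1 ∧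
    ((List.range 2016).all fun j => !((entries.getD j (0, 0)).1 == 8) || mates.contains j ||
      (otherCerts.map Prod.fst).contains j) = true := by decide +kernel

theorem entries_distinct : incr (fun e => maskE (eW e)) entries = true := by decide +kernel

theorem good_ok : (goodCerts.all fun e => certOK (alphGood e.1) e.2) = true := by decide +kernel

theorem other_ok : (otherCerts.all fun e => certOK (alphOther e.1) e.2) = true := by decide +kernel

theorem norm_ok : certOK alphNorm normCert = true := by decide +kernel

end Cfsg.Lib.SuzPres.RankThree
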