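import Cfsg.Agent.SuzPres.RankThree.JCheck
import Cfsg.Agent.SuzPres.JTwoLocal

/-!
A subgroup of the group on five letters of order divisible by 25 and index at most 416 is the whole group.
-/

set_option autoImplicit false
set_option maxRecDepth 8000

namespace Cfsg.Lib.SuzPres.RankThree

open Cfsg.Lib.CosetCert Cfsg.Lib.PermCert

/-- The group on five letters. -/
abbrev F5 : Type := ↥(first 5)

/-- A letter in the group on five letters. -/
def imF (l : ℕ) : F5 := if h : l < 5 then ⟨im l, im_mem h⟩ else 1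

theorem five_lt {w : List ℕ} (h : JTwo.fiveWord w = true) : ∀ l ∈ w, l < 5 := fun l hl =>
  of_decide_eq_true (List.all_eq_true.1 h l hl)

theorem coe_wvalF : ∀ {w : List ℕ}, JTwo.fiveWord w = true → ((wval imF w : F5) : Cfsg.Spor.Suz) = wval im w
  | [], _ => by simp [wval]
  | l :: w, h => by
    have hl := five_lt h l List.mem_cons_self
    have hw : JTwo.fiveWord w = true := List.all_eq_true.2 fun a ha =>
      decide_eq_true (five_lt h a (List.mem_cons_of_mem l ha))
    rw [wval_cons, wval_cons, Subgroup.coe_mul, coe_wvalF hw]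
    simp [imF, hl]

theorem five_append {u v : List ℕ} (hu : JTwo.fiveWord u = true) (hv : JTwo.fiveWord v = true) :
    JTwo.fiveWord (u ++ v) = true := by
  simp only [JTwo.fiveWord, List.all_append, Bool.and_eq_true]
  exact ⟨hu, hv⟩

theorem five_reverse {u : List ℕ} (hu : JTwo.fiveWord u = true) : JTwo.fiveWord u.reverse = true := by
  simpa [JTwo.fiveWord] using hu

theorem five_rep {u : List ℕ} (hu : JTwo.fiveWord u = true) : ∀ n, JTwo.fiveWord (repW n u) = true
  | 0 => rfl
  | n + 1 => five_append hu (five_rep hu n)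

theorem five_flat {L : List (List ℕ)} (hL : L.all JTwo.fiveWord = true) :
    ∀ (c : List ℕ), JTwo.fiveWord (expand L c) = true
  | [] => rfl
  | i :: c => by
    refine five_append (v := expand L c) ?_ (five_flat hL c)
    show JTwo.fiveWord (L.getD i []) = true
    by_cases hi : i < L.length
    · rw [List.getD_eq_getElem _ _ hi]
      exact List.all_eq_true.1 hL _ (List.getElem_mem hi)
    · rw [List.getD_eq_default _ _ (not_lt.1 hi)]
      rfl

theorem aW_five : JTwo.fiveWord aW = true :=
  List.all_eq_true.1 words_five aW (List.mem_append_left _ (List.mem_append_left _ List.mem_cons_self))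

theorem bW_five : JTwo.fiveWord bW = true :=
  List.all_eq_true.1 words_five bW
    (List.mem_append_left _ (List.mem_append_left _ (List.mem_cons_of_mem _ List.mem_cons_self)))

theorem kW_five (c : ℕ) : JTwo.fiveWord (kW.getD c []) = true := by
  by_cases hc : c < kW.length
  · rw [List.getD_eq_getElem _ _ hc]
    exact List.all_eq_true.1 words_five _ (List.mem_append_left _ (List.mem_append_right _ (List.getElem_mem hc)))
  · rw [List.getD_eq_default _ _ (not_lt.1 hc)]
    rfl

theorem nW_five (c : ℕ) : JTwo.fiveWord (nW.getD c []) = true := by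
  by_cases hc : c < nW.length
  · rw [List.getD_eq_getElem _ _ hc]
    exact List.all_eq_true.1 words_five _ (List.mem_append_right _ (List.getElem_mem hc))
  · rw [List.getD_eq_default _ _ (not_lt.1 hc)]
    rfl

theorem eW_five (e : ℕ × ℕ) : JTwo.fiveWord (eW e) = true := five_append (kW_five _) (nW_five _)

theorem pW_five (i j : ℕ) : JTwo.fiveWord (pW i j) = true := five_append (five_rep aW_five i) (five_rep bW_five j)

theorem conjW_five {u w : List ℕ} (hu : JTwo.fiveWord u = true) (hw : JTwo.fiveWord w = true) :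
    JTwo.fiveWord (conjW u w) = true :=
  five_append (five_append (five_reverse hw) hu) hw

theorem wvalF_append (u v : List ℕ) : wval imF (u ++ v) = wval imF u * wval imF v := wval_append' u v

theorem wvalF_rep (u : List ℕ) : ∀ n, wval imF (repW n u) = wval imF u ^ n
  | 0 => by simp [repW, wval]
  | n + 1 => by
    rw [show repW (n + 1) u = u ++ repW n u from rfl, wvalF_append, wvalF_rep u n, pow_succ']

theorem wvalF_conj {u w : List ℕ} (hw : JTwo.fiveWord w = true) :
    wval imF (conjW u w) = (wval imF w)⁻¹ * wval imF u * wval imF w := by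
  rw [conjW, wvalF_append, wvalF_append]
  congr 2
  refine wval_reverse imF fun l hl => ?_
  have h := five_lt hw l hl
  refine Subtype.ext ?_
  simp only [imF, h, dite_true, Subgroup.coe_mul, Subgroup.coe_one]
  exact good_im.inv (by omega)

theorem evalF {w : List ℕ} (hw : JTwo.fiveWord w = true) (x : Fin 1782) :
    ((((wval imF w : F5) : Cfsg.Spor.Suz))⁻¹ • x : Fin 1782).val = evalW tabs w x.val := by
  rw [coe_wvalF hw]
  exact JTwo.word_smul (fun l hl => by have := five_lt hw l hl; omega) x

theorem imgs_sound {u v : List ℕ} (hu : JTwo.fiveWord u = true) (hv : JTwo.fiveWord v = true)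
    (h : imgs u = imgs v) : wval imF u = wval imF v := by
  refine Subtype.ext ?_
  rw [coe_wvalF hu, coe_wvalF hv]
  have hu7 : ∀ l ∈ u, l < 7 := fun l hl => by have := five_lt hu l hl; omega
  have hv7 : ∀ l ∈ v, l < 7 := fun l hl => by have := five_lt hv l hl; omega
  refine images_unique (Or.inl rfl) (images_map (fun S => evalW tabs u S.lev.b) fun S _ p hp => ?_)
    (images_map _ fun S hS p hp => ?_)
  · rw [evalW_apply im psi tabs psi_im u hu7 p, hp]
  · rw [evalW_apply im psi tabs psi_im v hv7 p, hp]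
    have hb : S.lev.b ∈ bases := sizes_ok.2.2.2.2.1 ▸ List.mem_map.2 ⟨S, hS, rfl⟩
    exact (List.map_eq_map_iff.1 h S.lev.b hb).symm

theorem imgs_eq {u v : List ℕ} (hu : JTwo.fiveWord u = true) (hv : JTwo.fiveWord v = true)
    (h : wval imF u = wval imF v) : imgs u = imgs v := by
  refine List.map_congr_left fun b hb => ?_
  have hb' : b < 1782 := by
    have h0 : bases.all (fun b => Nat.blt b 1782) = true := by decide
    exact Nat.le_of_ble_eq_true (List.all_eq_true.1 h0 b hb)
  rw [← evalF hu ⟨b, hb'⟩, h, evalF hv ⟨b, hb'⟩]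

/-- The Sylow 5-subgroup. -/
def P5 : Subgroup F5 := Subgroup.closure {wval imF aW, wval imF bW}

theorem a_mem : wval imF aW ∈ P5 := Subgroup.subset_closure (Set.mem_insert _ _)

theorem b_mem : wval imF bW ∈ P5 := Subgroup.subset_closure (Set.mem_insert_of_mem _ rfl)

theorem pW_val (i j : ℕ) : wval imF (pW i j) = wval imF aW ^ i * wval imF bW ^ j := by
  rw [pW, wvalF_append, wvalF_rep, wvalF_rep]

theorem pW_mem (i j : ℕ) : wval imF (pW i j) ∈ P5 := by
  rw [pW_val]
  exact mul_mem (pow_mem a_mem i) (pow_mem b_mem j)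

theorem a_pow : wval imF aW ^ 5 = 1 := by
  rw [← wvalF_rep, imgs_sound (five_rep aW_five 5) rfl p_ok.1]
  rfl

theorem b_pow : wval imF bW ^ 5 = 1 := by
  rw [← wvalF_rep, imgs_sound (five_rep bW_five 5) rfl p_ok.2.1]
  rfl

theorem ab_comm : Commute (wval imF aW) (wval imF bW) := by
  have := imgs_sound (five_append aW_five bW_five) (five_append bW_five aW_five) p_ok.2.2.1
  rwa [wvalF_append, wvalF_append] at this

theorem P5_elems {q : F5} (hq : q ∈ P5) : ∃ k : Fin 25, q = wval imF (pW (k.val / 5) (k.val % 5)) := by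
  have hpow : ∀ (x : F5), x ^ 5 = 1 → ∀ n, x ^ n = x ^ (n % 5) := fun x hx n => by
    conv_lhs => rw [← Nat.mod_add_div n 5, pow_add, pow_mul, hx, one_pow, mul_one]
  have key : ∀ i j, ∃ k : Fin 25, wval imF aW ^ i * wval imF bW ^ j = wval imF (pW (k.val / 5) (k.val % 5)) := by
    intro i j
    refine ⟨⟨5 * (i % 5) + j % 5, by omega⟩, ?_⟩
    rw [pW_val, hpow _ a_pow i, hpow _ b_pow j]
    congr 2 <;> simp only <;> omega
  have hform : ∃ i j, q = wval imF aW ^ i * wval imF bW ^ j := by
    induction hq using Subgroup.closure_induction with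
    | mem y hy =>
      rcases hy with rfl | rfl
      · exact ⟨1, 0, by simp⟩
      · exact ⟨0, 1, by simp⟩
    | one => exact ⟨0, 0, by simp⟩
    | mul x y _ _ hx hy =>
      obtain ⟨i, j, rfl⟩ := hx
      obtain ⟨i', j', rfl⟩ := hy
      refine ⟨i + i', j + j', ?_⟩
      rw [pow_add, pow_add, mul_assoc (wval imF aW ^ i), ← mul_assoc (wval imF bW ^ j),
        ((ab_comm.symm.pow_pow j i')).eq, mul_assoc, mul_assoc]
    | inv x _ hx =>
      obtain ⟨i, j, rfl⟩ := hx
      refine ⟨4 * i, 4 * j, inv_eq_of_mul_eq_one_right ?_⟩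
      rw [mul_assoc, ← mul_assoc (wval imF bW ^ j), (ab_comm.symm.pow_pow j (4 * i)).eq, mul_assoc, ← mul_assoc,
        ← pow_add, ← pow_add, show i + 4 * i = 5 * i by omega, show j + 4 * j = 5 * j by omega, pow_mul, pow_mul,
        a_pow, b_pow, one_pow, one_pow, one_mul]
  obtain ⟨i, j, rfl⟩ := hform
  exact key i j

theorem pImg_eq (k : ℕ) (hk : k < 25) : pImgs.getD k [] = imgs (pW (k / 5) (k % 5)) := by
  have h := List.all_eq_true.1 (List.all_eq_true.1 p_ok.2.2.2.1 (k / 5) (List.mem_range.2 (by omega))) (k % 5)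
    (List.mem_range.2 (by omega))
  rw [show 5 * (k / 5) + k % 5 = k from Nat.div_add_mod k 5, beq_iff_eq] at h
  exact h

theorem pW_inj {k k' : Fin 25}
    (h : wval imF (pW (k.val / 5) (k.val % 5)) = wval imF (pW (k'.val / 5) (k'.val % 5))) : k = k' := by
  have key : ∀ a b : Fin 25, b < a →
      wval imF (pW (a.val / 5) (a.val % 5)) ≠ wval imF (pW (b.val / 5) (b.val % 5)) := by
    intro a b hlt e
    have hne := List.all_eq_true.1 (List.all_eq_true.1 p_ok.2.2.2.2.2 a.val (List.mem_range.2 a.isLt)) b.val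
      (List.mem_range.2 hlt)
    rw [bne_iff_ne, pImg_eq _ a.isLt, pImg_eq _ b.isLt] at hne
    exact hne (imgs_eq (pW_five _ _) (pW_five _ _) e)
  rcases lt_trichotomy k k' with hlt | heq | hlt
  · exact absurd h.symm (key k' k hlt)
  · exact heq
  · exact absurd h (key k k' hlt)

theorem card_P5 : Nat.card P5 = 25 := by
  have hb : Function.Bijective fun k : Fin 25 => (⟨_, pW_mem (k.val / 5) (k.val % 5)⟩ : P5) := by
    refine ⟨fun k k' e => pW_inj (congrArg Subtype.val e), fun q => ?_⟩
    obtain ⟨k, hk⟩ := P5_elems q.2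
    exact ⟨k, Subtype.ext hk.symm⟩
  rw [← Nat.card_eq_of_bijective _ hb, Nat.card_fin]

/-- The conjugate named by a word. -/
def QW (w : List ℕ) : Subgroup F5 := P5.map (MulAut.conj (wval imF w)⁻¹).toMonoidHom

theorem gens_le {w : List ℕ} {L : Subgroup F5} (h : QW w ≤ L) (hw : JTwo.fiveWord w = true) :
    ∀ u ∈ qGens w, wval imF u ∈ L := by
  intro u hu
  simp only [qGens, List.mem_cons, List.not_mem_nil, or_false] at hu
  rcases hu with rfl | rfl
  · exact h ⟨_, a_mem, by simp [wvalF_conj hw]⟩
  · exact h ⟨_, b_mem, by simp [wvalF_conj hw]⟩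

theorem top_of_cert {alph cs : List (List ℕ)} (h : certOK alph cs = true) {L : Subgroup F5}
    (hL : ∀ u ∈ alph, wval imF u ∈ L) : L = ⊤ := by
  simp only [certOK, Bool.and_eq_true, List.all_eq_true, List.mem_range, beq_iff_eq] at h
  obtain ⟨⟨-, hf⟩, hc⟩ := h
  have hflat : ∀ c : List ℕ, (∀ i ∈ c, i < alph.length) → wval imF (expand alph c) ∈ L := fun c hc' =>
    genWordL_mem (gens := alph) hL hc'
  have hgen : ∀ l, l < 5 → imF l ∈ L := by
    intro l hl
    obtain ⟨h1, h2⟩ := hc l hl
    have := hflat _ fun i hi => Nat.le_of_ble_eq_true (h1 i hi)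
    rw [imgs_sound (five_flat (List.all_eq_true.2 hf) _) (by simp [JTwo.fiveWord, hl]) h2, wval_cons, wval_nil,
      mul_one] at this
    exact this
  refine eq_top_iff.2 fun x _ => ?_
  have : first 5 ≤ L.map (first 5).subtype := by
    refine (Subgroup.closure_le _).2 ?_
    rintro _ ⟨l, hl, rfl⟩
    exact ⟨imF l, hgen l hl, by simp [imF, show l < 5 from hl]⟩
  obtain ⟨y, hy, e⟩ := this x.2
  exact (Subtype.ext e : y = x) ▸ hy

/-- A set on which the normaliser of the Sylow subgroup acts. -/
def fixPts : Set (Fin 1782) := {z | z.val ∈ fixSet}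

theorem smul_mask315 (g : F5) (z : Fin 1782) :
    mask315.testBit z.val = true ↔ mask315.testBit ((g : Cfsg.Spor.Suz) • z).val = true := by
  refine JTwo.closed_first (by norm_num) (T := maskSet mask315) (fun l hl x hx => ?_) g.1 g.2 z
  rw [mem_maskSet] at hx ⊢
  rw [im_smul (by omega)]
  have h := JTwo.orbit1_ok
  simp only [JTwo.orbitOK, Bool.and_eq_true, List.all_eq_true, List.mem_range, Bool.or_eq_true,
    Bool.not_eq_true'] at h
  rcases h.1.1.1.2 x.val x.isLt with e | e
  · rw [show JTwo.treeMask JTwo.orbit1 = mask315 from rfl, hx] at e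
    exact Bool.noConfusion e
  · exact e [l] (JTwo.letters_five l hl)

theorem mem_fixPts {z : Fin 1782} :
    z ∈ fixPts ↔ mask315.testBit z.val = true ∧ ∃ q ∈ P5, q ≠ 1 ∧ ((q : Cfsg.Spor.Suz) • z) = z := by
  constructor
  · intro hz
    have h := List.all_eq_true.1 fix_mem z.val hz
    simp only [Bool.and_eq_true, List.any_eq_true, List.mem_range, Bool.not_eq_true', beq_eq_false_iff_ne,
      beq_iff_eq] at h
    obtain ⟨⟨-, hm⟩, k, hk, hk0, hev⟩ := h
    refine ⟨hm, (wval imF (pW (k / 5) (k % 5))), pW_mem _ _, fun e => hk0 ?_, ?_⟩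
    · have e0 : wval imF (pW (k / 5) (k % 5)) = wval imF (pW (0 / 5) (0 % 5)) := by
        rw [e, pW_val]; simp
      exact congrArg Fin.val (pW_inj (k := ⟨k, hk⟩) (k' := ⟨0, by norm_num⟩) e0)
    · have := evalF (pW_five (k / 5) (k % 5)) z
      rw [hev] at this
      exact (inv_smul_eq_iff.1 (Fin.ext this)).symm
  · rintro ⟨hm, q, hq, hq1, hfix⟩
    obtain ⟨k, rfl⟩ := P5_elems hq
    have h := List.all_eq_true.1 fix_all z.val (List.mem_range.2 z.isLt)
    simp only [Bool.or_eq_true, Bool.not_eq_true', List.all_eq_true, List.mem_range, beq_iff_eq, bne_iff_ne,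
      List.contains_iff_mem] at h
    rcases h with (h | h) | h
    · rw [hm] at h; exact Bool.noConfusion h
    · exact h
    · rcases h k.val k.isLt with e | e
      · refine absurd ?_ hq1
        rw [e, pW_val]; simp
      · refine absurd ?_ e
        rw [← evalF (pW_five _ _) z, inv_smul_eq_iff.2 hfix.symm]

theorem fixPts_norm {n : F5} (hn : ∀ q ∈ P5, n * q * n⁻¹ ∈ P5) {z : Fin 1782} (hz : z ∈ fixPts) :
    (n : Cfsg.Spor.Suz) • z ∈ fixPts := by
  obtain ⟨hm, q, hq, hq1, hfix⟩ := mem_fixPts.1 hz
  refine mem_fixPts.2 ⟨(smul_mask315 n z).1 hm, n * q * n⁻¹, hn q hq, by simpa using hq1, ?_⟩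
  simp only [Subgroup.coe_mul, InvMemClass.coe_inv, mul_smul, inv_smul_smul, hfix]

/-- The normaliser of the Sylow subgroup. -/
def N5 : Subgroup F5 := Subgroup.normalizer (P5 : Set F5)

theorem mem_N5 {n : F5} : n ∈ N5 ↔ ∀ q, q ∈ P5 ↔ n * q * n⁻¹ ∈ P5 := Subgroup.mem_normalizer_iff

theorem finite_F5 : Finite F5 := bound5.1

theorem nW_mem {i : ℕ} (hi : i < 300) : wval imF (nW.getD i []) ∈ N5 := by
  haveI := finite_F5
  have hlen : i < nW.length := by rw [sizes_ok.2.1]; exact hi
  have h := List.all_eq_true.1 n_norm _ (List.getD_eq_getElem nW [] hlen ▸ List.getElem_mem hlen)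
  simp only [Bool.and_eq_true, List.contains_iff_mem] at h
  have conv : ∀ u, JTwo.fiveWord u = true → imgs (conjW u (nW.getD i [])) ∈ pImgs →
      (wval imF (nW.getD i []))⁻¹ * wval imF u * wval imF (nW.getD i []) ∈ P5 := by
    intro u hu hm
    obtain ⟨k, hk, e⟩ := List.getElem_of_mem hm
    have hk' : k < 25 := by rw [← p_ok.2.2.2.2.1]; exact hk
    rw [← List.getD_eq_getElem pImgs [] hk, pImg_eq k hk'] at e
    rw [← wvalF_conj (nW_five i), imgs_sound (conjW_five hu (nW_five i)) (pW_five _ _) e.symm]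
    exact pW_mem _ _
  set n := wval imF (nW.getD i []) with hn
  have hle : P5.map (MulAut.conj n⁻¹).toMonoidHom ≤ P5 := by
    rw [P5, MonoidHom.map_closure]
    refine (Subgroup.closure_le _).2 ?_
    rintro _ ⟨u, hu, rfl⟩
    rcases hu with rfl | rfl
    · simpa [P5] using conv aW aW_five h.1
    · simpa [P5] using conv bW bW_five h.2
  have heq : P5.map (MulAut.conj n⁻¹).toMonoidHom = P5 :=
    Subgroup.eq_of_le_of_card_ge hle (le_of_eq (Subgroup.card_map_of_injective (MulAut.conj n⁻¹).injective).symm)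
  rw [mem_N5]
  intro q
  constructor
  · intro hq
    obtain ⟨p, hp, e⟩ := heq.ge hq
    rw [← e]
    simpa [mul_assoc] using hp
  · intro hq
    exact heq.le ⟨_, hq, by simp [mul_assoc]⟩

theorem incr_chain {α : Type} (f : α → ℕ) : ∀ {l : List α}, incr f l = true → l.Pairwise fun x y => f x < f y
  | [], _ => List.Pairwise.nil
  | [x], _ => List.pairwise_singleton _ x
  | x :: y :: r, h => by
    simp only [incr, Bool.and_eq_true] at h
    have ih := incr_chain f h.2
    have hxy : f x < f y := Nat.le_of_ble_eq_true h.1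
    refine List.pairwise_cons.2 ⟨fun z hz => ?_, ih⟩
    rcases List.mem_cons.1 hz with rfl | hz
    · exact hxy
    · exact hxy.trans ((List.pairwise_cons.1 ih).1 z hz)

theorem incr_lt {α : Type} (f : α → ℕ) (d : α) (l : List α) (i j : ℕ) (h : incr f l = true) (hij : i < j)
    (hj : j < l.length) : f (l.getD i d) < f (l.getD j d) := by
  rw [List.getD_eq_getElem _ _ (lt_trans hij hj), List.getD_eq_getElem _ _ hj]
  exact List.pairwise_iff_getElem.1 (incr_chain f h) i j _ _ hij

theorem card_N5_ge : 300 ≤ Nat.card N5 := by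
  haveI := finite_F5
  let f : Fin 300 → N5 := fun i => ⟨_, nW_mem i.isLt⟩
  have hf : Function.Injective f := by
    intro i j e
    have e' : code (nW.getD i.val []) = code (nW.getD j.val []) := by
      rw [code, code, imgs_eq (nW_five _) (nW_five _) (congrArg Subtype.val e)]
    rcases lt_trichotomy i.val j.val with hlt | heq | hlt
    · exact absurd e' (incr_lt code [] nW _ _ n_distinct hlt (sizes_ok.2.1.symm ▸ j.isLt)).ne
    · exact Fin.ext heq
    · exact absurd e'.symm (incr_lt code [] nW _ _ n_distinct hlt (sizes_ok.2.1.symm ▸ i.isLt)).ne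
  simpa using Nat.card_le_card_of_injective f hf

theorem index_facts :
    N5.index = 2016 ∧ Nat.card N5 = 300 ∧
      ∀ x : F5, ∃ e ∈ entries, P5.map (MulAut.conj x).toMonoidHom = QW (eW e) := by
  classical
  haveI := finite_F5
  have hlen := sizes_ok.2.2.1
  let g : Fin 2016 → F5 := fun i => (wval imF (eW (entries.getD i.val (0, 0))))⁻¹
  let f : Fin 2016 → F5 ⧸ N5 := fun i => (g i : F5 ⧸ N5)
  have hmask : ∀ (w : List ℕ), JTwo.fiveWord w = true → ∀ y : Fin 1782,
      (maskE w).testBit y.val = true ↔ (wval imF w : F5).1 • y ∈ fixPts := by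
    intro w hw y
    have key : ∀ (l : List ℕ) (s : ℕ), (l.foldl (fun s z => s ||| 1 <<< evalW tabs w z) s).testBit y.val = true ↔
        s.testBit y.val = true ∨ ∃ z ∈ l, evalW tabs w z = y.val := by
      intro l
      induction l with
      | nil => simp
      | cons a l ih =>
        intro s
        rw [List.foldl_cons, ih, Nat.testBit_or, Bool.or_eq_true, Nat.one_shiftLeft, Nat.testBit_two_pow,
          decide_eq_true_eq]
        simp [or_assoc]
    rw [maskE, key]
    simp only [Nat.zero_testBit, Bool.false_eq_true, false_or]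
    constructor
    · rintro ⟨z, hz, e⟩
      have hz' : z < 1782 := by
        have h := List.all_eq_true.1 fix_mem z hz
        simp only [Bool.and_eq_true] at h
        exact Nat.le_of_ble_eq_true h.1.1
      have e' : (wval imF w : F5).1⁻¹ • (⟨z, hz'⟩ : Fin 1782) = y := Fin.ext ((evalF hw _).trans e)
      rw [← e', smul_inv_smul]
      exact hz
    · intro h
      refine ⟨_, h, ?_⟩
      rw [← evalF hw ((wval imF w : F5).1 • y), inv_smul_smul]
  have hinj : Function.Injective f := by
    have key : ∀ i j : Fin 2016, i.val < j.val → f i ≠ f j := by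
      intro i j hij e
      have hn : (g i)⁻¹ * g j ∈ N5 := QuotientGroup.eq.1 e
      have hlt := incr_lt (fun e => maskE (eW e)) (0, 0) entries _ _ entries_distinct hij (hlen.symm ▸ j.isLt)
      refine hlt.ne (Nat.eq_of_testBit_eq fun y => ?_)
      by_cases hy : y < 1782
      · rw [Bool.eq_iff_iff, hmask _ (eW_five _) ⟨y, hy⟩, hmask _ (eW_five _) ⟨y, hy⟩]
        set a := wval imF (eW (entries.getD i.val (0, 0)))
        set b := wval imF (eW (entries.getD j.val (0, 0)))
        have hab : a * b⁻¹ ∈ N5 := by simpa [g, a, b] using hn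
        have hba : b * a⁻¹ ∈ N5 := by simpa using inv_mem hab
        constructor
        · intro h
          have := fixPts_norm (fun q hq => (mem_N5.1 hba q).1 hq) h
          simpa [mul_smul] using this
        · intro h
          have := fixPts_norm (fun q hq => (mem_N5.1 hab q).1 hq) h
          simpa [mul_smul] using this
      · have hbit : ∀ w, JTwo.fiveWord w = true → (maskE w).testBit y = false := by
          intro w hw
          have key : ∀ (l : List ℕ) (s : ℕ), (∀ z ∈ l, z < 1782) → s.testBit y = false →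
              (l.foldl (fun s z => s ||| 1 <<< evalW tabs w z) s).testBit y = false := by
            intro l
            induction l with
            | nil => intro s _ hs; exact hs
            | cons a l ih =>
              intro s hz hs
              rw [List.foldl_cons]
              refine ih _ (fun z hz' => hz z (List.mem_cons_of_mem a hz')) ?_
              rw [Nat.testBit_or, hs, Bool.false_or, Nat.one_shiftLeft, Nat.testBit_two_pow, decide_eq_false_iff_not,
                ← evalF hw ⟨a, hz a List.mem_cons_self⟩]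
              intro e
              exact hy (e ▸ Fin.isLt _)
          refine key fixSet 0 (fun z hz => ?_) (Nat.zero_testBit _)
          have h := List.all_eq_true.1 fix_mem z hz
          simp only [Bool.and_eq_true] at h
          exact Nat.le_of_ble_eq_true h.1.1
        rw [hbit _ (eW_five _), hbit _ (eW_five _)]
    intro i j e
    rcases lt_trichotomy i.val j.val with h | h | h
    · exact absurd e (key i j h)
    · exact Fin.ext h
    · exact absurd e.symm (key j i h)
  have hge : 2016 ≤ N5.index := by simpa [Subgroup.index] using Nat.card_le_card_of_injective f hinj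
  have hmul : Nat.card N5 * N5.index = 604800 := by
    rw [Subgroup.card_mul_index]; exact card_first_five
  have h300 := card_N5_ge
  have h2 : N5.index = 2016 := by
    have := Nat.mul_le_mul_right N5.index h300
    omega
  refine ⟨h2, by rw [h2] at hmul; omega, fun x => ?_⟩
  have hbij : Function.Bijective f :=
    (Nat.bijective_iff_injective_and_card f).2 ⟨hinj, by rw [Nat.card_fin]; exact h2.symm⟩
  obtain ⟨i, hi⟩ := hbij.2 (x : F5 ⧸ N5)
  refine ⟨entries.getD i.val (0, 0), ?_, ?_⟩
  · rw [List.getD_eq_getElem _ _ (hlen.symm ▸ i.isLt)]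
    exact List.getElem_mem _
  have hn : (g i)⁻¹ * x ∈ N5 := QuotientGroup.eq.1 hi
  have hx : x = g i * ((g i)⁻¹ * x) := by group
  rw [hx]
  ext q
  simp only [QW, Subgroup.mem_map, MulEquiv.coe_toMonoidHom, MulAut.conj_apply]
  constructor
  · rintro ⟨p, hp, rfl⟩
    exact ⟨_, (mem_N5.1 hn p).1 hp, by simp only [g]; group⟩
  · rintro ⟨p, hp, rfl⟩
    refine ⟨_, (mem_N5.1 (inv_mem hn) p).1 hp, ?_⟩
    simp only [g]; group

theorem mem_entries {e : ℕ × ℕ} (he : e ∈ entries) : e.1 < 18 ∧ e.2 < 300 ∧
    (e.1 = 0 ∨ e.1 = 8 ∨ ∃ cs, (e.1, cs) ∈ goodCerts) := by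
  have h := List.all_eq_true.1 entries_ok.1 e he
  simp only [Bool.and_eq_true, Bool.or_eq_true, beq_iff_eq, List.contains_iff_mem, List.mem_map] at h
  refine ⟨Nat.le_of_ble_eq_true h.1.1, Nat.le_of_ble_eq_true h.1.2, ?_⟩
  rcases h.2 with (h' | h') | ⟨⟨c, cs⟩, hc, h'⟩
  · exact Or.inl h'
  · exact Or.inr (Or.inl h')
  · exact Or.inr (Or.inr ⟨cs, by rw [← h']; exact hc⟩)

/-- Conjugating a subgroup that contains a named conjugate back by the normaliser part of its name. -/
theorem shift {L : Subgroup F5} (hP : P5 ≤ L) {e : ℕ × ℕ} (he : e ∈ entries) (hQ : QW (eW e) ≤ L) :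
    P5 ≤ L.map (MulAut.conj (wval imF (nW.getD e.2 []))).toMonoidHom ∧
      QW (kW.getD e.1 []) ≤ L.map (MulAut.conj (wval imF (nW.getD e.2 []))).toMonoidHom := by
  set n := wval imF (nW.getD e.2 []) with hn
  have hmem : n ∈ N5 := nW_mem (mem_entries he).2.1
  constructor
  · intro q hq
    exact ⟨n⁻¹ * q * n, hP (by simpa using (mem_N5.1 (inv_mem hmem) q).1 hq), by
      simp only [MulEquiv.coe_toMonoidHom, MulAut.conj_apply]; group⟩
  · rintro _ ⟨p, hp, rfl⟩
    have hw : wval imF (eW e) = wval imF (kW.getD e.1 []) * n := by rw [eW, wvalF_append]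
    refine ⟨_, hQ ⟨p, hp, rfl⟩, ?_⟩
    simp only [MulEquiv.coe_toMonoidHom, MulAut.conj_apply, hw]
    group

theorem top_of_good {L : Subgroup F5} (hP : P5 ≤ L) {e : ℕ × ℕ} (he : e ∈ entries) (hQ : QW (eW e) ≤ L)
    (h0 : e.1 ≠ 0) (h8 : e.1 ≠ 8) : L = ⊤ := by
  obtain ⟨cs, hcs⟩ := ((mem_entries he).2.2.resolve_left h0).resolve_left h8
  obtain ⟨hP', hQ'⟩ := shift hP he hQ
  have htop := top_of_cert (List.all_eq_true.1 good_ok _ hcs) (L := L.map (MulAut.conj (wval imF (nW.getD e.2 []))).toMonoidHom)
    fun u hu => by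
      simp only [alphGood, List.mem_append, List.mem_cons, List.not_mem_nil, or_false] at hu
      rcases hu with (rfl | rfl) | hu
      · exact hP' a_mem
      · exact hP' b_mem
      · exact gens_le hQ' (kW_five _) u hu
  refine eq_top_iff.2 fun x _ => ?_
  obtain ⟨y, hy, e'⟩ := htop.ge (Subgroup.mem_top (MulAut.conj (wval imF (nW.getD e.2 [])) x))
  exact (MulAut.conj _).injective e' ▸ hy

theorem card_le_conjugates {L : Subgroup F5} (S : Finset (ℕ × ℕ))
    (hS : ∀ l ∈ L, ∀ e ∈ entries, P5.map (MulAut.conj l).toMonoidHom = QW (eW e) → e ∈ S) :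
    Nat.card L ≤ S.card * Nat.card ↥(L ⊓ N5) := by
  classical
  haveI := finite_F5
  have hsame : ∀ l l' : L, (l : L ⧸ N5.subgroupOf L) = (l' : L ⧸ N5.subgroupOf L) ↔
      P5.map (MulAut.conj l.1).toMonoidHom = P5.map (MulAut.conj l'.1).toMonoidHom := by
    intro l l'
    rw [QuotientGroup.eq, Subgroup.mem_subgroupOf, Subgroup.coe_mul, InvMemClass.coe_inv, mem_N5]
    constructor
    · intro h
      ext q
      simp only [Subgroup.mem_map, MulEquiv.coe_toMonoidHom, MulAut.conj_apply]
      constructor
      · rintro ⟨p, hp, rfl⟩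
        exact ⟨(l'.1⁻¹ * l.1) * p * (l'.1⁻¹ * l.1)⁻¹, (h _).2 (by simpa [mul_assoc] using hp), by group⟩
      · rintro ⟨p, hp, rfl⟩
        exact ⟨(l.1⁻¹ * l'.1) * p * (l.1⁻¹ * l'.1)⁻¹, (h p).1 hp, by group⟩
    · intro h q
      constructor
      · intro hq
        obtain ⟨p, hp, e⟩ := h.ge ⟨q, hq, rfl⟩
        simp only [MulEquiv.coe_toMonoidHom, MulAut.conj_apply] at e
        have : p = (l.1⁻¹ * l'.1) * q * (l.1⁻¹ * l'.1)⁻¹ := by
          have e2 : p = l.1⁻¹ * (l'.1 * q * l'.1⁻¹) * l.1 := by rw [← e]; group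
          rw [e2]; group
        exact this ▸ hp
      · intro hq
        obtain ⟨p, hp, e⟩ := h.le ⟨_, hq, rfl⟩
        simp only [MulEquiv.coe_toMonoidHom, MulAut.conj_apply] at e
        have : p = q := by
          have e2 : l'.1 * p * l'.1⁻¹ = l'.1 * q * l'.1⁻¹ := by rw [e]; group
          simpa using e2
        exact this ▸ hp
  choose F hF using index_facts.2.2
  let f : L ⧸ N5.subgroupOf L → S := fun x =>
    ⟨F (Quotient.out x).1, hS _ (Quotient.out x).2 _ (hF _).1 (hF _).2⟩
  have hf : Function.Injective f := by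
    intro x y e
    rw [← QuotientGroup.out_eq' x, ← QuotientGroup.out_eq' y, hsame, (hF _).2, (hF _).2,
      show F (Quotient.out x).1 = F (Quotient.out y).1 from congrArg Subtype.val e]
  have h := Nat.card_le_card_of_injective f hf
  rw [Nat.card_eq_fintype_card (α := S), Fintype.card_coe] at h
  have hK : Nat.card (N5.subgroupOf L) = Nat.card ↥(L ⊓ N5) := by
    rw [← Subgroup.inf_subgroupOf_left]
    exact Nat.card_congr (Subgroup.subgroupOfEquivOfLe inf_le_left).toEquiv
  rw [← Subgroup.card_mul_index (N5.subgroupOf L), hK, mul_comm]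
  exact Nat.mul_le_mul_right _ h

/-- A subgroup containing the Sylow subgroup and of index at most 416 is everything. -/
theorem five_top {L : Subgroup F5} (hP : P5 ≤ L) (hL : 1454 ≤ Nat.card L) : L = ⊤ := by
  classical
  haveI := finite_F5
  obtain ⟨-, hN, -⟩ := index_facts
  have hnf : ∀ M : Subgroup F5, Nat.card ↥(M ⊓ N5) ∣ 300 := fun M => hN ▸ Subgroup.card_dvd_of_le inf_le_right
  have hconj : ∀ {M : Subgroup F5}, P5 ≤ M → ∀ l ∈ M, ∀ {e}, P5.map (MulAut.conj l).toMonoidHom = QW (eW e) →
      QW (eW e) ≤ M := by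
    intro M hM l hl e h
    rw [← h]
    rintro _ ⟨p, hp, rfl⟩
    exact mul_mem (mul_mem hl (hM hp)) (inv_mem hl)
  by_contra hne
  by_cases h8 : ∃ l ∈ L, ∃ e ∈ entries, P5.map (MulAut.conj l).toMonoidHom = QW (eW e) ∧ e.1 = 8
  · obtain ⟨l, hl, e, he, heq, he8⟩ := h8
    obtain ⟨hP', hQ'⟩ := shift hP he (hconj hP l hl heq)
    rw [he8] at hQ'
    set M := L.map (MulAut.conj (wval imF (nW.getD e.2 []))).toMonoidHom with hM
    have hMcard : Nat.card M = Nat.card L := Subgroup.card_map_of_injective (MulAut.conj _).injective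
    have hMne : M ≠ ⊤ := fun h => hne (eq_top_iff.2 fun x _ => by
      obtain ⟨y, hy, e'⟩ := h.ge (Subgroup.mem_top (MulAut.conj (wval imF (nW.getD e.2 [])) x))
      exact (MulAut.conj _).injective e' ▸ hy)
    have hgens : ∀ u ∈ alphGood 8, wval imF u ∈ M := by
      intro u hu
      simp only [alphGood, List.mem_append, List.mem_cons, List.not_mem_nil, or_false] at hu
      rcases hu with (rfl | rfl) | hu
      · exact hP' a_mem
      · exact hP' b_mem
      · exact gens_le hQ' (kW_five _) u hu
    let S : Finset (ℕ × ℕ) := (entries.filter fun e => e.1 == 0).toFinset ∪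
      mates.toFinset.image fun j => entries.getD j (0, 0)
    have hS : S.card ≤ 6 := by
      refine (Finset.card_union_le _ _).trans ?_
      have h1 : (entries.filter fun e => e.1 == 0).toFinset.card ≤ 1 :=
        entries_ok.2.1 ▸ List.toFinset_card_le _
      have h2 : (mates.toFinset.image fun j => entries.getD j (0, 0)).card ≤ 5 :=
        Finset.card_image_le.trans (sizes_ok.2.2.2.1 ▸ List.toFinset_card_le _)
      omega
    have hle := card_le_conjugates (L := M) S fun l hl e' he' heq' => by
      have hQe := hconj hP' l hl heq'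
      by_cases h0 : e'.1 = 0
      · exact Finset.mem_union_left _ (List.mem_toFinset.2 (List.mem_filter.2 ⟨he', by simp [h0]⟩))
      by_cases h8' : e'.1 = 8
      · obtain ⟨j, hj, rfl⟩ := List.getElem_of_mem he'
        have h := List.all_eq_true.1 entries_ok.2.2 j (List.mem_range.2 (sizes_ok.2.2.1 ▸ hj))
        rw [List.getD_eq_getElem _ _ hj] at h
        simp only [h8', beq_self_eq_true, Bool.not_true, Bool.false_or, Bool.or_eq_true, List.contains_iff_mem,
          List.mem_map] at h
        rcases h with h | ⟨⟨j', cs⟩, hc, rfl⟩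
        · exact Finset.mem_union_right _ (Finset.mem_image.2 ⟨j, List.mem_toFinset.2 h, List.getD_eq_getElem _ _ hj⟩)
        · refine absurd (top_of_cert (List.all_eq_true.1 other_ok _ hc) fun u hu => ?_) hMne
          rcases List.mem_append.1 hu with hu | hu
          · exact hgens u hu
          · rw [List.getD_eq_getElem _ _ hj] at hu
            exact gens_le hQe (eW_five _) u hu
      · exact absurd (top_of_good hP' he' hQe h0 h8') hMne
    rw [hMcard] at hle
    have hd := hnf M
    have hbig : 243 ≤ Nat.card ↥(M ⊓ N5) := by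
      have := Nat.mul_le_mul_right (Nat.card ↥(M ⊓ N5)) hS
      omega
    have h300 : Nat.card ↥(M ⊓ N5) = 300 := by
      obtain ⟨m, hm⟩ := hd
      rcases Nat.lt_or_ge m 2 with h | h
      · interval_cases m <;> omega
      · have := Nat.mul_le_mul_left (Nat.card ↥(M ⊓ N5)) h
        omega
    have hNM : N5 ≤ M := by
      rw [← Subgroup.eq_of_le_of_card_ge (inf_le_right : M ⊓ N5 ≤ N5) (by rw [h300, hN])]
      exact inf_le_left
    refine hMne (top_of_cert norm_ok fun u hu => ?_)
    rcases List.mem_append.1 hu with hu | hu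
    · exact hgens u hu
    · simp only [List.mem_cons, List.not_mem_nil, or_false] at hu
      rcases hu with rfl | rfl
      · exact hNM (nW_mem (Nat.le_of_ble_eq_true sizes_ok.2.2.2.2.2.1))
      · exact hNM (nW_mem (Nat.le_of_ble_eq_true sizes_ok.2.2.2.2.2.2))
  · push Not at h8
    have hle := card_le_conjugates (L := L) (entries.filter fun e => e.1 == 0).toFinset fun l hl e he heq => by
      refine List.mem_toFinset.2 (List.mem_filter.2 ⟨he, ?_⟩)
      by_contra h0
      exact hne (top_of_good hP he (hconj hP l hl heq) (by simpa using h0) (h8 l hl e he heq))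
    have h1 : (entries.filter fun e => e.1 == 0).toFinset.card ≤ 1 :=
      entries_ok.2.1 ▸ List.toFinset_card_le _
    have h2 : Nat.card ↥(L ⊓ N5) ≤ 300 := Nat.le_of_dvd (by norm_num) (hnf L)
    have := Nat.mul_le_mul h1 h2
    omega

end Cfsg.Lib.SuzPres.RankThree
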