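import Cfsg.Agent.CosetCert.Lower

/-!
Generated: the Sylow 5-subgroups of the subgroup on five letters.
-/

set_option autoImplicit false

namespace Cfsg.Lib.SuzPres.RankThree

def aW : List ℕ := [0,1,0,1,3,2,3,2,4,3,2,1,0]

def bW : List ℕ := [1,0,3,2,1,0,4,3,2,1,3,2,3,2,4]

def kW : List (List ℕ) :=
  [[], [0], [1], [4],
    [0,3], [1,2], [2,1], [2,4],
    [3,4], [0,2,1], [0,2,3], [0,2,4],
    [0,3,2], [1,2,4], [0,1,0,4], [0,2,1,4],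
    [1,0,2,3], [2,1,3,2]]

def nW_0 : List (List ℕ) :=
  [[], [2,1,3,2,1,0,1,0,4,3,2,1,3,2,3,2,1,0,1,2,4,3,2], [1,0,1,3,2,4,3,2,1,0,3,2,1,0,3,2,1,4,3], [0,1,0,1,0,2,3,2,4,3,2,1,0,1,2,3,2,1,4,3,2,1,3,2,3,4,3,2,1],
    [0,2,1,3,2,3,2,1,0,1,2,3,2,1,4,3,2,1,0,3,2,1,0,4], [1,0,3,2,4,3,2,1,0,1,2,3,2,1,0,3,2,3], [0,1,0,3,2,4,3,2,1,0,1,2,3,2,1,0,3,2], [2,1,3,2,3,2,1,0,1,2,3,2,1,4,3,2,1,0,3,2,1,0,4,3],
    [1,0,1,3], [1,4,3,2,1,3,2,1,0,1,2,3,2,1,4,3,2,1,0,3,2], [1,0,3,2,1,0,4,3,2,1,3,2,3,2,4], [0,1,0,2,3,2,1,4,3,2,1,0,3,2,4,3,2,1,0,1,2,3,2,4,3,2],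
    [0,1,0,2,1,3,2,3,2,1,0,1,0,2,1,3,4,3], [0,1,0,4,3,2,1,0,1,3,2,4,3,2,1,0,1,0,3,4], [1,0,4,3,2,1,0,1,3,2,4,3,2,1,0,1,3,2,1,4,3,2,1,0,3,2], [1,3,2,4,3,2,1,0,1,2,3,2,1,3,2,3,4,3,2,1,0,1,0],
    [2,1,3,2,1,3,2,1,0,1,0,2,3,2,4], [0,1,0,3,4,3,2,1,0,1,3,2,3,4,3,2,1,0,3], [0,1,0,3,4,3,2,1,0,1,3,2,1,3,4,3,2,1,0,1,0,3,2,1,3,2,3], [1,3,2,4,3,2,1,0,1,2,3,2,1,0,3,2,3,4,3,2,1,0,3],
    [0,1,2,3,2,1,0,3,2,1,0,1,3,2,1,3,4,3], [4,3,2,1,0,1,2,3,2,1,0,3,2,1,3,4,3,2,3,2,1,0], [0,3,2,1,0,1,0,3,2,1,4,3,2,1,3,2,4,3,2,1,0,1,0,2], [2,3,2,1,0,1,0,3,2,1,4,3,2,1,0,1,3,2,4,3,2,3],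
    [1,4,3,2,1,3,4], [1,0,1,2,1,3,2,1,0,3,2,4,3,2,1,0,1,2], [0,1,3,2,4,3,2,1,0,1,3,2,3,2,1,0,4,3], [0,1,0,1,0,2,3,2,4,3,2,1,0,1,2,3,2,1,3,4,3,2,1,0,3,2,1],
    [1,2,4,3,2,1,0,1,2,3,2,1,0,3,2,3], [3,2,1,0,3,2,1,0,1,3,2,1,3,2,3,4,3,2,1,0], [2,4,3,2,1,0,3,2,1,0,1,4,3,2,1,3,2,3,4,3,2,1], [4,3,2,1,3,2,4,3,2,1,0,1,2,3,2,1,4,3,2,3,4],
    [0,1,0,2,1,0,4,3,2,1,0,3], [0,1,0,1,2,3,2,1,3,2,3,2,4,3,2,1,3,2,3,2,1,0,1,0], [0,2,1,0,3,2,1,0,4,3,2,1,0,1,3,2,1,4,3,2,1,3,2,4], [2,4,3,2,1,0,1,3,2,4,3,2,1,3,2,3,4,3,2,1],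
    [0,3,2,1,3,2,3,2,1,0,1,2,3,2,1,4], [2,3,2,1,0,3,2,1,0,1,3,2,1,3,2,4,3,2,1,3,2,3], [0,1,0,1,3,2,4,3,2,1,3,2,3,4,3,2,1,0,1,3,2,1,3,4], [2,3,2,1,0,3,4,3,2,1,0,3,2,1,0,3,2,1,3,4,3,2,3],
    [0,2,1,4,3,2,1,0,1,2,3,2,1,3,2], [1,0,1,2,3,2,1,0,3,2,1,0,1,3,2,4,3,2,1,0,1,2,3], [0,1,3,2,3,4,3,2,1,0,1,0,2,3,2,1,0,4,3,2,1,0], [4,3,2,1,3,2,4,3,2,1,0,1,2,3,2,1,3,4,3,2,1,0,1,3,4],
    [1,0,3,4,3,2,1,3,4], [1,0,2,1,0,3,2,1,0,3,2,1,4,3,2,1,0,3], [1,3,2,1,4,3,2,1,0,1,3,2,3,2,4], [1,2,1,3,2,1,0,1,3,2,3,4,3,2,1,3,2,3,2,1,4,3,2,3,2],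
    [0,1,0,3,2,1,4,3,2,3,2,1,0], [1,2,1,0,1,2,4,3,2,1,0,3,2,4,3,2,1,0,1,2,3,2,1,4,3]]

def nW_1 : List (List ℕ) :=
  [[0,1,0,1,3,2,1,4,3,2,1,0,1,0], [1,0,2,4,3,2,1,0,1,0,2,3,2,1,4,3,2,1,3,2,1,0,1,2,4], [0,1,4,3,2,1,3,2,1,0,1,4,3,2,3,2,1,0,1,0,4,3], [0,1,0,1,2,1,0,3,2,1,0,4],
    [0,1,0,3,2,1,0,1,3,4,3,2,1,3,2,3,4,3,2,1,0,3,2,1,0], [0,1,0,1,2,1,0,3,2,1,0,1,2,3,2,1,4,3,2,1,3,2,3,4,3,2,1], [0,3,2,1,3,2,3,2,1,0,1,4,3,2,1,3,2,1,3,2,4,3,2,1,3], [0,1,0,3,2,1,0,3,2,1,0,4],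
    [0,1,0,1,3,2,4,3,2,1,3,2,4,3,2,1,0], [0,1,0,3,2,1,0,1,3,2,1,3,2,4,3,2,1,0,1,3,2,3,2,4,3,2], [1,4,3,2,3,2,1,0,1,0,2,1,3,4,3,2,1,0], [3,2,1,0,3,2,1,3,2,3],
    [1,0,1,0,3,4,3,2,1,0,3,2,1,0,1,3,2,4,3,2,1,3,2,3], [0,1,3,2,4,3,2,1,0,1,2,3,2,1,3,4,3,2,1,0,3,2,1,0,4], [2,3,2,3,4,3,2,1,0,1,0,2,1,3,2,1,0,1,4,3,2,3], [0,2,1,3,2,1,3,2,1,0,1,4,3,2,3,2,1,0,1,0,4,3,2,1,3,4],
    [0,1,0,2,3,4,3,2,1,3,2,3,2,1,0,1,2,4,3,2,1,0,3,2], [2,1,0,3,2,1,0,1,2,3,2,4,3,2,1,0,1,2,3], [1,0,1,0,3,2,1,3,2,3,2,1,0,1,4,3,2,1,0,3,4], [1,0,2,1,4,3,2,1,0,1,3,2,3,2,4],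
    [1,4,3,2,1,3,2,1,0,4,3,2,1,0,1,2,3,2,4,3,2,1,0,1,2,3], [0,2,1,4,3,2,3,2,1,0,1,4,3,2,1,3,2,1,4,3,2,1,3], [2,4,3,2,1,0,3,2,1,0,3,2,1,4,3], [0,1,0,1,2,3,2,1,3,2,4,3,2,1,0,3,4],
    [0,1,0,3,2,1,3,2,4,3,2,1,3,2,4,3,2,1,0,3,2,1,0,4], [0,2,1,4,3,2,1,0,1,0,3,2,1,4,3,2,1,3,2,1,0,4,3,2,1], [0,2,1,4,3,2,1,0,1,0,3,2,1,3,4,3,2,3,2,1,4,3], [0,4,3,2,1,3,2,3,4,3,2,1,0,1,0,2,1,3,2,1],
    [2,1,4,3,2,1,0,1,0,3,2,1,3,2,3,2,4,3,2,1,3,2,3,2,4], [4,3,2,1,3,2,3,4,3,2,1,0,1,3,2,3,2,4,3,2], [0,1,0,2,1,4,3,2,1,0,1,0], [1,0,1,0,3,2,1,0,3,2,1,0,3,4,3,2,1,0,3,2],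
    [0,2,1,0,3,2,1,0,4,3,2,1,0,3,2,1,0,4,3,2,1,0,3,2,1,4,3], [2,4,3,2,1,0,1,3,2,4,3,2,1,0,3,2,3,4,3,2,1,3], [2,1,4,3,2,1,3,2,1,3,2,4], [0,1,0,1,2,3,2,1,3,4,3,2,3,2,1,0,1,0,4,3],
    [0,1,0,3,2,1,3,2,3,4,3,2,1,0,3,2,1,0,3,4,3,2,1,0,3], [0,2,1,4,3,2,1,0,1,0,3,2,1,4,3,2,1,3,2,1,4,3,2,1,3], [0,1,4,3,2,1,3,2,1,0,1,2,4,3,2,1,0,3,4], [0,1,0,1,2,1,3,2,1,0,1,0,4,3],
    [1,2,1,0,3,2,1,4,3,2,1,3,2,1,0,3,4,3,2,1,3,2,3,2], [0,1,0,3,2,1,0,3,4,3,2,1,3,2,3,4,3,2,1,0,3,2,1,0,3], [0,4,3,2,1,0,3,2,1,0,1,3,2,4,3,2,1,3,2,3], [0,2,1,4,3,2,1,0,1,0,3,2,1,3,2,4,3,2,1,3,4],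
    [3,2,1,0,3,2,1,0,1,3,2,1,3,2,4,3,2,1,0,1,0,3,2,1,3,4,3], [4,3,2,1,3,2,3,4,3,2,1,0,1,3,2,3,2,4,3,2,1,0,1,3], [2,3,2,4,3,2,1,0,1,2,3,2,4,3,2], [0,1,0,2,1,3,2,4,3,2,1,3,2,4,3,2,1,0,1,3,2,1,4],
    [0,2,1,0,3,2,1,0,3,4,3,2,1,0,3,2], [0,1,2,3,2,1,4,3,2,1,3,2,3,4,3,2,1,0,1,0,3]]

def nW_2 : List (List ℕ) :=
  [[1,0,4,3,2,1,0,1,0,3,2,1,3,4,3,2,1,0,1,0,3], [1,0,2,1,3,2,1,3,2,1,3], [3,2,1,0,1,2,3,2,4,3,2,1,0,1,0,2,1,3,2,1,4,3,2,1,3,4], [1,0,1,0,3,4,3,2,1,3,2,3,4,3,2,1,0,1,0,2,1,3,2,1],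
    [0,2,1,3,2,1,3,2,1,0,1,0,2,3,4,3,2,1,0,1,3,2,1,3,4], [3,2,3,2,1,0,1,2,4,3,2,1,3,2,4,3,2,1,0,1,0,2], [1,0,3,4,3,2,1,0,1,3,2,1,3,4,3,2,3,2,1,0,1,2,3,4], [0,2,1,3,2,1,3,2,1,0,1,0,2,4,3,2,1,0],
    [1,3,2,1,3,2,1,4,3,2,1,0,1,3,2,4,3,2,1,0,3,2,4], [0,1,0,3,2,1,4,3,2,3,2,1,0,1,4,3,2,1,3,4], [0,1,0,1,3,2,1,0,3,4,3,2,1,0,1,0,3,2,1,3,4], [1,2,1,0,1,2,3,4,3,2,1,3,2,1,3,4,3,2,1,0,1,2],
    [2,4,3,2,1,0,1,3,2,1,3,2,1,4,3], [0,1,0,1,0,3,2,1,3,2,4,3,2,1,0,1,2,3,4], [1,2,3,4,3,2,1,3,2,1,4,3,2,1,0,1,2,3,2,3,4,3,2,1,0], [0,2,1,4,3,2,3,2,1,0,1,4,3,2,1,3,2,1,0,4,3,2,1],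
    [2,3,2,1,0,3,2,1,0,3,2,1,4,3,2,1,3,2,1,3,4,3,2,1], [0,1,2,3,2,1,0,3,2,1,0,4,3], [0,1,0,1,3,2,3,4,3,2,1,3,2,4,3,2,1,0,1,0], [2,1,0,3,4,3,2,1,3,2,3,4,3,2,1,0,3,2,1,3,2,4,3,2],
    [1,0,3,2,3,4,3,2,1,3,2,3,2,1,0,1,4,3,2,3,2,4], [1,0,1,3,2,3,2,4,3,2,1,0,1,2,3,2,4,3,2], [0,1,0,2,3,2,4,3,2,1,0], [0,1,0,1,3,2,4,3,2,1,0,1,3,2,1,4,3,2,1,0,3,4],
    [0,1,0,1,2,1,3,2,1,3,4,3,2,1,3,2,1,0,1,0], [0,1,4,3,2,1,3,2,1,4,3,2,1,0], [0,2,1,3,2,1,3,2,1,4,3,2,1,0,1,3,2,3,2,1,4,3], [0,2,3,2,1,0,1,2,3,4,3,2,3,2,1,0,1,0,2,3,4,3,2,3],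
    [0,1,0,2,1,0,3,2,1,0,1,3,2,4,3,2,1,0,3,2,1,0,3], [1,3,2,4,3,2,1,0,1,0,3,2,1,3,4,3,2,1,0], [0,1,4,3,2,1,0,1,3,2,4,3,2,1,0,3,2], [1,0,2,1,3,2,1,0,1,0,3,4,3,2,1,3,2,3,2,4],
    [1,2,1,0,1,3,2,4,3,2,1,3,2,4,3,2,1,0,1,0,3,2,3], [1,0,2,3,2,1,4,3,2,1,0,3,2,4,3,2,1], [0,1,0,1,3,2,3,2,4,3,2,1,0], [0,1,0,3,2,1,0,3,4,3,2,1,0,3,2,1,0,4,3],
    [0,3,2,1,0,1,3,2,3,2,1,4,3,2,3,2,1,0,1,4,3,2,1], [1,3,4,3,2,1,0,1,2,3,2,1,3,4,3,2,1,0,1,2,3,4], [1,0,1,0,2,3,2,4,3,2,1,0,1,0,2,3,2,4,3,2,1,0,1], [0,1,2,3,2,4,3,2,1,0,1,0,3],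
    [0,1,0,2,1,0,3,4,3,2,1,0,1,3,2,1,3,4,3], [4,3,2,1,3,2,3,2,1,0,4,3,2,1,0,3,2,1,0,4,3,2], [2,4,3,2,1,0,1,3,2,3,4,3,2,1,0,3,2,1], [1,4,3,2,1,0,1,2,3,2,1,4,3,2,1,3,2,4,3,2,1,0,1,0],
    [0,1,0,2,1,3,2,4,3,2,1,3,2,4,3,2,1,0,1,0,2,3,2,1,4], [0,2,1,0,3,2,1,0,4,3,2,1,3,2,4,3,2,1,3,2,3,4], [0,1,2,3,2,1,3,4,3,2,1,3,2,3,4,3,2,1,0,1,0,2,1,3,4], [2,3,2,4,3,2,1,0,1,3,2,3,4,3,2,1,3,2,3,4],
    [1,0,1,3,2,4,3,2,1,0,1,2,3,2,3,4,3,2,1,3,2,3], [1,2,3,4,3,2,1,3,2,1,0,4,3,2,1]]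

def nW_3 : List (List ℕ) :=
  [[0,1,0,1,2,3,4,3,2,1,3,2,1,0,1,2,3,4], [0,1,0,3,2,3,4,3,2,1,3,2,3,2,1,0,1,2,3,2,1,4,3], [0,1,0,2,1,0,3,2,3,4,3,2,1,0,1,2,3,2,1,0,4,3], [1,4,3,2,1,0,1,2,3,2,3,4,3,2,1,0,1,0],
    [0,1,3,2,3,2,4,3,2,1,0,1,3,2,1,3,4], [1,0,1,2,3,4,3,2,3,2,1,0,1,4,3,2,3,2,1,4,3,2,3,4], [0,1,0,1,2,1,3,2,3,4,3,2,1,0,3,2,1,0,3,4,3,2,1,0,3], [0,1,2,3,2,4,3,2,1,3,2,3,2,4,3,2,1,0],
    [2,3,2,4,3,2,1,0,1,2,3,2,4,3,2,1,0,1,3], [0,2,1,0,3,2,1,0,3,4,3,2,1,0,3,2,1,0,1,3], [0,1,4,3,2,1,3,2,1,3,4,3,2,1,0,1,3,2,1,3,4], [3,2,3,2,1,0,1,2,3,2,4,3,2,1,0,1,3,2,1,3,4,3,2,3,4],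
    [0,2,4,3,2,1,0,1,2,3,2,1,4,3,2,1,0,1,2,3,2,4,3,2], [3,2,1,3,2,1,3,2,1,0,1,4,3,2,1,0,3], [0,2,1,3,2,3,2,1,0,1,4,3,2,1,0,3,4], [0,1,0,4,3,2,1,0,1,3,2,1,4,3,2,1,3,2,3,4,3,2,1,0,3],
    [2,1,3,2,3,2,1,0,1,4,3,2,1,3,2,1,0,1,0,4,3,2], [2,3,2,1,0,1,2,3,2,4,3,2,1,0,1,3,2,1,3,4,3,2,3,2,4], [0,3,2,1,3,2,3,2,1,0,4,3,2,1,3,2,3,4,3,2,1], [4,3,2,1,0,1,2,3,2,1,4,3,2,1,0],
    [0,1,3,2,1,0,1,3,2,1,4,3,2,1,3,2,3], [4,3,2,1,0,1,2,3,2,1,3,4,3,2,1,0,1,0,3,2,1,3,4,3], [2,4,3,2,1,0,1,2,3,2,3,4,3,2,1,3,2,3], [0,1,2,1,0,3,4,3,2,1,0,1,2,3,2,1,3,4],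
    [1,4,3,2,1,0,1,2,3,2,1,3,4,3,2,1,3,2,4,3,2,1,0], [0,1,3,2,3,4,3,2,1,0,3,2,1,3,2,3,4,3,2,1,0,3], [0,1,4,3,2,1,0,3,2,4,3,2,1,0,1,2,3,2,1,4,3,2,1,3,2,3], [1,0,2,1,3,2,1,0,3,2,4,3,2,1,0,1,2,3,2,3,4,3,2,1,0,1,0],
    [1,2,4,3,2,1,3,2,4,3,2,1,0,3,2,4,3,2,1,0,1,2], [2,1,0,1,0,2,3,2,1,4,3,2,1,3,2,1,0,1], [2,1,3,4,3,2,1,3,2,1,0,1,0,3,2,1,4,3,2,1,0,3,2,4,3,2], [1,0,2,1,3,2,1,3,4,3,2,3,2,1,0,1,2,3,2,4,3,2,1,0,3],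
    [2,1,0,1,0,2,3,2,1,4,3,2,1,3,2,3], [1,2,1,3,4,3,2,1,3,2,1,3,2,4,3,2,1,3,2,3,2], [0,1,0,2,1,4,3,2,3,2,1,0,4,3,2,1,0,3], [0,1,0,1,2,3,2,1,3,4,3,2,1,3,2,1,3,2,4,3,2,1,0,3,4],
    [0,2,1,0,1,3,2,1,3,4,3,2,3,2,1,0,1,4,3,2,1], [1,2,1,0,1,3,2,1,3,2,1,4,3,2,1,0,1,3,2,3,2,4,3,2], [2,3,2,1,4,3,2,1,0,1,2,3,2,4,3,2,1,0,1,0,2,3,2,4], [2,3,2,1,0,1,2,3,2,4,3,2,1,0,1,2,3,2,1,4,3,2,1],
    [0,2,1,0,1,2,3,2,1,4,3,2,3,2,1,0,1,2,4,3,2,3], [0,2,1,3,2,1,3,2,3,4,3,2,1,0,1,2], [1,3,2,3,4,3,2,1,0,3,2,1,0,1,4,3,2,1,0,3,2,4], [0,2,1,0,1,3,2,1,4,3,2,1,0,1,3,2,4,3,2,1,3,2],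
    [1,0,2,1,3,2,3,4,3,2,1,0,1,3,2,3,2,4], [2,1,0,3,2,1,4,3,2,1,0,1,3,2,3,4,3,2,1,3,2], [0,2,3,2,1,0,1,4,3,2,1,0,3,2,1,0,4,3,2,1,3,2,3,2,4,3], [0,1,0,1,2,3,2,4,3,2,1,0,3,2,1,3,4,3,2,1,3,2,1,0],
    [0,3,2,3,4,3,2,1,0,1,2,3,2,3,4,3,2,1,0,1,0,2,3,2], [0,1,2,1,3,2,1,4,3,2,1,0,3,4]]

def nW_4 : List (List ℕ) :=
  [[0,1,0,2,1,3,2,3,4,3,2,1,0,1,0,2,1,3,2,1,0], [1,4,3,2,1,0,1,3,2,4,3,2,1,0,3,2,1,0,4,3], [1,0,2,1,3,2,1,0,1,0,3,4,3,2,1,3,2,3,2,1,0,1,4,3], [0,1,3,4,3,2,1,0,1,3,2,1,0,4,3,2,1,0,1,2,3],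
    [1,0,2,3,2,1,4,3,2,1,3,2,4,3,2,1,3], [1,2,1,0,1,2,3,2,3,4,3,2,1,0,3,2,1,0,4,3,2], [0,1,0,3,2,1,3,2,4,3,2,1,0,3,2,1,0,4], [0,1,0,1,2,3,2,3,4,3,2,1,0,1,0,3],
    [1,4,3,2,1,0,1,3,2,3,2,4,3,2,1,0,3], [0,1,0,2,1,3,2,1,0,1,3,4,3,2,1,3,2,1,0,1,2,4], [3,2,1,0,3,2,1,0,3,2,1,3,4,3,2,1,3,2,1,4,3,2,1,0], [0,1,2,3,4,3,2,3,2,1,0,1,0,4,3,2,1,3,4],
    [0,1,0,2,1,3,2,4,3,2,1,3,2,4,3,2,1,0,1,2,3,2,1,4,3], [2,1,0,1,0,2,3,2,1,0,4,3,2,1,0,3,2,4,3,2,1,0,1,2], [0,2,1,3,2,1,3,2,1,0,1,0,3,4,3,2,1,3,2,4,3,2,1,0], [0,1,2,3,2,1,3,4,3,2,1,3,2,1,4,3,2,1,0,1,2,3,4],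
    [0,1,0,4,3,2,1,0,1,3,2,4,3,2,1,3,2,3,2,4,3,2,1,0,1,0], [1,2,1,3,2,4,3,2,1,0,1,2,3,2,4,3,2,1,0,1,2,3,2], [0,1,2,1,3,2,4,3,2,1,0,1,2,3,4], [0,1,0,2,1,3,4,3,2,1,3,2,1,0,1,3,4,3,2,3,2,1,0,4,3],
    [1,4,3,2,1,0,1,3,2,1,3,4,3,2,3,2,1,0,1,2,3,4], [2,3,2,1,3,2,4,3,2,1,3,2,3,4,3,2,1,0,1,3,2,1,3,2,1], [0,1,0,2,1,3,2,1,0,1,2,4,3,2,1,0,3,2,1,4,3,2,1,3,4], [0,1,0,3,2,1,3,2,3,2,1,0,1,2,4,3,2,1,0,3,2,1,0,3],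
    [2,1,3,2,1,0,3,2,1,4,3,2,1,0,1,3,2,3,4,3,2], [2,3,2,1,0,1,3,4,3,2,1,3,2,1,3,4,3,2,1,0,1,3,2], [0,1,2,3,2,1,0,1,0,4,3,2,1,0,3,2,1,3,4,3,2,3,2,1,4], [0,1,0,1,3,2,1,3,2,3,4,3,2,1,0,1,0,2,1,3,2,1,0],
    [0,1,0,1,2,1,4,3,2,1,3,2,4,3,2,1,0,1,2,3,2,1,3,2], [0,2,1,0,1,3,2,1,3,2,4,3,2,1,0,1,0,3,2,1,4,3,2,1,3], [0,2,1,3,2,3,2,1,0,1,2,4,3,2,1,0,3,2,3,4,3,2,1,0], [1,0,2,1,3,2,3,4,3,2,1,0,1,3,2,3,2,1,0,1,4,3],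
    [0,1,0,3,2,1,4,3,2,1,3,2,4,3,2,1,0,1,2,3,2,1,3,2], [1,3,2,1,3,2,1,3,4,3,2,3,2,1,4], [3,2,1,0,1,2,3,2,4,3,2,1,0,1,0,2,1,3,2], [1,0,2,4,3,2,1,0,1,2,3,2,4,3,2,1,0,3,2,1,0,3,2],
    [0,1,2,3,2,4,3,2,1,3,2,4,3,2,1,3,2,4,3,2,1,0], [0,1,0,1,2,1,3,2,4,3,2,1,0,3,2,1,0,4], [1,2,3,4,3,2,1,3,2,3,2,1,0,1,4,3,2,3,2,4], [2,3,2,4,3,2,1,0,1,3,2,1,3,2,1,4,3,2,1,0,1,0,3,2,1,3],
    [1,3,2,1,3,2,3,4,3,2,1,0,1,3,2,3,2,1,0,1,4,3], [1,3,2,1,3,2,1,0,1,0,3,4,3,2,1,3,2,3,2,4], [0,1,2,1,3,2,1,3,4,3,2,1,0,3,2,1,0,4,3,2,1,3,2,3], [1,0,1,3,4,3,2,1,3,2,4,3,2,1,0,1,2,3,2,1,4,3,2,3,4],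
    [1,4,3,2,3,2,1,0,4,3,2,1,0,1,3,2,1,0,3,2,4], [1,2,1,0,1,2,3,4,3,2,1,0,1,3,2,1,0,4,3,2,1,0], [1,0,2,1,3,2,1,3,4,3,2,3,2,1,4], [0,1,0,1,3,2,3,2,1,0,1,2,4,3,2,1,3,2,3,2,1,0,1],
    [1,2,3,4,3,2,1,3,2,1,4,3,2,1,3], [1,0,1,3,2,4,3,2,1,0,1,3,2,3,4,3,2,1,0,3,2,1]]

def nW_5 : List (List ℕ) :=
  [[0,1,0,1,2,3,4,3,2,3,2,1,0,1,0,2,1,3,4,3], [0,1,2,3,2,1,0,3,4,3,2,1,3,2,3,2,1,0,1,2,3,4], [0,1,2,3,2,1,4,3,2,1,3,2,1,3,2,4,3,2,1,0,3,4], [1,0,1,2,3,2,1,0,1,2,3,2,4,3,2,1,0,1,3,2,3,4,3,2,3,4],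
    [2,1,4,3,2,1,3,2,1,0,1,0,4,3,2,1,0,3,2,1,0,4,3,2], [0,1,2,3,2,1,4,3,2,3,2,1,0,1,0,4,3], [1,3,2,1,3,2,3,4,3,2,1,0,1,3,2,3,2,4], [1,3,2,1,3,2,1,0,1,0,3,4,3,2,1,3,2,3,2,1,0,1,4,3],
    [0,1,2,3,2,1,0,3,4,3,2,1,0,1,3,2,1,4,3,2,1,0,3,2], [2,4,3,2,1,3,2,3,2,4,3,2,1,0,1,2,3,2,4,3,2,1,0,1,2,3], [0,1,3,2,1,0,3,2,1,0,4,3,2,1,3,2,3,4,3,2,1,3,4], [4,3,2,1,0,1,2,3,2,1,0,4,3,2,1,0,1,0,3],
    [0,1,3,2,1,0,3,2,1,0,4,3,2,1,0,3,2,1], [4,3,2,1,0,1,2,3,2,1,3,4,3,2,1,0,1,3,2,1,3,4], [0,1,0,1,2,1,3,2,3,4,3,2,1,3,2,3,2,1,0], [0,1,4,3,2,3,2,1,4,3,2,3,2,1,0,1,0],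
    [0,2,1,3,2,1,3,2,1,4,3,2,1,0,1,2,3,2,1,3,4], [0,1,2,1,0,1,4,3,2,1,0,1,3,2,4,3,2,1,0,1,2,3,2,4,3,2], [1,4,3,2,1,0,1,3,2,3,2,1,4,3,2,1,0,1,0,3,2,1,3,2,3], [2,3,4,3,2,1,3,2,1,0,1,2,3,2,4,3,2,1,0,1,3,2,4,3,2],
    [2,1,0,1,3,2,1,3,4,3,2,1,3,2,1,0,1,3,4,3,2,3,2], [0,1,0,1,2,3,2,1,4,3,2,1,3,2,1,4,3,2,1,0,1,2,3,4], [0,2,1,4,3,2,1,0,1,3,2,3,4,3,2,1,3,2,3,2,4], [0,1,0,2,1,3,2,1,0,1,2,4,3,2,1,0,3,2],
    [0,1,2,1,0,3,2,4,3,2,1,0,1,2,3,2,1,0,4,3,2,1,0,1,2,3], [0,1,3,2,3,4,3,2,1,0,1,3,2,1,3,4,3,2,1,0,3,2,1,0,4], [1,2,1,0,1,4,3,2,3,2,1,4,3,2,3,2,1,0,4,3,2,1,0], [0,1,2,3,4,3,2,3,2,1,0,1,2,3,2,1,4,3,2,1,0,3,2,4,3,2,1],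
    [0,1,0,1,2,3,2,1,4,3,2,1,3,2,4,3,2,1,0,3,4], [0,1,0,3,2,1,3,2,3,4,3,2,1,3,2,3,2,1,0], [1,2,1,3,4,3,2,3,2,1,0,1,2,3,2,4,3,2,1,3,2,3,4,3,2,3], [1,2,3,4,3,2,1,3,2,1,0,1,0,3,2,1,4,3,2,3,2,4],
    [0,2,1,0,1,2,3,2,1,4,3,2,1,3,2,4,3,2,1,0,1,0,2], [3,2,1,3,2,3,2,1,4,3,2,1,0,1,0,3,2,1,3,2,3,2], [1,2,4,3,2,1,0,1,3,2,1,3,4,3,2,3,2,1,0,1,0,2,1,3,2], [0,1,0,1,2,3,2,1,4,3,2,1,3,2,3,4,3,2,1,0,1,0,2,1,3,4],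
    [3,4,3,2,1,3,2,1,0,1,2,3,2,4,3,2,1,0,1,3,2,4,3,2,3], [0,1,3,2,3,2,4,3,2,1,0,1,2,3,2,1,3,4,3,2,1,0,3,2,1], [1,0,3,2,1,0,3,2,1,0,1,3,4,3,2,1,3,2,1,0,1,0,4,3,2], [0,2,1,0,3,2,1,3,2,3,2,4,3,2,1,0,1,0,2,3,2,1,4],
    [0,2,1,0,1,2,3,2,1,4,3,2,1,0,3,2,1,0,1,0,4,3,2,3], [0,1,0,1,2,3,4,3,2,1,3,2,3,2,1,0,1,2,3,2,1,4,3], [0,1,0,2,1,4,3,2,3,2,1,4,3,2,3,2,1,0,4,3,2,1,0,3], [0,1,2,1,3,2,1,3,2,3,4,3,2,1,0,3,2,1,0],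
    [0,1,0,1,2,3,2,1,3,4,3,2,1,3,2,3,4,3,2,1,0,1,0,3], [2,3,2,3,4,3,2,1,0,1,2,3,2,1,4,3,2,1,3,2,3,4,3,2,1,0], [1,0,1,2,3,2,1,0,1,0,4,3,2,1,0,3,2,1,0,1,4,3,2,3], [0,1,2,3,4,3,2,1,3,2,1,0,1,0,3,2,1,3,2,3],
    [0,1,2,1,0,3,2,4,3,2,1,0,1,0,2,3,2,1,4,3,2,1,0], [3,2,1,4,3,2,1,3,2,3,4,3,2,1,0,1,3,2,3,2,4,3,2,1,3,2]]

def nW : List (List ℕ) :=
  nW_0 ++ nW_1 ++ nW_2 ++ nW_3 ++ nW_4 ++ nW_5

def nId : ℕ := 0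

def nGen : ℕ × ℕ := (163, 61)

def fixSet : List ℕ :=
  [267, 465, 469, 592, 619, 670, 904, 1097, 1120, 1351, 1449, 1462, 1617, 1762, 1775]

def entries_0 : List (ℕ × ℕ) :=
  [(2, 165), (13, 271), (6, 47), (3, 43), (3, 284), (5, 56), (7, 30), (3, 77), (13, 273), (1, 120),
    (2, 135), (1, 208), (3, 196), (11, 32), (13, 78), (7, 43), (13, 255), (15, 4), (1, 180), (5, 228),
    (3, 14), (7, 64), (9, 111), (6, 27), (3, 39), (7, 42), (3, 137), (6, 102), (13, 172), (3, 272),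
    (3, 92), (12, 83), (9, 231), (6, 86), (3, 266), (12, 73), (15, 157), (7, 160), (11, 35), (13, 76),
    (6, 56), (12, 2), (7, 227), (9, 23), (2, 33), (11, 30), (14, 130), (3, 185), (13, 13), (13, 285),
    (12, 10), (13, 27), (9, 74), (1, 48), (13, 93), (2, 161), (2, 151), (6, 74), (3, 253), (13, 157),
    (4, 72), (10, 183), (7, 223), (3, 22), (14, 3), (3, 90), (3, 79), (3, 1), (7, 127), (12, 92),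
    (10, 34), (11, 41), (2, 138), (3, 261), (13, 35), (6, 38), (13, 73), (7, 40), (12, 60), (9, 76),
    (13, 123), (12, 16), (9, 122), (5, 18), (11, 13), (13, 197), (7, 70), (4, 153), (2, 30), (2, 60),
    (12, 222), (9, 262), (9, 120), (4, 223), (5, 14), (10, 23), (3, 136), (13, 22), (3, 127), (13, 249),
    (2, 166), (13, 122), (3, 113), (13, 264), (13, 184), (13, 94), (13, 297), (13, 2), (5, 3), (12, 38),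
    (10, 102), (14, 25), (4, 108), (15, 99), (11, 78), (10, 121), (6, 37), (16, 18), (11, 105), (4, 144),
    (11, 12), (12, 12), (7, 123), (13, 186), (9, 159), (1, 176)]

def entries_1 : List (ℕ × ℕ) :=
  [(10, 38), (3, 224), (9, 6), (1, 116), (3, 98), (7, 79), (10, 50), (3, 32), (12, 153), (9, 173),
    (2, 12), (3, 151), (12, 30), (7, 126), (13, 60), (14, 14), (12, 142), (16, 46), (10, 97), (13, 230),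
    (3, 289), (15, 120), (4, 209), (7, 63), (3, 123), (1, 44), (13, 15), (4, 18), (13, 43), (2, 91),
    (10, 113), (13, 107), (4, 51), (10, 124), (13, 175), (3, 299), (13, 99), (13, 88), (11, 23), (6, 115),
    (1, 172), (12, 94), (15, 27), (14, 4), (10, 115), (15, 52), (4, 41), (4, 76), (17, 4), (7, 89),
    (10, 58), (14, 15), (4, 58), (2, 93), (4, 140), (7, 105), (3, 27), (2, 22), (3, 209), (7, 100),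
    (12, 107), (5, 5), (11, 17), (2, 146), (10, 42), (5, 25), (3, 147), (3, 59), (13, 146), (11, 57),
    (6, 23), (4, 59), (12, 45), (9, 143), (3, 68), (4, 180), (6, 168), (15, 41), (13, 167), (2, 160),
    (4, 173), (13, 258), (4, 30), (4, 42), (5, 8), (13, 289), (9, 170), (13, 238), (9, 136), (13, 169),
    (4, 24), (5, 97), (17, 1), (13, 154), (13, 139), (1, 256), (3, 152), (4, 48), (4, 129), (16, 26),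
    (3, 67), (13, 212), (3, 281), (2, 217), (3, 254), (9, 152), (3, 214), (2, 200), (13, 286), (10, 21),
    (9, 145), (3, 287), (2, 4), (13, 20), (6, 62), (2, 92), (2, 220), (13, 202), (12, 17), (6, 3),
    (3, 162), (9, 139), (9, 174), (6, 130), (13, 100), (3, 80)]

def entries_2 : List (ℕ × ℕ) :=
  [(6, 225), (6, 39), (2, 124), (13, 79), (12, 163), (10, 55), (13, 142), (4, 177), (3, 195), (7, 74),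
    (10, 22), (12, 172), (11, 22), (2, 87), (1, 140), (3, 198), (11, 20), (10, 20), (13, 162), (9, 7),
    (5, 184), (2, 66), (9, 161), (14, 26), (14, 18), (9, 128), (3, 141), (1, 168), (7, 208), (12, 148),
    (9, 54), (13, 217), (9, 30), (9, 98), (13, 256), (13, 126), (3, 125), (14, 81), (10, 39), (1, 164),
    (10, 48), (13, 242), (13, 237), (13, 137), (16, 49), (5, 55), (7, 2), (5, 53), (16, 25), (13, 40),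
    (5, 6), (13, 81), (12, 13), (11, 25), (13, 14), (13, 24), (7, 153), (10, 274), (3, 34), (5, 61),
    (4, 54), (10, 166), (9, 213), (4, 71), (11, 15), (14, 16), (10, 47), (3, 55), (9, 188), (2, 167),
    (2, 39), (6, 160), (12, 119), (11, 9), (2, 13), (14, 60), (12, 242), (13, 251), (13, 61), (5, 102),
    (10, 90), (3, 229), (4, 35), (13, 252), (14, 165), (9, 176), (13, 121), (3, 267), (3, 169), (14, 61),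
    (13, 83), (2, 35), (2, 1), (2, 121), (8, 12), (12, 65), (15, 19), (4, 212), (14, 151), (13, 4),
    (4, 101), (5, 101), (6, 18), (2, 236), (2, 72), (2, 64), (3, 60), (3, 101), (9, 5), (13, 261),
    (4, 44), (12, 59), (11, 39), (12, 144), (5, 63), (11, 80), (3, 238), (6, 103), (12, 249), (7, 39),
    (1, 252), (12, 33), (10, 142), (7, 19), (5, 21), (17, 28)]

def entries_3 : List (ℕ × ℕ) :=
  [(16, 0), (11, 77), (10, 103), (15, 78), (11, 31), (7, 269), (7, 161), (12, 99), (16, 23), (12, 97),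
    (10, 106), (10, 76), (15, 81), (6, 51), (15, 20), (4, 81), (13, 219), (5, 26), (3, 10), (3, 24),
    (5, 31), (10, 13), (13, 257), (10, 91), (2, 49), (13, 153), (2, 21), (4, 68), (7, 187), (10, 61),
    (17, 12), (10, 109), (12, 53), (12, 49), (7, 135), (13, 46), (1, 76), (14, 101), (6, 116), (3, 64),
    (12, 191), (15, 15), (12, 35), (3, 296), (12, 226), (3, 120), (7, 16), (4, 61), (3, 189), (10, 31),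
    (11, 47), (10, 219), (3, 236), (7, 207), (13, 8), (2, 50), (3, 164), (15, 51), (2, 114), (3, 241),
    (3, 131), (14, 93), (12, 43), (10, 6), (6, 17), (13, 70), (1, 72), (12, 15), (3, 282), (9, 67),
    (12, 134), (1, 148), (12, 167), (2, 43), (3, 23), (10, 130), (7, 116), (13, 69), (9, 226), (13, 213),
    (3, 139), (7, 154), (3, 70), (3, 12), (16, 88), (5, 127), (10, 12), (13, 119), (10, 105), (13, 270),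
    (5, 9), (5, 7), (13, 268), (2, 218), (4, 12), (8, 13), (14, 1), (2, 102), (10, 9), (3, 81),
    (13, 97), (12, 72), (4, 26), (2, 94), (6, 40), (5, 75), (11, 18), (13, 19), (6, 10), (12, 214),
    (5, 65), (4, 45), (4, 14), (10, 155), (10, 87), (2, 195), (10, 57), (9, 87), (5, 165), (3, 249),
    (3, 167), (2, 67), (11, 24), (13, 298), (14, 141), (12, 227)]

def entries_4 : List (ℕ × ℕ) :=
  [(5, 48), (16, 2), (7, 163), (13, 228), (13, 66), (6, 29), (11, 21), (3, 230), (3, 216), (10, 35),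
    (5, 32), (13, 141), (13, 211), (3, 210), (10, 89), (4, 139), (9, 140), (13, 148), (13, 144), (4, 50),
    (9, 209), (2, 148), (4, 117), (2, 52), (11, 40), (12, 205), (9, 34), (13, 140), (3, 276), (2, 69),
    (13, 134), (14, 125), (3, 181), (16, 13), (2, 34), (3, 135), (4, 40), (4, 73), (4, 104), (13, 108),
    (10, 72), (10, 74), (3, 54), (13, 279), (13, 233), (5, 33), (4, 20), (13, 174), (4, 62), (9, 32),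
    (7, 66), (3, 208), (9, 60), (10, 19), (2, 203), (12, 223), (4, 226), (12, 42), (3, 100), (1, 24),
    (3, 201), (13, 85), (10, 82), (3, 265), (4, 168), (14, 67), (4, 234), (9, 42), (9, 108), (4, 115),
    (16, 121), (2, 54), (4, 49), (13, 67), (13, 31), (14, 62), (3, 155), (4, 169), (17, 8), (13, 187),
    (5, 40), (5, 76), (1, 92), (11, 14), (9, 18), (4, 222), (13, 26), (16, 138), (4, 170), (4, 122),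
    (2, 83), (9, 93), (13, 195), (13, 229), (13, 91), (16, 15), (4, 111), (13, 193), (10, 36), (13, 23),
    (9, 57), (11, 118), (5, 17), (2, 147), (14, 103), (2, 17), (11, 135), (7, 102), (12, 146), (9, 21),
    (3, 87), (3, 165), (13, 101), (13, 28), (14, 2), (12, 63), (10, 28), (12, 105), (2, 128), (2, 7),
    (2, 202), (3, 163), (10, 95), (2, 224), (3, 31), (14, 19)]

def entries_5 : List (ℕ × ℕ) :=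
  [(6, 54), (1, 264), (13, 283), (14, 80), (3, 235), (3, 207), (14, 44), (13, 220), (10, 137), (2, 32),
    (13, 176), (4, 120), (13, 77), (4, 88), (9, 29), (13, 200), (3, 65), (13, 95), (3, 93), (3, 50),
    (3, 117), (7, 211), (2, 47), (13, 106), (10, 5), (3, 112), (1, 248), (7, 97), (3, 218), (12, 166),
    (12, 207), (9, 163), (7, 203), (12, 19), (9, 107), (2, 70), (9, 147), (13, 239), (17, 0), (7, 254),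
    (3, 108), (7, 219), (3, 222), (6, 24), (12, 21), (6, 41), (9, 22), (11, 74), (4, 182), (3, 257),
    (1, 84), (13, 25), (10, 123), (3, 191), (5, 45), (3, 47), (6, 71), (3, 61), (11, 53), (14, 6),
    (14, 78), (10, 63), (7, 10), (11, 50), (3, 85), (7, 130), (3, 69), (12, 29), (13, 189), (6, 11),
    (12, 161), (10, 117), (16, 51), (10, 27), (11, 29), (4, 52), (3, 76), (9, 117), (3, 4), (3, 221),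
    (4, 227), (3, 220), (1, 136), (14, 203), (13, 151), (9, 31), (13, 223), (2, 185), (10, 153), (5, 80),
    (13, 138), (13, 36), (9, 53), (4, 89), (9, 70), (13, 3), (3, 246), (16, 14), (11, 94), (7, 76),
    (13, 203), (9, 28), (4, 211), (9, 1), (13, 110), (13, 113), (3, 192), (10, 119), (3, 268), (10, 49),
    (2, 31), (9, 72), (12, 5), (12, 31), (10, 226), (13, 288), (10, 33), (13, 52), (2, 142), (3, 244),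
    (13, 280), (6, 100), (12, 126), (3, 88), (10, 40), (14, 160)]

def entries_6 : List (ℕ × ℕ) :=
  [(8, 16), (13, 281), (6, 63), (13, 240), (10, 59), (14, 45), (10, 25), (5, 0), (4, 25), (2, 100),
    (10, 193), (10, 37), (11, 34), (14, 10), (7, 72), (3, 48), (9, 84), (3, 57), (7, 88), (12, 100),
    (12, 1), (11, 1), (2, 194), (13, 272), (13, 132), (3, 184), (13, 196), (2, 42), (16, 39), (13, 120),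
    (3, 245), (7, 18), (12, 188), (3, 290), (3, 202), (2, 16), (5, 129), (5, 90), (2, 8), (5, 136),
    (13, 222), (2, 210), (13, 5), (13, 293), (7, 75), (4, 34), (2, 82), (9, 80), (13, 207), (4, 65),
    (13, 254), (7, 20), (16, 43), (16, 17), (2, 112), (13, 205), (9, 82), (3, 153), (13, 50), (13, 295),
    (4, 36), (16, 79), (14, 50), (10, 222), (11, 86), (13, 45), (4, 131), (2, 211), (9, 39), (3, 292),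
    (14, 187), (3, 133), (13, 102), (3, 204), (9, 141), (13, 63), (2, 80), (4, 136), (5, 64), (5, 28),
    (3, 177), (3, 91), (4, 2), (1, 108), (13, 33), (5, 67), (13, 226), (2, 187), (9, 37), (10, 83),
    (12, 147), (10, 30), (13, 124), (1, 216), (9, 131), (12, 155), (13, 6), (2, 230), (11, 2), (13, 215),
    (3, 15), (13, 47), (10, 53), (4, 1), (14, 27), (3, 119), (13, 277), (4, 70), (13, 48), (10, 173),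
    (4, 116), (5, 84), (13, 128), (3, 16), (7, 120), (3, 37), (2, 154), (2, 155), (3, 217), (10, 138),
    (16, 3), (13, 38), (3, 106), (1, 8), (4, 112), (4, 87)]

def entries_7 : List (ℕ × ℕ) :=
  [(3, 175), (14, 41), (10, 45), (14, 46), (10, 18), (14, 20), (3, 19), (5, 10), (12, 27), (12, 143),
    (2, 239), (2, 81), (6, 9), (3, 168), (13, 51), (2, 88), (11, 27), (10, 43), (3, 270), (9, 43),
    (14, 63), (15, 136), (3, 251), (11, 101), (16, 111), (7, 162), (9, 10), (4, 31), (2, 59), (3, 126),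
    (10, 79), (2, 163), (4, 152), (13, 266), (6, 30), (12, 85), (11, 154), (2, 0), (3, 38), (13, 75),
    (13, 114), (12, 22), (11, 45), (6, 125), (12, 169), (13, 44), (9, 38), (1, 244), (13, 11), (13, 245),
    (5, 36), (13, 173), (13, 246), (13, 206), (5, 125), (12, 47), (4, 69), (12, 25), (17, 124), (12, 61),
    (12, 9), (7, 31), (7, 93), (3, 144), (12, 101), (6, 31), (3, 13), (9, 166), (3, 71), (7, 80),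
    (13, 199), (13, 274), (2, 131), (11, 151), (3, 275), (7, 23), (10, 135), (3, 234), (13, 227), (3, 75),
    (3, 52), (2, 9), (7, 58), (10, 206), (15, 2), (6, 50), (14, 35), (4, 86), (3, 35), (13, 225),
    (2, 40), (3, 105), (2, 76), (3, 66), (7, 95), (7, 60), (9, 75), (9, 202), (3, 205), (7, 206),
    (3, 148), (9, 194), (6, 22), (15, 37), (4, 148), (14, 17), (3, 114), (7, 67), (13, 192), (1, 212),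
    (3, 225), (2, 25), (2, 231), (4, 114), (13, 180), (14, 33), (3, 159), (6, 60), (14, 29), (13, 7),
    (3, 186), (3, 73), (1, 260), (13, 17), (9, 9), (3, 232)]

def entries_8 : List (ℕ × ℕ) :=
  [(13, 109), (10, 104), (6, 14), (4, 91), (10, 229), (12, 23), (4, 181), (13, 269), (12, 39), (6, 1),
    (3, 228), (1, 152), (9, 142), (2, 27), (2, 162), (2, 84), (13, 68), (3, 107), (9, 91), (13, 18),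
    (10, 156), (12, 174), (7, 156), (3, 18), (7, 56), (15, 49), (13, 49), (11, 48), (12, 77), (6, 13),
    (3, 237), (13, 111), (3, 206), (13, 143), (7, 32), (2, 45), (3, 115), (3, 17), (9, 219), (7, 28),
    (1, 56), (15, 7), (3, 143), (7, 55), (9, 156), (2, 254), (7, 73), (7, 50), (13, 294), (3, 102),
    (9, 25), (13, 185), (7, 59), (9, 157), (2, 252), (9, 168), (13, 234), (3, 293), (13, 165), (5, 66),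
    (3, 145), (3, 242), (5, 39), (4, 90), (4, 97), (14, 57), (13, 292), (3, 124), (16, 7), (13, 198),
    (5, 164), (4, 17), (16, 98), (13, 12), (10, 94), (11, 134), (9, 64), (13, 259), (10, 134), (2, 5),
    (4, 141), (12, 118), (12, 82), (1, 292), (10, 212), (10, 200), (1, 40), (10, 174), (17, 14), (13, 82),
    (9, 267), (2, 104), (4, 4), (4, 66), (3, 156), (13, 177), (1, 20), (9, 13), (13, 275), (13, 209),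
    (10, 221), (11, 5), (4, 100), (2, 62), (3, 223), (6, 32), (9, 101), (12, 62), (13, 248), (2, 23),
    (3, 286), (10, 85), (12, 46), (15, 16), (7, 11), (2, 18), (7, 218), (4, 99), (13, 260), (12, 14),
    (3, 248), (2, 19), (7, 1), (3, 45), (3, 182), (14, 0)]

def entries_9 : List (ℕ × ℕ) :=
  [(3, 176), (12, 129), (15, 90), (13, 210), (11, 91), (10, 96), (3, 128), (12, 69), (10, 80), (13, 160),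
    (4, 8), (6, 25), (7, 253), (13, 90), (3, 161), (1, 188), (9, 12), (13, 103), (9, 165), (3, 142),
    (3, 160), (9, 58), (6, 26), (10, 11), (3, 283), (13, 164), (7, 96), (3, 274), (9, 71), (13, 208),
    (13, 291), (3, 2), (13, 133), (13, 221), (5, 50), (2, 48), (9, 89), (4, 113), (2, 51), (16, 10),
    (2, 37), (4, 53), (10, 54), (3, 44), (5, 46), (4, 22), (13, 241), (10, 17), (13, 117), (7, 125),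
    (9, 2), (1, 144), (13, 87), (9, 3), (9, 214), (3, 132), (13, 166), (14, 32), (16, 55), (5, 43),
    (7, 192), (7, 196), (4, 171), (13, 0), (4, 63), (3, 134), (13, 112), (13, 145), (3, 122), (9, 222),
    (1, 128), (4, 43), (3, 83), (3, 233), (4, 9), (13, 135), (3, 21), (1, 12), (3, 89), (12, 44),
    (3, 40), (7, 216), (12, 95), (14, 40), (9, 65), (3, 215), (9, 8), (9, 241), (1, 228), (15, 1),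
    (3, 103), (4, 6), (11, 70), (13, 64), (4, 27), (13, 53), (13, 116), (2, 74), (3, 239), (3, 84),
    (9, 27), (13, 86), (13, 9), (13, 71), (1, 220), (13, 84), (3, 271), (3, 297), (7, 121), (6, 12),
    (3, 256), (14, 147), (2, 2), (12, 150), (15, 0), (2, 95), (7, 252), (9, 103), (13, 201), (9, 69),
    (3, 36), (7, 104), (4, 178), (13, 290), (13, 159), (3, 86)]

def entries_10 : List (ℕ × ℕ) :=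
  [(2, 44), (7, 7), (13, 267), (3, 250), (9, 158), (1, 112), (9, 36), (10, 7), (12, 48), (1, 132),
    (12, 32), (10, 29), (17, 27), (7, 3), (7, 164), (10, 73), (10, 3), (7, 9), (13, 190), (3, 179),
    (4, 78), (3, 298), (3, 180), (13, 149), (12, 145), (12, 18), (3, 149), (2, 15), (11, 3), (17, 23),
    (1, 236), (9, 61), (3, 269), (3, 190), (9, 146), (2, 38), (10, 32), (2, 14), (14, 30), (6, 46),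
    (13, 168), (12, 158), (12, 103), (15, 12), (6, 80), (4, 0), (14, 8), (15, 55), (9, 16), (7, 198),
    (1, 160), (9, 118), (13, 55), (13, 218), (2, 103), (13, 62), (4, 157), (3, 188), (6, 6), (12, 201),
    (7, 46), (3, 227), (15, 68), (3, 172), (3, 278), (1, 272), (3, 157), (9, 179), (13, 188), (13, 21),
    (13, 250), (9, 78), (13, 150), (3, 8), (1, 4), (4, 235), (13, 155), (10, 158), (9, 115), (2, 141),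
    (11, 54), (2, 139), (7, 195), (7, 41), (3, 118), (9, 52), (11, 58), (2, 63), (10, 64), (16, 52),
    (5, 1), (11, 127), (13, 59), (13, 179), (14, 9), (8, 17), (5, 4), (14, 13), (2, 172), (5, 13),
    (13, 130), (10, 150), (4, 16), (10, 69), (13, 235), (16, 84), (12, 159), (5, 24), (6, 44), (7, 166),
    (3, 226), (9, 33), (3, 252), (2, 99), (7, 263), (13, 287), (13, 156), (6, 4), (12, 52), (12, 37),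
    (3, 7), (3, 197), (10, 1), (2, 164), (14, 54), (7, 124)]

def entries_11 : List (ℕ × ℕ) :=
  [(2, 28), (12, 243), (10, 92), (2, 130), (4, 154), (5, 134), (14, 24), (10, 16), (10, 15), (6, 28),
    (13, 284), (11, 84), (3, 33), (3, 111), (9, 95), (12, 84), (13, 224), (4, 46), (10, 26), (11, 37),
    (2, 78), (9, 40), (3, 291), (7, 158), (3, 94), (3, 200), (12, 112), (7, 134), (3, 129), (12, 184),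
    (2, 85), (10, 14), (12, 102), (3, 260), (7, 137), (2, 57), (14, 36), (9, 14), (13, 136), (5, 12),
    (10, 10), (14, 64), (12, 171), (3, 212), (3, 247), (3, 82), (3, 9), (13, 54), (13, 131), (2, 126),
    (2, 107), (8, 25), (6, 21), (7, 44), (13, 57), (4, 23), (12, 66), (6, 2), (13, 182), (2, 132),
    (14, 12), (3, 104), (11, 62), (11, 36), (11, 38), (10, 289), (10, 250), (5, 11), (5, 203), (2, 96),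
    (10, 125), (14, 76), (9, 11), (13, 204), (5, 2), (13, 296), (10, 86), (5, 81), (13, 39), (10, 68),
    (13, 10), (16, 70), (3, 95), (7, 260), (3, 193), (2, 77), (7, 52), (9, 4), (9, 252), (13, 158),
    (4, 146), (2, 46), (4, 37), (11, 11), (12, 213), (3, 78), (2, 175), (6, 8), (4, 155), (3, 194),
    (13, 118), (3, 25), (12, 26), (7, 271), (3, 0), (3, 255), (12, 132), (11, 28), (12, 28), (13, 92),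
    (6, 20), (15, 29), (4, 259), (1, 232), (7, 53), (7, 118), (11, 26), (6, 43), (5, 16), (16, 22),
    (8, 60), (8, 40), (8, 4), (8, 28), (14, 66), (10, 24)]

def entries_12 : List (ℕ × ℕ) :=
  [(10, 51), (4, 247), (11, 44), (16, 19), (7, 12), (16, 45), (5, 120), (16, 11), (15, 3), (4, 102),
    (16, 90), (12, 6), (7, 136), (14, 7), (5, 133), (12, 40), (7, 36), (16, 31), (5, 20), (11, 69),
    (12, 67), (12, 41), (17, 7), (1, 200), (10, 75), (10, 46), (12, 78), (6, 42), (5, 89), (14, 5),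
    (16, 1), (4, 28), (10, 71), (17, 5), (4, 258), (4, 93), (8, 6), (11, 10), (10, 2), (16, 27),
    (12, 106), (12, 64), (1, 240), (10, 112), (10, 84), (15, 47), (7, 14), (12, 104), (7, 38), (17, 9),
    (14, 42), (6, 5), (4, 94), (4, 245), (14, 77), (15, 21), (15, 88), (4, 29), (6, 7), (4, 103),
    (4, 56), (15, 31), (16, 5), (11, 61), (6, 84), (7, 169), (15, 6), (4, 74), (15, 33), (1, 124),
    (10, 140), (7, 272), (11, 43), (16, 29), (10, 62), (12, 121), (8, 33), (8, 0), (17, 6), (10, 66),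
    (10, 93), (16, 64), (10, 77), (12, 98), (5, 44), (12, 86), (15, 11), (4, 57), (8, 48), (14, 84),
    (1, 196), (6, 48), (6, 49), (8, 1), (14, 48), (4, 10), (16, 9), (5, 105), (16, 108), (4, 75),
    (4, 33), (7, 15), (8, 8), (5, 30), (7, 170), (11, 92), (10, 172), (16, 35), (12, 54), (14, 52),
    (7, 24), (11, 68), (5, 130), (17, 40), (7, 22), (12, 123), (4, 132), (4, 32), (5, 19), (14, 49),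
    (16, 34), (16, 69), (12, 96), (7, 26), (17, 29), (1, 184)]

def entries_13 : List (ℕ × ℕ) :=
  [(7, 275), (17, 16), (10, 70), (10, 110), (12, 51), (12, 87), (1, 0), (11, 7), (6, 52), (15, 111),
    (15, 71), (7, 21), (7, 13), (0, 0), (15, 74), (16, 73), (16, 59), (15, 56), (10, 187), (13, 29),
    (13, 232), (3, 288), (7, 224), (3, 183), (4, 110), (6, 70), (4, 19), (13, 163), (7, 92), (3, 243),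
    (2, 222), (9, 177), (6, 92), (11, 33), (9, 144), (3, 46), (14, 21), (13, 263), (12, 240), (12, 202),
    (13, 178), (2, 129), (7, 8), (15, 24), (7, 6), (3, 158), (1, 268), (9, 19), (13, 194), (3, 203),
    (2, 101), (13, 262), (10, 139), (2, 36), (2, 41), (3, 166), (7, 94), (1, 88), (3, 138), (11, 8),
    (12, 8), (12, 36), (7, 57), (3, 30), (9, 116), (9, 77), (13, 265), (9, 169), (3, 263), (13, 147),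
    (3, 173), (12, 113), (3, 29), (1, 64), (13, 32), (7, 255), (3, 262), (9, 106), (9, 51), (7, 83),
    (3, 51), (2, 3), (3, 116), (9, 35), (7, 91), (17, 36), (15, 13), (12, 3), (1, 80), (7, 167),
    (7, 201), (10, 108), (12, 76), (17, 3), (10, 8), (1, 60), (4, 11), (4, 134), (6, 53), (15, 32),
    (14, 99), (15, 65), (7, 65), (12, 79), (7, 197), (9, 62), (14, 28), (3, 231), (9, 47), (6, 0),
    (12, 250), (15, 8), (9, 112), (1, 224), (3, 20), (2, 86), (14, 146), (6, 15), (4, 47), (3, 187),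
    (13, 105), (13, 72), (11, 114), (3, 240), (2, 10), (3, 53)]

def entries_14 : List (ℕ × ℕ) :=
  [(13, 74), (4, 5), (13, 115), (6, 35), (11, 4), (15, 60), (7, 17), (12, 24), (3, 146), (9, 257),
    (15, 108), (3, 28), (1, 16), (13, 89), (3, 285), (9, 0), (3, 62), (3, 273), (9, 104), (7, 37),
    (7, 165), (10, 160), (10, 287), (12, 185), (12, 198), (1, 156), (17, 2), (13, 129), (13, 1), (4, 150),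
    (3, 72), (13, 56), (2, 79), (1, 68), (9, 96), (3, 150), (7, 4), (13, 127), (9, 20), (2, 122),
    (7, 184), (9, 88), (3, 199), (3, 58), (7, 29), (7, 138), (15, 9), (1, 192), (10, 41), (12, 50),
    (1, 204), (12, 55), (10, 4), (17, 47), (3, 154), (3, 110), (7, 139), (3, 5), (6, 94), (12, 4),
    (13, 214), (12, 20), (3, 26), (4, 109), (6, 114), (10, 111), (3, 41), (3, 178), (7, 220), (12, 131),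
    (3, 140), (13, 191), (12, 68), (7, 77), (2, 61), (2, 201), (14, 37), (10, 239), (1, 104), (9, 66),
    (13, 80), (3, 170), (3, 259), (4, 121), (4, 3), (15, 87), (2, 29), (13, 171), (7, 199), (14, 96),
    (2, 20), (12, 241), (3, 171), (13, 125), (1, 100), (3, 42), (9, 56), (6, 34), (10, 0), (9, 92),
    (12, 0), (7, 5), (17, 11), (7, 78), (15, 44), (9, 190), (12, 93), (3, 130), (1, 52), (13, 183),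
    (4, 15), (10, 122), (11, 81), (2, 226), (9, 246), (13, 41), (3, 219), (9, 49), (3, 280), (7, 0),
    (9, 181), (13, 244), (17, 20), (12, 11), (7, 129), (7, 217)]

def entries_15 : List (ℕ × ℕ) :=
  [(1, 32), (3, 3), (13, 42), (13, 65), (3, 295), (1, 288), (9, 167), (3, 211), (6, 78), (12, 7),
    (3, 6), (7, 122), (3, 109), (13, 231), (3, 121), (3, 96), (13, 170), (9, 15), (1, 284), (11, 0),
    (6, 66), (7, 117), (15, 25), (15, 17), (9, 83), (3, 49), (3, 56), (2, 11), (7, 35), (7, 54),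
    (9, 105), (7, 90), (3, 279), (13, 96), (4, 215), (10, 167), (10, 186), (3, 174), (5, 106), (4, 60),
    (2, 6), (11, 184), (7, 68), (9, 99), (7, 119), (3, 213), (9, 97), (3, 258), (3, 97), (13, 181),
    (14, 34), (16, 82), (4, 106), (13, 278), (13, 236), (10, 78), (4, 7), (11, 6), (9, 17), (2, 26),
    (10, 128), (17, 13), (1, 276), (12, 58), (12, 34), (1, 28), (10, 144), (10, 143), (4, 13), (5, 126),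
    (2, 127), (13, 152), (9, 45), (13, 16), (2, 125), (13, 247), (13, 243), (4, 80), (9, 127), (13, 216),
    (4, 175), (13, 34), (7, 48), (5, 15), (9, 197), (3, 63), (4, 123), (1, 296), (3, 294), (3, 99),
    (13, 161), (9, 182), (16, 4), (5, 22), (14, 87), (16, 159), (4, 55), (4, 156), (12, 127), (17, 10),
    (10, 270), (12, 197), (1, 96), (2, 65), (4, 21), (13, 299), (3, 264), (13, 276), (16, 63), (9, 220),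
    (1, 36), (13, 37), (10, 190), (13, 253), (1, 280), (3, 277), (3, 11), (13, 30), (13, 104), (9, 154),
    (4, 183), (13, 98), (2, 24), (3, 74), (13, 58), (13, 282)]

def entries : List (ℕ × ℕ) :=
  entries_0 ++ entries_1 ++ entries_2 ++ entries_3 ++ entries_4 ++ entries_5 ++ entries_6 ++ entries_7 ++ entries_8 ++ entries_9 ++ entries_10 ++ entries_11 ++ entries_12 ++ entries_13 ++ entries_14 ++ entries_15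

def goodCerts : List (ℕ × List (List ℕ)) :=
  [(1, [[0,2,0,2,0], [0,2,0,2,0,1,1,1,1,3], [0,1,1,3,0,1,1,3,1], [0,0,1,1,2,3,1,1,3,0,0,2,1,3], [0,1,1,3,0,3,3,1,2,1,1,2]]),
    (2, [[1,3,1,3,1,3,0], [0,0,0,0,2,3,1,3,1,3,0,1], [1,2,0,1,2,2,2,0,2,3], [0,3,3,0,2,0,0,3,0,3,0,3,3], [1,1,1,2,2,1,2,1,2,3,3,0]]),
    (3, [[0,0,0,0,2,2,0,0,0,2], [0,0,2,2,2,2,0,2,2,2], [0,2,1,1,3,0,2,0,3,1,2,2], [0,1,2,3,1,1,3,0,2,2,0,3], [0,0,2,0,2,2,1,2,0,2,3,0,2,1]]),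
    (4, [[0,0,0,2,2,0,0,0,2,2], [2,0,0,0,2,2,0,3,0,0,2,1], [0,0,1,2,1,1,3,0,1,1,3,1,3], [0,1,3,0,0,2,2,3,1,1,3,0,0], [0,2,1,2,3,3,0,2,3,3,1,3]]),
    (5, [[2,1,3,3,1,2,0], [0,0,1,3,0,0,2,1,2,1,2], [0,2,1,1,3,3,1,3,1,3,3], [1,2,2,2,0,3,3,0,3,0,1], [0,3,3,1,1,2,3,0,0,0,1]]),
    (6, [[2,1,1,1,3,0,1,2,3,3,1], [3,0,0,2,1,3,3,1,3,1], [0,0,0,1,2,0,1,1,3,0,3], [2,0,1,3,3,1,1,2,0,1,2], [2,1,1,3,3,0,1,2,2,2,3]]),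
    (7, [[1,1,2,0,1,3,0,0,1,3], [2,1,2,2,3,1,3,3,0,3], [0,3,1,1,1,3,0,0,1,1], [0,2,1,1,3,1,2,1,1], [0,1,2,2,2,0,3,1,3,1,3,0]]),
    (9, [[1,2,2,0,3,1,3,0,0,3,1], [0,2,0,1,1,3,0,3,0,0,2], [3,1,3,0,2,3,1,3,0], [2,0,0,2,0,2,2,3,0,0,3,0], [3,0,2,2,1,1,1,3,0,2,3]]),
    (10, [[0,1,3,0,0,3,3,0,1,2,1,1], [0,2,2,0,1,2,2,1,3,1,1,1], [0,0,0,1,1,2,2,2,1,1], [2,0,0,0,2,3,0,1,3,0], [3,0,2,3,1,1,3,3,1]]),
    (11, [[1,3,3,0,0,2,2,3,1,2,2,3], [1,3,0,1,3,3,0,3,0,0,2], [0,0,3,3,0,0,3,1,3], [0,2,2,1,1,2,1,2,2,3,0,2], [1,1,3,0,3,3,0,2,1,1,2,2]]),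
    (12, [[0,0,2,3,3,0,3,1,1,3,0,1], [0,2,2,3,1,3,0,2], [0,0,2,1,3,1,2,1,2,2,1], [0,3,0,3,0,1,2,1,2,3,1,2], [0,1,2,2,3,1,2,0,3,3,1]]),
    (13, [[0,2,0,2,3,3,1,2,3,0,2], [1,3,1,3,0,0,0,3,0,2,1], [0,1,1,3,0,0,0,1,2,0,3], [1,3,1,2,1,3,3,1,2,3], [2,1,2,1,3,0,1,3,0,2,3]]),
    (14, [[1,1,2,2,3,3,3,0,0,1], [2,3,3,1,1,1,2,0,1,2,0,1], [1,1,2,3,1,2,2,1,1], [1,2,3,0,2,1,3,3,0,2], [0,2,3,3,0,2,1,3,1,2]]),
    (15, [[2,2,0,0,1,1,2,2,2,0], [0,1,2,3,0,1,2,2,0,2,1], [3,0,1,3,0,2,2,0,1,2], [0,0,3,0,0,0,2,3,3,3], [0,3,3,0,2,0,2,2,0,3,0]]),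
    (16, [[0,2,2,0,2,0,3,3,3,0,1], [1,1,3,1,1,2,2,0,1,3], [1,2,0,0,1,1,2,1,1,2], [0,2,3,0,0,3,1,1,1,1], [0,2,3,0,2,1,3,1,2,2]]),
    (17, [[0,1,1,1,1,2,2,1], [2,2,0,1,3,0,3,0,3,0,1], [0,0,2,2,2,2,3,3,1], [2,1,3,3,0,2,3,0,0,1,3,3], [0,2,1,2,2,3,1,2,0,3,0,0]])]

def mates : List ℕ :=
  [1588, 1589, 1600, 1605, 1614]

def otherCerts : List (ℕ × List (List ℕ)) :=
  [(346, [[3,1,5,5,1,3,3,5,3,5,3], [0,0,3,5,3,3,3,3,5,3,1,1], [3,1,3,5,5,3,4,3,5,5,0], [4,3,3,5,3,3,3,5,1,5,5,3], [1,3,5,3,3,4,5,1,5,5,3,3]]),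
    (473, [[0,5,3,1,3,5,5,3,5,0,0,0], [3,4,3,5,5,3,1,5,1,1], [0,5,5,0,3,3,4,5,5,3,3,4], [3,1,3,4,5,3,3,5,0,5,5,1,3], [3,1,5,3,3,3,4,5,0,5,5,1,3]]),
    (756, [[5,3,3,5,5,3,1,1,5,0,0], [0,3,1,3,1,5,5,5,3,5], [3,4,3,5,5,3,1,3,1,5,0], [5,3,5,5,0,3,5,0,5,3,3,1], [0,5,0,3,3,5,3,3,3,5,5,1,1]]),
    (1355, [[3,1,3,5,5,3,5,3,4,5,5,5], [3,5,0,3,5,3,4,4,4], [5,3,3,3,5,1,5,3,4,3], [4,3,3,5,5,3,4,5,3,5,3,4], [3,4,5,0,0,3,3,5,5,1,5,3]]),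
    (1437, [[1,5,3,3,3,4,5,0,3,5,1,3], [3,1,3,1,5,5,5,3,5,0], [0,5,1,3,1,3,5,5,3,4,3], [1,3,3,5,3,3,3,5,5,0,5,0,3], [5,0,3,3,4,5,3,3,5,5,1]]),
    (1506, [[3,5,3,1,3,5,3,1,5,5,1], [3,3,3,1,4,5,3,1,4,5,3], [5,5,3,4,5,3,5,5,3,1,3], [4,4,3,5,5,3,3,1,5,3,5,5], [5,3,1,3,1,1,5,5,3,1,1,5]]),
    (1507, [[5,5,1,3,5,3,1,3,5,3,1], [1,1,4,3,5,3,1,1,5,3,3], [0,0,3,5,3,1,3,5,1,3,1,5,5], [3,5,1,5,5,5,3,3,1,5,3,3], [0,3,5,5,5,1,5,3,5,3,5]]),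
    (1508, [[5,0,3,3,5,1,1,1,3,1,5,3], [0,1,1,3,1,3,5,3,1,5,3,3], [1,3,5,5,0,3,4,4,5,3,5], [5,0,5,3,5,5,3,1,3,3,5,3], [3,5,0,1,5,5,3,3,5,1,3]]),
    (1509, [[5,3,3,1,5,5,3,3,1,5], [0,3,5,3,4,5,3,5,3,1,1,5,5], [0,1,3,5,3,5,5,5,3,1,5,0], [3,5,0,5,5,0,3,3,5,0,3,3], [0,3,5,5,0,5,1,3,1,5,3,5]]),
    (1548, [[0,3,5,1,3,5,5,0,1,3,5,3], [4,3,3,5,0,3,1,5,0,3], [0,0,1,3,5,3,5,5,5,3,1,5], [0,3,5,0,5,5,0,3,3,5,3,3], [1,3,4,5,0,5,5,3,3,5,3,3]])]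

def pImgs : List (List ℕ) :=
  [[0,1,9,29,43,82],
    [0,6,574,24,359,1111],
    [0,97,767,86,595,1465],
    [0,42,483,17,242,406],
    [0,84,18,326,58,958],
    [0,341,540,373,49,154],
    [0,280,733,553,390,1222],
    [0,113,759,170,950,991],
    [0,57,348,62,727,1258],
    [0,584,37,860,119,1588],
    [0,1597,596,1016,1198,315],
    [0,482,1086,707,729,1655],
    [0,27,261,875,207,776],
    [0,651,650,162,520,1625],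
    [0,1268,25,4,1088,318],
    [0,142,865,26,1087,416],
    [0,1688,623,841,548,473],
    [0,295,486,160,211,883],
    [0,1082,1197,1301,1293,1466],
    [0,96,95,20,705,1014],
    [0,343,1018,344,741,200],
    [0,740,360,88,510,1595],
    [0,877,1270,646,834,1256],
    [0,229,15,804,150,1303],
    [0,45,22,558,134,534]]

def normCert : List (List ℕ) := [[1,1,4,4,3,4,3,4,3,5,0,3,5], [5,3,3,3,5,3,3,5], [0,3,4,3,4,0,3,4,3,4], [1,3,3,4,1,4,3,5,1,3,5,3], [3,1,4,4,0,3,5,1,3,5,3]]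

end Cfsg.Lib.SuzPres.RankThree
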