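import Cfsg.Agent.SuzPres.Alpha
import Cfsg.Agent.SuzPres.JTwoChecks
import Cfsg.Agent.SuzPres.RankThree.JData

/-!
Tests on words in the letters of the presented Suzuki group, for the Sylow 5-subgroups of the subgroup on five
letters.
-/

set_option autoImplicit false

namespace Cfsg.Lib.SuzPres.RankThree

open Cfsg.Lib.CosetCert Cfsg.Lib.PermCert

/-- Base points which determine an element. -/
def bases : List ℕ := [0, 1, 9, 29, 43, 82]

/-- The images of the base points. -/
def imgs (w : List ℕ) : List ℕ := bases.map (evalW tabs w)

/-- The images of the base points as a number. -/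
def code (w : List ℕ) : ℕ := (imgs w).foldl (fun c x => c * 2048 + x) 0

/-- A power of a word. -/
def repW (n : ℕ) (w : List ℕ) : List ℕ := (List.replicate n w).flatten

/-- An element of the Sylow subgroup. -/
def pW (i j : ℕ) : List ℕ := repW i aW ++ repW j bW

/-- A word conjugated by another. -/
def conjW (u w : List ℕ) : List ℕ := w.reverse ++ u ++ w

/-- A conjugating word. -/
def eW (e : ℕ × ℕ) : List ℕ := kW.getD e.1 [] ++ nW.getD e.2 []

/-- The generators of a conjugate of the Sylow subgroup. -/
def qGens (w : List ℕ) : List (List ℕ) := [conjW aW w, conjW bW w]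

/-- A word in some words. -/
def expand (alph : List (List ℕ)) (c : List ℕ) : List ℕ := c.flatMap fun i => alph.getD i []

/-- Words in some words giving the five letters. -/
def certOK (alph cs : List (List ℕ)) : Bool :=
  (cs.length == 5) && alph.all JTwo.fiveWord &&
    (List.range 5).all fun l => (cs.getD l []).all (fun i => Nat.blt i alph.length) &&
      (imgs (expand alph (cs.getD l [])) == imgs [l])

/-- The words for the Sylow subgroup and one conjugate. -/
def alphGood (c : ℕ) : List (List ℕ) := [aW, bW] ++ qGens (kW.getD c [])

/-- The words for the Sylow subgroup and two conjugates. -/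
def alphOther (j : ℕ) : List (List ℕ) := alphGood 8 ++ qGens (eW (entries.getD j (0, 0)))

/-- The words for the Sylow subgroup, one conjugate and the normaliser. -/
def alphNorm : List (List ℕ) := alphGood 8 ++ [nW.getD nGen.1 [], nW.getD nGen.2 []]

/-- The orbit of 315 points. -/
def mask315 : ℕ := JTwo.treeMask JTwo.orbit1

/-- The fixed set of a conjugate, as a mask. -/
def maskE (w : List ℕ) : ℕ := fixSet.foldl (fun s z => s ||| 1 <<< evalW tabs w z) 0

/-- A strictly increasing list. -/
def incr {α : Type} (f : α → ℕ) : List α → Bool
  | [] => true
  | [_] => true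
  | x :: y :: r => Nat.blt (f x) (f y) && incr f (y :: r)

end Cfsg.Lib.SuzPres.RankThree
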