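import Cfsg.Agent.SuzPres.RankThree.VDefs

/-!
Kernel checks for the 2-subgroup and its invariant sets.
-/

set_option autoImplicit false
set_option maxRecDepth 8000
set_option Elab.async false

namespace Cfsg.Lib.SuzPres.RankThree

open Cfsg.Lib.CosetCert Cfsg.Lib.PermCert

theorem v_words : vW.all sixWord = true ∧ vW.length = 12 := by decide +kernel

theorem v_steps : (List.range 12).all vStep = true := by decide +kernel

theorem v_trees : (vOrbits.all fun o => Nat.blt o.1 1782 && scanOrb tabs 1782 vW (1 <<< o.1) o.2) = true ∧
    ((List.range 1782).all fun z => mask1.testBit z == (List.range 5).any fun i =>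
      (JTwo.treeMask (vOrbits.getD i (0, []))).testBit z) = true ∧
    ((List.range 5).all fun i => (List.range 1782).all fun z =>
      !(JTwo.treeMask (vOrbits.getD i (0, []))).testBit z || (List.range i).all fun j =>
        !(JTwo.treeMask (vOrbits.getD j (0, []))).testBit z) = true ∧
    ((List.range 5).all fun i =>
      JTwo.cnt (JTwo.treeMask (vOrbits.getD i (0, []))) == (vOrbits.getD i (0, [])).2.length + 1) = true := by
  decide +kernel

theorem cand_list : ((List.range 5).sublists.all fun sel => (selSize sel != 96) || (sel == bad0Sel) ||
    (sel == bad1Sel) || (sel == bad2Sel) || (sel == goodSel)) = true := by decide +kernel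

theorem cand_masks : selMask bad0Sel = bad0Mask ∧ selMask bad1Sel = bad1Mask ∧ selMask bad2Sel = bad2Mask ∧
    selMask goodSel = goodMask ∧ JTwo.cnt goodMask = 96 := by decide +kernel

theorem bad0_ok : imagesOK bad0Mask bad0Pts bad0Words 316 = true := by decide +kernel

theorem bad1_ok : imagesOK bad1Mask bad1Pts bad1Words 316 = true := by decide +kernel

theorem bad2_ok : imagesOK bad2Mask bad2Pts bad2Words 316 = true := by decide +kernel

theorem good_images : imagesOK goodMask goodPts goodWords 158 = true := by decide +kernel

end Cfsg.Lib.SuzPres.RankThree
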