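import Cfsg.Agent.SuzPres.RankThree.Six
import Cfsg.Agent.SuzPres.RankThree.VCheck

/-!
A subgroup of index 1365 of the group on six letters which leaves a set of 96 of the 416 points invariant is the
stabiliser of that set, and such sets form one orbit.
-/

set_option autoImplicit false
set_option maxRecDepth 8000

namespace Cfsg.Lib.SuzPres.RankThree

open Cfsg.Lib.CosetCert Cfsg.Lib.PermCert
open scoped Pointwise

/-- A generator of the 2-subgroup. -/
def vGen (i : ℕ) : S6 := wval imS (vW.getD i [])

/-- The series of the 2-subgroup. -/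
def vSub (k : ℕ) : Subgroup S6 := Subgroup.closure (vGen '' Set.Iio k)

theorem vW_six (i : ℕ) : sixWord (vW.getD i []) = true := by
  by_cases hi : i < vW.length
  · rw [List.getD_eq_getElem _ _ hi]
    exact List.all_eq_true.1 v_words.1 _ (List.getElem_mem hi)
  · rw [List.getD_eq_default _ _ (not_lt.1 hi)]
    rfl

theorem vProd_mem (k m : ℕ) : wval imS (vProd k m) ∈ vSub k := by
  have key : ∀ l : List ℕ, (∀ i ∈ l, i < k) → wval imS (expand vW l) ∈ vSub k := by
    intro l
    induction l with
    | nil => intro _; simp [expand, wval]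
    | cons a l ih =>
      intro h
      rw [show expand vW (a :: l) = vW.getD a [] ++ expand vW l from rfl, wvalS_append]
      exact mul_mem (Subgroup.subset_closure ⟨a, h a List.mem_cons_self, rfl⟩)
        (ih fun i hi => h i (List.mem_cons_of_mem a hi))
  exact key _ fun i hi => List.mem_range.1 (List.mem_of_mem_filter hi)

theorem vSub_pGroup : ∀ k, k ≤ 12 → IsPGroup 2 (vSub k)
  | 0, _ => by
    rw [vSub, show (Set.Iio 0 : Set ℕ) = ∅ from Set.eq_empty_of_forall_notMem fun x hx => Nat.not_lt_zero x hx,
      Set.image_empty, Subgroup.closure_empty]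
    exact IsPGroup.of_bot
  | k + 1, hk => by
    haveI := finite_S6
    have ih := vSub_pGroup k (by omega)
    have hst := List.all_eq_true.1 v_steps k (List.mem_range.2 (by omega))
    simp only [vStep, Bool.and_eq_true, beq_iff_eq, List.all_eq_true, List.mem_range] at hst
    have hvp : ∀ m, sixWord (vProd k m) = true := fun m => six_flat v_words.1 _
    have hsq : vGen k ^ 2 ∈ vSub k := by
      rw [sq, vGen, ← wvalS_append, imgsS_sound (six_append (vW_six k) (vW_six k)) (hvp _) hst.1]
      exact vProd_mem _ _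
    have hconj : ∀ j < k, (vGen k)⁻¹ * vGen j * vGen k ∈ vSub k := fun j hj => by
      rw [vGen, vGen, ← wvalS_conj (vW_six k), imgsS_sound
        (show sixWord (conjW (vW.getD j []) (vW.getD k [])) = true from
          six_append (six_append (six_reverse (vW_six k)) (vW_six j)) (vW_six k)) (hvp _) (hst.2 j hj)]
      exact vProd_mem _ _
    have hle : (vSub k).map (MulAut.conj (vGen k)⁻¹).toMonoidHom ≤ vSub k := by
      rw [vSub, MonoidHom.map_closure]
      refine (Subgroup.closure_le _).2 ?_
      rintro _ ⟨_, ⟨j, hj, rfl⟩, rfl⟩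
      simpa [vSub] using hconj j hj
    have heq : (vSub k).map (MulAut.conj (vGen k)⁻¹).toMonoidHom = vSub k :=
      Subgroup.eq_of_le_of_card_ge hle
        (le_of_eq (Subgroup.card_map_of_injective (MulAut.conj (vGen k)⁻¹).injective).symm)
    have hmem : vGen k ∈ Subgroup.normalizer (vSub k : Set S6) := by
      rw [Subgroup.mem_normalizer_iff]
      intro q
      constructor
      · intro hq
        obtain ⟨p, hp, e⟩ := heq.ge hq
        rw [← e]
        simpa [mul_assoc] using hp
      · intro hq
        exact heq.le ⟨_, hq, by simp [mul_assoc]⟩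
    have hz : IsPGroup 2 (Subgroup.zpowers (vGen k)) := by
      obtain ⟨n, hn⟩ := ih ⟨_, hsq⟩
      have hone : vGen k ^ (2 ^ (n + 1)) = 1 := by
        rw [pow_succ', pow_mul]
        exact congrArg Subtype.val hn
      intro x
      obtain ⟨m, hm⟩ := Subgroup.mem_zpowers_iff.1 x.2
      refine ⟨n + 1, Subtype.ext ?_⟩
      rw [SubmonoidClass.coe_pow, ← hm, ← zpow_natCast, ← zpow_mul, mul_comm, zpow_mul, zpow_natCast, hone, one_zpow]
      rfl
    have hsup : vSub (k + 1) = Subgroup.zpowers (vGen k) ⊔ vSub k := by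
      rw [vSub, vSub, Subgroup.zpowers_eq_closure, ← Subgroup.closure_union]
      congr 1
      ext x
      simp only [Set.mem_image, Set.mem_Iio, Set.mem_union, Set.mem_singleton_iff]
      constructor
      · rintro ⟨i, hi, rfl⟩
        rcases Nat.lt_succ_iff_lt_or_eq.1 hi with hi | rfl
        · exact Or.inr ⟨i, hi, rfl⟩
        · exact Or.inl rfl
      · rintro (rfl | ⟨i, hi, rfl⟩)
        · exact ⟨k, k.lt_succ_self, rfl⟩
        · exact ⟨i, hi.trans k.lt_succ_self, rfl⟩
    rw [hsup]
    exact hz.to_sup_of_normal_right' ih (Subgroup.zpowers_le.2 hmem)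

/-- The 2-subgroup. -/
def V2 : Subgroup S6 := vSub 12

theorem vW_mem {w : List ℕ} (hw : w ∈ vW) : wval imS w ∈ V2 := by
  obtain ⟨i, hi, rfl⟩ := List.getElem_of_mem hw
  have h12 : i < 12 := v_words.2 ▸ hi
  exact Subgroup.subset_closure ⟨i, h12, by rw [vGen, List.getD_eq_getElem _ _ hi]⟩

/-- The orbit of the base point of the 416. -/
theorem q0_mem : JTwo.q0 ∈ maskSet mask1 := JTwo.top_ok.1

theorem selMask_testBit (sel : List ℕ) (j : ℕ) :
    (selMask sel).testBit j = true ↔ ∃ i ∈ sel, (JTwo.treeMask (vOrbits.getD i (0, []))).testBit j = true := by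
  have key : ∀ (l : List ℕ) (s : ℕ),
      (l.foldl (fun s i => s ||| JTwo.treeMask (vOrbits.getD i (0, []))) s).testBit j = true ↔
        s.testBit j = true ∨ ∃ i ∈ l, (JTwo.treeMask (vOrbits.getD i (0, []))).testBit j = true := by
    intro l
    induction l with
    | nil => simp
    | cons a l ih =>
      intro s
      rw [List.foldl_cons, ih, Nat.testBit_or, Bool.or_eq_true]
      simp [or_assoc]
  rw [selMask, key]
  simp

theorem invariant_union {S : Set (Fin 1782)} (hS : S ⊆ maskSet mask1) (hcard : S.ncard = 96)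
    (hinv : ∀ h ∈ V2, ∀ x ∈ S, h • x ∈ S) :
    S = maskSet bad0Mask ∨ S = maskSet bad1Mask ∨ S = maskSet bad2Mask ∨ S = maskSet goodMask := by
  classical
  obtain ⟨htr, hcov, hdisj, hcnt⟩ := v_trees
  set sel := (List.range 5).filter fun i => decide (∃ x ∈ S, (JTwo.treeMask (vOrbits.getD i (0, []))).testBit x.val = true)
    with hsel
  have horb : ∀ i < 5, ∀ x y : Fin 1782, (JTwo.treeMask (vOrbits.getD i (0, []))).testBit x.val = true →
      (JTwo.treeMask (vOrbits.getD i (0, []))).testBit y.val = true → x ∈ S → y ∈ S := by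
    intro i hi x y hx hy hxS
    have hi' : i < vOrbits.length := hi
    rw [List.getD_eq_getElem _ _ hi'] at hx hy
    have h := List.all_eq_true.1 htr _ (List.getElem_mem hi')
    rw [Bool.and_eq_true] at h
    have hb : (vOrbits[i]).1 < 1782 := Nat.le_of_ble_eq_true h.1
    obtain ⟨a, ha, ea⟩ := tree_orbit (fun w hw => List.all_eq_true.1 v_words.1 w hw) (fun w hw => vW_mem hw) hb h.2 x hx
    obtain ⟨b, hb', eb⟩ := tree_orbit (fun w hw => List.all_eq_true.1 v_words.1 w hw) (fun w hw => vW_mem hw) hb h.2 y hy
    have := hinv (b * a⁻¹) (mul_mem hb' (inv_mem ha)) x hxS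
    rwa [mul_smul, ← ea, inv_smul_smul, eb] at this
  have hSeq : S = maskSet (selMask sel) := by
    ext x
    rw [mem_maskSet, selMask_testBit]
    constructor
    · intro hx
      have h1 : mask1.testBit x.val = true := hS hx
      have h2 := List.all_eq_true.1 hcov x.val (List.mem_range.2 x.isLt)
      rw [h1, beq_iff_eq, eq_comm, List.any_eq_true] at h2
      obtain ⟨i, hi, hix⟩ := h2
      exact ⟨i, List.mem_filter.2 ⟨hi, decide_eq_true ⟨x, hx, hix⟩⟩, hix⟩
    · rintro ⟨i, hi, hix⟩
      obtain ⟨hi5, hex⟩ := List.mem_filter.1 hi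
      obtain ⟨y, hy, hiy⟩ := of_decide_eq_true hex
      exact horb i (List.mem_range.1 hi5) y x hiy hix hy
  have hsum : ∀ l : List ℕ, l.Sublist (List.range 5) → (maskSet (selMask l)).ncard = selSize l := by
    intro l hl
    induction l with
    | nil => simp [selMask, selSize, maskSet]
    | cons a l ih =>
      have hl' : l.Sublist (List.range 5) := (List.sublist_cons_self a l).trans hl
      have ha5 : a < 5 := List.mem_range.1 (hl.subset List.mem_cons_self)
      have hnd : (a :: l).Nodup := hl.nodup List.nodup_range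
      have e : maskSet (selMask (a :: l)) =
          maskSet (JTwo.treeMask (vOrbits.getD a (0, []))) ∪ maskSet (selMask l) := by
        ext x
        simp only [mem_maskSet, Set.mem_union, selMask_testBit, List.exists_mem_cons_iff]
      have hd : Disjoint (maskSet (JTwo.treeMask (vOrbits.getD a (0, [])))) (maskSet (selMask l)) := by
        rw [Set.disjoint_left]
        intro x hxa hxl
        rw [mem_maskSet] at hxa hxl
        obtain ⟨i, hi, hix⟩ := (selMask_testBit _ _).1 hxl
        have hne : a ≠ i := fun e => (List.nodup_cons.1 hnd).1 (e ▸ hi)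
        have hi5 : i < 5 := List.mem_range.1 (hl'.subset hi)
        have key : ∀ p q, p < 5 → q < p → (JTwo.treeMask (vOrbits.getD p (0, []))).testBit x.val = true →
            (JTwo.treeMask (vOrbits.getD q (0, []))).testBit x.val = true → False := by
          intro p q hp hq hpx hqx
          have h := List.all_eq_true.1 (List.all_eq_true.1 hdisj p (List.mem_range.2 hp)) x.val (List.mem_range.2 x.isLt)
          simp only [hpx, Bool.not_true, Bool.false_or, List.all_eq_true, List.mem_range, Bool.not_eq_true'] at h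
          rw [h q hq] at hqx
          exact Bool.noConfusion hqx
        rcases lt_or_gt_of_ne hne with h | h
        · exact key i a hi5 h hix hxa
        · exact key a i ha5 h hxa hix
      rw [e, Set.ncard_union_eq hd, ih hl', JTwo.ncard_maskSet]
      have := List.all_eq_true.1 hcnt a (List.mem_range.2 ha5)
      rw [beq_iff_eq] at this
      rw [this]
      simp [selSize]
  have hsub : sel.Sublist (List.range 5) := List.filter_sublist
  have h96 : selSize sel = 96 := by rw [← hsum sel hsub, ← hSeq, hcard]
  have hc := List.all_eq_true.1 cand_list sel (List.mem_sublists.2 hsub)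
  simp only [h96, bne_self_eq_false, Bool.false_or, Bool.or_eq_true, beq_iff_eq] at hc
  obtain ⟨m0, m1, m2, mg, -⟩ := cand_masks
  rcases hc with ((h | h) | h) | h <;> rw [hSeq, h]
  · exact Or.inl (congrArg maskSet m0)
  · exact Or.inr (Or.inl (congrArg maskSet m1))
  · exact Or.inr (Or.inr (Or.inl (congrArg maskSet m2)))
  · exact Or.inr (Or.inr (Or.inr (congrArg maskSet mg)))

theorem count_images {C : ℕ} {pts : List ℕ} {us : List (List ℕ)} {n : ℕ} (h : imagesOK C pts us n = true)
    (hC : maskSet C ⊆ maskSet mask1) (hcard : (maskSet C).ncard = 96) :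
    416 * n ≤ 96 * (MulAction.orbit S6 (maskSet C)).ncard := by
  classical
  haveI := finite_S6
  simp only [imagesOK, Bool.and_eq_true, beq_iff_eq, List.all_eq_true] at h
  obtain ⟨⟨⟨hlen, hpts⟩, hus⟩, hinc⟩ := h
  set O := (MulAction.orbit S6 (maskSet C)).toFinite.toFinset with hO
  set M := Finset.univ.filter fun x : Fin 1782 => x ∈ maskSet mask1 with hM
  let cnt' : Fin 1782 → ℕ := fun x => (O.filter fun D => x ∈ D).card
  have hOmem : ∀ D, D ∈ O ↔ D ∈ MulAction.orbit S6 (maskSet C) := fun D => Set.Finite.mem_toFinset _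
  have hDsub : ∀ D ∈ O, D ⊆ maskSet mask1 ∧ D.ncard = 96 := by
    intro D hD
    obtain ⟨g, rfl⟩ := (hOmem D).1 hD
    refine ⟨fun x hx => ?_, ?_⟩
    · obtain ⟨y, hy, rfl⟩ := hx
      exact (mask1_inv g y).1 (hC hy)
    · show (g • maskSet C).ncard = 96
      rw [Set.ncard_smul_set, hcard]
  have hMcard : M.card = 416 := by
    rw [← Set.ncard_coe_finset, hM, ← orbit1.2.1]
    congr 1
    ext x
    simp
  have hsum : ∑ x ∈ M, cnt' x = 96 * O.card := by
    simp only [cnt', Finset.card_filter]
    rw [Finset.sum_comm, mul_comm]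
    refine Finset.sum_const_nat fun D hD => ?_
    rw [← Finset.card_filter, ← (hDsub D hD).2, ← Set.ncard_coe_finset]
    congr 1
    ext x
    simp only [Finset.coe_filter, Set.mem_ofPred_eq, hM, Finset.mem_filter, Finset.mem_univ, true_and]
    exact ⟨fun hx => hx.2, fun hx => ⟨(hDsub D hD).1 hx, hx⟩⟩
  have hconst : ∀ x ∈ M, cnt' x = cnt' JTwo.q0 := by
    intro x hx
    simp only [hM, Finset.mem_filter, Finset.mem_univ, true_and] at hx
    obtain ⟨g, hg⟩ : x ∈ MulAction.orbit S6 JTwo.q0 := by
      rw [show MulAction.orbit S6 JTwo.q0 = maskSet mask1 from orbit1.1 _ q0_mem]; exact hx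
    refine Finset.card_bij' (fun D _ => g⁻¹ • D) (fun D _ => g • D) ?_ ?_ ?_ ?_
    · intro D hD
      rw [Finset.mem_filter, hOmem] at hD ⊢
      exact ⟨MulAction.mem_orbit_of_mem_orbit _ hD.1, Set.mem_inv_smul_set_iff.2 ((show g • JTwo.q0 = x from hg).symm ▸ hD.2)⟩
    · intro D hD
      rw [Finset.mem_filter, hOmem] at hD ⊢
      refine ⟨MulAction.mem_orbit_of_mem_orbit _ hD.1, ?_⟩
      rw [← show g • JTwo.q0 = x from hg]
      exact Set.smul_mem_smul_set hD.2
    · intro D _; exact smul_inv_smul g D
    · intro D _; exact inv_smul_smul g D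
  rw [Finset.sum_congr rfl hconst, Finset.sum_const, hMcard, smul_eq_mul] at hsum
  have hn : n ≤ cnt' JTwo.q0 := by
    let f : Fin n → Set (Fin 1782) := fun i => wval imS (us.getD i.val []) • maskSet C
    have hlt : ∀ i : Fin n, us.getD i.val [] ∈ us := fun i => by
      rw [List.getD_eq_getElem _ _ (hlen.symm ▸ i.isLt)]
      exact List.getElem_mem _
    have hmemf : ∀ (i : Fin n) (z : Fin 1782), z ∈ f i ↔ C.testBit (evalW tabs (us.getD i.val []) z.val) = true := by
      intro i z
      rw [Set.mem_smul_set_iff_inv_smul_mem, mem_maskSet, evalS (hus _ (hlt i)).1]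
    have hf : Function.Injective f := by
      intro i j e
      have e' : fprint C pts (us.getD i.val []) = fprint C pts (us.getD j.val []) := by
        simp only [fprint]
        have key : ∀ (l : List ℕ), (∀ z ∈ l, z < 1782) → ∀ v,
            l.foldl (fun v z => 2 * v + (C.testBit (evalW tabs (us.getD i.val []) z)).toNat) v =
            l.foldl (fun v z => 2 * v + (C.testBit (evalW tabs (us.getD j.val []) z)).toNat) v := by
          intro l
          induction l with
          | nil => intro _ v; rfl
          | cons z l ih =>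
            intro hz v
            simp only [List.foldl_cons]
            have : C.testBit (evalW tabs (us.getD i.val []) z) = C.testBit (evalW tabs (us.getD j.val []) z) := by
              rw [Bool.eq_iff_iff, ← hmemf i ⟨z, hz z List.mem_cons_self⟩, e, hmemf j]
            rw [this]
            exact ih (fun a ha => hz a (List.mem_cons_of_mem z ha)) _
        exact key pts (fun z hz => Nat.le_of_ble_eq_true (hpts z hz)) 0
      rcases lt_trichotomy i.val j.val with h | h | h
      · exact absurd e' (incr_lt _ [] us _ _ hinc h (hlen.symm ▸ j.isLt)).ne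
      · exact Fin.ext h
      · exact absurd e'.symm (incr_lt _ [] us _ _ hinc h (hlen.symm ▸ i.isLt)).ne
    calc n = (Finset.univ.image f).card := by rw [Finset.card_image_of_injective _ hf, Finset.card_univ, Fintype.card_fin]
      _ ≤ _ := Finset.card_le_card fun D hD => by
        obtain ⟨i, -, rfl⟩ := Finset.mem_image.1 hD
        rw [Finset.mem_filter, hOmem, hmemf]
        exact ⟨⟨_, rfl⟩, (hus _ (hlt i)).2⟩
  rw [Set.ncard_eq_toFinset_card _ (Set.toFinite _), ← hO, ← hsum]
  exact Nat.mul_le_mul_left 416 hn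

/-- The invariant set of a point stabiliser. -/
def S0 : Set (Fin 1782) := maskSet goodMask

/-- Its stabiliser. -/
def K0 : Subgroup S6 := MulAction.stabilizer S6 S0

theorem S0_sub : S0 ⊆ maskSet mask1 := fun x hx => by
  obtain ⟨-, -, -, mg, -⟩ := cand_masks
  rw [S0, mem_maskSet, ← mg, selMask_testBit] at hx
  obtain ⟨i, hi, hix⟩ := hx
  have h5 : goodSel.all (fun i => Nat.blt i 5) = true := rfl
  have h2 := List.all_eq_true.1 v_trees.2.1 x.val (List.mem_range.2 x.isLt)
  rw [beq_iff_eq] at h2
  rw [mem_maskSet, h2, List.any_eq_true]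
  exact ⟨i, List.mem_range.2 (Nat.le_of_ble_eq_true (List.all_eq_true.1 h5 i hi)), hix⟩

theorem S0_card : S0.ncard = 96 := (JTwo.ncard_maskSet goodMask).trans cand_masks.2.2.2.2

/-- The classification of invariant sets of subgroups of index 1365. -/
theorem pair_class {H : Subgroup S6} (hH : H.index = 1365) {S : Set (Fin 1782)} (hS : S ⊆ maskSet mask1)
    (hcard : S.ncard = 96) (hinv : ∀ h ∈ H, h • S = S) :
    ∃ g : S6, S = g • S0 ∧ H = MulAction.stabilizer S6 (g • S0) ∧ K0.index = 1365 := by
  classical
  haveI := finite_S6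
  haveI : Fact (Nat.Prime 2) := ⟨Nat.prime_two⟩
  obtain ⟨Q, hQ⟩ := (vSub_pGroup 12 le_rfl).exists_le_sylow
  obtain ⟨R⟩ : Nonempty (Sylow 2 H) := inferInstance
  have hR : IsPGroup 2 ((R : Subgroup H).map H.subtype) := R.2.map _
  obtain ⟨R', hR'⟩ := hR.exists_le_sylow
  have hRc : Nat.card (R : Subgroup H) = Nat.card R' := by
    rw [R.card_eq_multiplicity, R'.card_eq_multiplicity]
    have hmul := Subgroup.card_mul_index H
    rw [hH, card_S6] at hmul
    have hcH : Nat.card H = 184320 := by omega
    rw [hcH, card_S6, show (184320 : ℕ) = 2 ^ 12 * 45 by norm_num,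
      show (251596800 : ℕ) = 2 ^ 12 * 61425 by norm_num,
      Nat.factorization_mul (by norm_num) (by norm_num), Nat.factorization_mul (by norm_num) (by norm_num)]
    simp only [Finsupp.add_apply, Nat.factorization_eq_zero_of_not_dvd (show ¬ (2 ∣ 45) by norm_num),
      Nat.factorization_eq_zero_of_not_dvd (show ¬ (2 ∣ 61425) by norm_num)]
  have hR'H : (R' : Subgroup S6) ≤ H := by
    have e : (R : Subgroup H).map H.subtype = (R' : Subgroup S6) :=
      Subgroup.eq_of_le_of_card_ge hR' (by rw [Subgroup.card_map_of_injective H.subtype_injective, hRc])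
    rw [← e]
    exact Subgroup.map_subtype_le _
  obtain ⟨c, hc⟩ := MulAction.exists_smul_eq S6 Q R'
  have hV : ∀ v ∈ V2, c * v * c⁻¹ ∈ H := fun v hv => hR'H (by
    rw [← hc, Sylow.coe_subgroup_smul, Subgroup.mem_pointwise_smul_iff_inv_smul_mem]
    simp only [map_inv, MulAut.smul_def, MulAut.inv_def, MulAut.conj_symm_apply]
    simpa [mul_assoc] using hQ hv)
  set S' := c⁻¹ • S with hS'
  have hS'1 : S' ⊆ maskSet mask1 := by
    rintro _ ⟨y, hy, rfl⟩
    exact (mask1_inv _ y).1 (hS hy)
  have hS'c : S'.ncard = 96 := by rw [hS', Set.ncard_smul_set, hcard]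
  have hS'inv : ∀ v ∈ V2, v • S' = S' := fun v hv => by
    rw [hS', smul_smul, show v * c⁻¹ = c⁻¹ * (c * v * c⁻¹) by group, ← smul_smul, hinv _ (hV v hv)]
  have hdvd : (MulAction.stabilizer S6 S).index ∣ 1365 :=
    hH ▸ Subgroup.index_dvd_of_le (fun h hh => MulAction.mem_stabilizer_iff.2 (hinv h hh))
  have horbS : (MulAction.orbit S6 S').ncard = (MulAction.stabilizer S6 S).index := by
    rw [MulAction.index_stabilizer, hS', MulAction.orbit_smul]
  have hle : (MulAction.orbit S6 S').ncard ≤ 1365 := horbS ▸ Nat.le_of_dvd (by norm_num) hdvd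
  rcases invariant_union hS'1 hS'c (fun v hv x hx => by rw [← hS'inv v hv]; exact Set.smul_mem_smul_set hx) with
    e | e | e | e
  · have := count_images bad0_ok (e ▸ hS'1) (e ▸ hS'c)
    rw [← e] at this
    omega
  · have := count_images bad1_ok (e ▸ hS'1) (e ▸ hS'c)
    rw [← e] at this
    omega
  · have := count_images bad2_ok (e ▸ hS'1) (e ▸ hS'c)
    rw [← e] at this
    omega
  · have hcnt := count_images good_images S0_sub S0_card
    have hS0 : S' = S0 := e
    have hSe : S = c • S0 := by rw [← hS0, hS', smul_inv_smul]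
    have horb0 : (MulAction.orbit S6 S0).ncard = K0.index := (MulAction.index_stabilizer S6 S0).symm
    rw [hS0, horb0] at horbS
    change 416 * 158 ≤ 96 * (MulAction.orbit S6 S0).ncard at hcnt
    rw [horb0] at hcnt
    rw [← horbS] at hdvd
    have hK : K0.index = 1365 := by
      obtain ⟨m, hm⟩ := hdvd
      rcases Nat.lt_or_ge m 2 with h2 | h2
      · interval_cases m <;> omega
      · have : K0.index * 2 ≤ K0.index * m := Nat.mul_le_mul_left _ h2
        omega
    refine ⟨c, hSe, ?_, hK⟩
    rw [← hSe]
    have hle' : H ≤ MulAction.stabilizer S6 S := fun h hh => MulAction.mem_stabilizer_iff.2 (hinv h hh)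
    have hmul := Subgroup.relIndex_mul_index hle'
    rw [hH, ← horbS, hK] at hmul
    exact le_antisymm hle' (Subgroup.relIndex_eq_one.1 (by omega))

end Cfsg.Lib.SuzPres.RankThree
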