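import Cfsg.Agent.SuzPres.RankThree.Point
import Cfsg.Agent.SuzPres.RankThree.VSub
import Cfsg.Agent.SuzPres.RankThree.GCheck
import Cfsg.Agent.SuzPres.RankThree.Graph

/-!
The points around a point of a rank 3 group of degree 1782 with stabiliser the group on six letters are labelled by
the model, and the graph is determined by the labels.
-/

set_option autoImplicit false
set_option maxRecDepth 8000

namespace Cfsg.Lib.SuzPres.RankThree

open Cfsg.Lib.CosetCert Cfsg.Lib.PermCert MulAction
open scoped Pointwise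

universe u v

/-- The point with number one. -/
def pOne : Fin 1782 := ⟨1, by norm_num⟩

theorem pOne_mem : pOne ∈ maskSet mask2 := by
  have h := List.all_eq_true.1 classes_ok.2.2.1 1 (List.mem_range.2 (by norm_num))
  rw [beq_iff_eq] at h
  rw [mem_maskSet, show pOne.val = 1 from rfl, h, List.any_eq_true]
  exact ⟨0, List.mem_range.2 (by norm_num), by rw [classes_ok.2.2.2.2]; decide⟩

/-- Transfer of an orbit along an isomorphism of groups with matching point stabilisers. -/
theorem orbit_map {A : Type u} [Group A] {X : Type v} [MulAction A X] (φ : A ≃* S6) (b : X) (q : Fin 1782)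
    (hq : (stabilizer A b).map φ.toMonoidHom = stabilizer S6 q) :
    ∃ f : Fin 1782 → X, (∀ (k : A) x, x ∈ orbit S6 q → k • f x = f (φ k • x)) ∧ f q = b ∧
      (∀ x ∈ orbit S6 q, ∀ y ∈ orbit S6 q, f x = f y → x = y) ∧ f '' orbit S6 q = orbit A b := by
  classical
  have hiff : ∀ k : A, k • b = b ↔ φ k • q = q := fun k => by
    rw [← mem_stabilizer_iff, ← mem_stabilizer_iff, ← hq]
    exact ⟨fun h => ⟨k, h, rfl⟩, fun ⟨k', h, e⟩ => φ.injective e ▸ h⟩
  have key : ∀ k k' : A, φ k • q = φ k' • q ↔ k • b = k' • b := fun k k' => by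
    rw [← inv_smul_eq_iff, smul_smul, ← map_inv, ← map_mul, ← hiff, mul_smul, inv_smul_eq_iff]
  let f : Fin 1782 → X := fun x => if h : x ∈ orbit S6 q then φ.symm h.choose • b else b
  have hf : ∀ k : A, f (φ k • q) = k • b := fun k => by
    have h : φ k • q ∈ orbit S6 q := mem_orbit _ _
    simp only [f, dif_pos h]
    refine ((key _ _).1 ?_)
    rw [φ.apply_symm_apply]
    exact h.choose_spec
  have hex : ∀ x ∈ orbit S6 q, ∃ k : A, φ k • q = x := fun x ⟨g, hg⟩ => ⟨φ.symm g, by rw [φ.apply_symm_apply]; exact hg⟩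
  refine ⟨f, fun k x hx => ?_, ?_, fun x hx y hy e => ?_, ?_⟩
  · obtain ⟨k', rfl⟩ := hex x hx
    rw [hf, smul_smul, smul_smul, ← map_mul, hf]
  · simpa using hf 1
  · obtain ⟨k, rfl⟩ := hex x hx
    obtain ⟨k', rfl⟩ := hex y hy
    rw [hf, hf] at e
    exact (key k k').2 e
  · ext y
    constructor
    · rintro ⟨x, hx, rfl⟩
      obtain ⟨k, rfl⟩ := hex x hx
      exact ⟨k, (hf k).symm⟩
    · rintro ⟨k, rfl⟩
      exact ⟨φ k • q, mem_orbit _ _, hf k⟩

variable {Ω : Type u} [Fintype Ω] [DecidableEq Ω] {G : Subgroup (Equiv.Perm Ω)} {a b c : Ω}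

/-- A map of the suborbit of 416 points which commutes with the groups and finds the common neighbours. -/
structure Near (G : Subgroup (Equiv.Perm Ω)) (a b : Ω) (φ : stabilizer G a ≃* S6) (f : Fin 1782 → Ω) : Prop where
  inj : ∀ x ∈ maskSet mask1, ∀ y ∈ maskSet mask1, f x = f y → x = y
  equiv : ∀ (k : stabilizer G a), ∀ x ∈ maskSet mask1, k • f x = f (φ k • x)
  range : f '' maskSet mask1 = orbit (stabilizer G a) b

theorem exists_near (h : Setup G a b c) (φ : stabilizer G a ≃* S6) : ∃ f, Near G a b φ f := by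
  have hH : ((stabilizer (stabilizer G a) b).map φ.toMonoidHom).index = 416 := by
    rw [show φ.toMonoidHom = (φ : stabilizer G a →* S6) from rfl, Subgroup.index_map_equiv, index_stabilizer, h.hb]
  obtain ⟨g, hg⟩ := index_point hH
  obtain ⟨f, h1, -, h3, h4⟩ := orbit_map φ b (g • JTwo.q0) hg
  have ho : orbit S6 (g • JTwo.q0) = maskSet mask1 :=
    orbit1.1 _ ((mask1_inv g _).1 q0_mem)
  rw [ho] at h1 h3 h4
  exact ⟨f, h3, h1, h4⟩

theorem Near.adjA {φ : stabilizer G a ≃* S6} {f : Fin 1782 → Ω} (hf : Near G a b φ f) (h : Setup G a b c)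
    {x : Fin 1782} (hx : x ∈ maskSet mask1) : (orbGraph G a b).Adj a (f x) :=
  h.adj_base.2 (hf.range.subset ⟨x, hx, rfl⟩)

theorem Near.adj_smul {φ : stabilizer G a ≃* S6} {f : Fin 1782 → Ω} (hf : Near G a b φ f) (h : Setup G a b c)
    (g : S6) {x y : Fin 1782} (hx : x ∈ maskSet mask1) (hy : y ∈ maskSet mask1) :
    (orbGraph G a b).Adj (f (g • x)) (f (g • y)) ↔ (orbGraph G a b).Adj (f x) (f y) := by
  have h1 := h.smul_adj (φ.symm g).1 (x := f x) (y := f y)
  rw [show (φ.symm g).1 • f x = φ.symm g • f x from rfl, show (φ.symm g).1 • f y = φ.symm g • f y from rfl,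
    hf.equiv _ _ hx, hf.equiv _ _ hy, φ.apply_symm_apply] at h1
  exact h1

theorem common_nbrs {φ : stabilizer G a ≃* S6} {f : Fin 1782 → Ω} (hf : Near G a b φ f) (h : Setup G a b c) (v : Ω) :
    f '' {x | x ∈ maskSet mask1 ∧ (orbGraph G a b).Adj v (f x)} =
      {z | (orbGraph G a b).Adj a z ∧ (orbGraph G a b).Adj v z} := by
  ext z
  constructor
  · rintro ⟨x, ⟨hx, hv⟩, rfl⟩
    exact ⟨hf.adjA h hx, hv⟩
  · rintro ⟨ha, hv⟩
    obtain ⟨x, hx, rfl⟩ := hf.range.ge (h.adj_base.1 ha)
    exact ⟨x, ⟨hx, hv⟩, rfl⟩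

theorem ncard_common {φ : stabilizer G a ≃* S6} {f : Fin 1782 → Ω} (hf : Near G a b φ f) (h : Setup G a b c) (v : Ω) :
    {x | x ∈ maskSet mask1 ∧ (orbGraph G a b).Adj v (f x)}.ncard =
      {z | (orbGraph G a b).Adj a z ∧ (orbGraph G a b).Adj v z}.ncard := by
  rw [← common_nbrs hf h v, Set.InjOn.ncard_image fun x hx y hy e => hf.inj x hx.1 y hy.1 e]

theorem five_transitive {o : ℕ × List (ℕ × ℕ × ℕ)} {gens : List (List ℕ)} {ps : List (ℕ × List (ℕ × ℕ × ℕ))} {N : ℕ}
    (ho : JTwo.orbitOK o gens ps N = true) {x y : Fin 1782} (hx : (JTwo.treeMask o).testBit x.val = true)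
    (hy : (JTwo.treeMask o).testBit y.val = true) : ∃ k ∈ stabilizer S6 JTwo.q0, k • x = y := by
  simp only [JTwo.orbitOK, Bool.and_eq_true, decide_eq_true_eq] at ho
  obtain ⟨⟨⟨⟨⟨⟨hb, hscan⟩, -⟩, -⟩, -⟩, -⟩, -⟩ := ho
  have hsix : ∀ w ∈ JTwo.fiveLetters, sixWord w = true := by decide
  have hH : ∀ w ∈ JTwo.fiveLetters, wval imS w ∈ stabilizer S6 JTwo.q0 := fun w hw => by
    rw [mem_stabilizer_iff]
    refine (inv_smul_eq_iff.1 (Fin.ext ?_)).symm
    rw [evalS (hsix w hw)]
    have h0 : JTwo.fiveLetters.all (fun w => evalW tabs w 995 == 995) = true := by decide +kernel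
    exact beq_iff_eq.1 (List.all_eq_true.1 h0 w hw)
  obtain ⟨p, hp, ep⟩ := tree_orbit hsix hH hb hscan x hx
  obtain ⟨r, hr, er⟩ := tree_orbit hsix hH hb hscan y hy
  exact ⟨r * p⁻¹, mul_mem hr (inv_mem hp), by rw [mul_smul, ← ep, inv_smul_smul, er]⟩

theorem ncard_common_eq (h : Setup G a b c) {l m : ℕ} [DecidableRel (orbGraph G a b).Adj]
    (hS : (orbGraph G a b).IsSRGWith 1782 416 l m) (v : Ω) :
    {z | (orbGraph G a b).Adj a z ∧ (orbGraph G a b).Adj v z}.ncard =
      if a = v then 416 else if (orbGraph G a b).Adj a v then l else m := by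
  rw [← card_common_eq (orbGraph G a b) hS a v, ← Set.ncard_coe_finset]
  congr 1
  ext z
  simp

/-- The numbers of common neighbours, and the neighbours of the base point among the 416. -/
theorem params (h : Setup G a b c) (φ : stabilizer G a ≃* S6) :
    (∀ v, v ≠ a → ¬ (orbGraph G a b).Adj a v → {z | (orbGraph G a b).Adj a z ∧ (orbGraph G a b).Adj v z}.ncard = 96) ∧
      ∀ f, Near G a b φ f → ∀ y ∈ maskSet mask1,
        (orbGraph G a b).Adj (f JTwo.q0) (f y) ↔ mask100.testBit y.val = true := by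
  classical
  obtain ⟨l, m, hS, heq, hl415, hl⟩ := h.srg
  have key : ∀ f, Near G a b φ f → l = 100 ∧
      ∀ y ∈ maskSet mask1, (orbGraph G a b).Adj (f JTwo.q0) (f y) ↔ mask100.testBit y.val = true := by
    intro f hf
    set Γ := orbGraph G a b with hΓ
    set X := {x | x ∈ maskSet mask1 ∧ Γ.Adj (f JTwo.q0) (f x)} with hX
    have hcard : X.ncard = l := by
      rw [hX, ncard_common hf h, ncard_common_eq h hS, if_neg (hf.adjA h q0_mem).ne, if_pos (hf.adjA h q0_mem)]
    have hinv : ∀ k ∈ stabilizer S6 JTwo.q0, ∀ x ∈ X, k • x ∈ X := by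
      rintro k hk x ⟨hx, hxa⟩
      refine ⟨(mask1_inv k x).1 hx, ?_⟩
      have := (hf.adj_smul h k q0_mem hx).2 hxa
      rwa [mem_stabilizer_iff.1 hk] at this
    have hq : JTwo.q0 ∉ X := fun hx => hx.2.ne rfl
    obtain ⟨h100, h315, hcov, hn100, hn315⟩ := hj_ok
    have hsub : ∀ z : Fin 1782, mask100.testBit z.val = true ∨ mask315.testBit z.val = true → z ∈ maskSet mask1 := by
      intro z hz
      have h1 := List.all_eq_true.1 hcov z.val (List.mem_range.2 z.isLt)
      rw [beq_iff_eq] at h1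
      rw [mem_maskSet, h1, Bool.or_eq_true, Bool.or_eq_true]
      exact hz.elim (fun e => Or.inl (Or.inr e)) Or.inr
    have hsplit : ∀ x ∈ X, mask100.testBit x.val = true ∨ mask315.testBit x.val = true := by
      intro x hx
      have h1 := List.all_eq_true.1 hcov x.val (List.mem_range.2 x.isLt)
      rw [beq_iff_eq, show mask1.testBit x.val = true from hx.1, eq_comm, Bool.or_eq_true, Bool.or_eq_true,
        beq_iff_eq] at h1
      rcases h1 with (e | e) | e
      · exact absurd ((Fin.ext e : x = JTwo.q0) ▸ hx) hq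
      · exact Or.inl e
      · exact Or.inr e
    have hone : ∀ {o gens ps N}, JTwo.orbitOK o gens ps N = true →
        (∃ x ∈ X, (JTwo.treeMask o).testBit x.val = true) → maskSet (JTwo.treeMask o) ⊆ X := by
      rintro o gens ps N ho ⟨x, hx, hxo⟩ y hy
      obtain ⟨k, hk, rfl⟩ := five_transitive ho hxo hy
      exact hinv k hk x hx
    have c100 : (maskSet mask100).ncard = 100 := (JTwo.ncard_maskSet _).trans h100
    have c315 : (maskSet mask315).ncard = 315 := (JTwo.ncard_maskSet _).trans h315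
    have hl315 : ¬ (l = 0 ∨ l = 315) := by
      rintro (rfl | rfl) <;> omega
    by_cases e315 : ∃ x ∈ X, mask315.testBit x.val = true
    · exfalso
      have s315 := hone JTwo.orbit1_ok e315
      by_cases e100 : ∃ x ∈ X, mask100.testBit x.val = true
      · have s100 := hone JTwo.orbit0_ok e100
        have hd : Disjoint (maskSet mask100) (maskSet mask315) := by
          refine Set.disjoint_left.2 fun z hz hz' => ?_
          have hne : ((List.range 1782).all fun z => !(mask100.testBit z && mask315.testBit z)) = true := by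
            decide +kernel
          have := List.all_eq_true.1 hne z.val (List.mem_range.2 z.isLt)
          rw [mem_maskSet] at hz hz'
          rw [hz, hz'] at this
          exact Bool.noConfusion this
        have hge := Set.ncard_le_ncard (Set.union_subset s100 s315) (Set.toFinite _)
        rw [show maskSet (JTwo.treeMask JTwo.orbit0) = maskSet mask100 from rfl,
          show maskSet (JTwo.treeMask JTwo.orbit1) = maskSet mask315 from rfl, Set.ncard_union_eq hd, c100, c315,
          hcard] at hge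
        omega
      · push Not at e100
        have hXe : X = maskSet mask315 :=
          Set.Subset.antisymm (fun x hx => (hsplit x hx).resolve_left (e100 x hx)) s315
        rw [hXe, c315] at hcard
        exact hl315 (Or.inr hcard.symm)
    push Not at e315
    by_cases e100 : ∃ x ∈ X, mask100.testBit x.val = true
    · have hXe : X = maskSet mask100 := Set.Subset.antisymm (fun x hx => (hsplit x hx).resolve_right (e315 x hx))
        (hone JTwo.orbit0_ok e100)
      refine ⟨by rw [← hcard, hXe, c100], fun y hy => ?_⟩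
      have h1 : y ∈ X ↔ y ∈ maskSet mask100 := by rw [hXe]
      exact ⟨fun e => h1.1 ⟨hy, e⟩, fun e => (h1.2 e).2⟩
    · exfalso
      push Not at e100
      have hXe : X = ∅ := Set.eq_empty_of_forall_notMem fun x hx =>
        (hsplit x hx).elim (e100 x hx) (e315 x hx)
      rw [hXe, Set.ncard_empty] at hcard
      exact hl315 (Or.inl hcard.symm)
  refine ⟨fun v hva hv => ?_, fun f hf => (key f hf).2⟩
  obtain ⟨f, hf⟩ := exists_near h φ
  obtain ⟨hl100, -⟩ := key f hf
  rw [ncard_common_eq h hS, if_neg hva.symm, if_neg hv]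
  subst hl100
  omega

theorem far_facts (h : Setup G a b c) {v : Ω} (hv : v ∈ orbit (stabilizer G a) c) :
    v ≠ a ∧ ¬ (orbGraph G a b).Adj a v := by
  have hc := h.hc
  refine ⟨fun e => ?_, fun hadj => ?_⟩
  · rw [← orbit_eq_iff.2 hv, e, h.orbit_self, Set.ncard_singleton] at hc
    omega
  · rw [← orbit_eq_iff.2 hv, orbit_eq_iff.2 (h.adj_base.1 hadj), h.hb] at hc
    omega

/-- The stabiliser of a far point fixes a translate of the model set. -/
theorem far_class (h : Setup G a b c) (φ : stabilizer G a ≃* S6) {f : Fin 1782 → Ω} (hf : Near G a b φ f) :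
    ∃ g : S6, {x | x ∈ maskSet mask1 ∧ (orbGraph G a b).Adj c (f x)} = g • S0 ∧
      (stabilizer (stabilizer G a) c).map φ.toMonoidHom = stabilizer S6 (g • S0) ∧ K0.index = 1365 := by
  set X := {x | x ∈ maskSet mask1 ∧ (orbGraph G a b).Adj c (f x)} with hX
  have hcard : X.ncard = 96 := by
    rw [hX, ncard_common hf h]
    exact (params h φ).1 c (far_facts h (mem_orbit_self c)).1 (far_facts h (mem_orbit_self c)).2
  have hH : ((stabilizer (stabilizer G a) c).map φ.toMonoidHom).index = 1365 := by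
    rw [show φ.toMonoidHom = (φ : stabilizer G a →* S6) from rfl, Subgroup.index_map_equiv, index_stabilizer, h.hc]
  obtain ⟨g, h1, h2, h3⟩ := pair_class hH (S := X) (fun x hx => hx.1) hcard (by
    rintro _ ⟨k, hk, rfl⟩
    have hsub : ∀ k : stabilizer G a, k • c = c → ∀ x ∈ X, φ k • x ∈ X := by
      rintro k hk x ⟨hx, hxa⟩
      refine ⟨(mask1_inv _ x).1 hx, ?_⟩
      rw [← hf.equiv k x hx, ← hk]
      exact (h.smul_adj k.1).2 hxa
    refine Set.Subset.antisymm ?_ fun x hx => ?_
    · rintro _ ⟨x, hx, rfl⟩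
      exact hsub k hk x hx
    · refine ⟨φ k⁻¹ • x, hsub _ (inv_smul_eq_iff.2 (mem_stabilizer_iff.1 hk).symm) x hx, ?_⟩
      show φ.toMonoidHom k • φ k⁻¹ • x = x
      rw [map_inv]
      exact smul_inv_smul _ _)
  exact ⟨g, h1, h2, h3⟩

end Cfsg.Lib.SuzPres.RankThree
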