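import Cfsg.Agent.SuzPres.RankThree.Model

/-!
The labelling of all points and the determination of the graph.
-/

set_option autoImplicit false
set_option maxRecDepth 8000

namespace Cfsg.Lib.SuzPres.RankThree

open Cfsg.Lib.CosetCert Cfsg.Lib.PermCert MulAction
open scoped Pointwise

universe u v

variable {Ω : Type u} [Fintype Ω] [DecidableEq Ω] {G : Subgroup (Equiv.Perm Ω)} {a b c : Ω}

/-- A labelling of all points by the model. -/
structure Labelling (G : Subgroup (Equiv.Perm Ω)) (a b : Ω) (φ : stabilizer G a ≃* S6) (ι : Fin 1782 → Ω) : Prop where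
  bij : Function.Bijective ι
  base : ι p0 = a
  equiv : ∀ (k : stabilizer G a) (x : Fin 1782), k • ι x = ι (φ k • x)
  adj0 : ∀ x, (orbGraph G a b).Adj a (ι x) ↔ x ∈ maskSet mask1
  adj1 : ∀ y ∈ maskSet mask1, (orbGraph G a b).Adj (ι JTwo.q0) (ι y) ↔ mask100.testBit y.val = true
  adj2 : ∀ y ∈ maskSet mask1, (orbGraph G a b).Adj (ι pOne) (ι y) ↔ y ∈ S0
  adj3 : ∀ y ∈ maskSet mask2, (orbGraph G a b).Adj (ι pOne) (ι y) ↔ (sMask 3).testBit y.val = true
  smul : ∀ (g : G) (x y : Ω), (orbGraph G a b).Adj (g • x) (g • y) ↔ (orbGraph G a b).Adj x y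

theorem smul_p0 (g : S6) : g • p0 = p0 := mem_stabilizer_iff.1 (first_six_le g.2)

theorem not_both {x : Fin 1782} (h1 : x ∈ maskSet mask1) (h2 : x ∈ maskSet mask2) : False := by
  have h : ((List.range 1782).all fun z => !(mask1.testBit z && mask2.testBit z)) = true := by decide +kernel
  have := List.all_eq_true.1 h x.val (List.mem_range.2 x.isLt)
  rw [mem_maskSet] at h1 h2
  rw [h1, h2] at this
  exact Bool.noConfusion this

theorem exists_labelling (h : Setup G a b c) (φ : stabilizer G a ≃* S6) : ∃ ι, Labelling G a b φ ι := by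
  classical
  obtain ⟨f, hf⟩ := exists_near h φ
  obtain ⟨g, hg1, hg2, -⟩ := far_class h φ hf
  have hH : (stabilizer (stabilizer G a) c).map φ.toMonoidHom = stabilizer S6 (g • pOne) := by
    rw [hg2, stabilizer_smul_eq_stabilizer_map_conj, stabilizer_smul_eq_stabilizer_map_conj,
      show stabilizer S6 S0 = K0 from rfl, K0_eq]
  obtain ⟨f2, e1, e2, e3, e4⟩ := orbit_map φ c (g • pOne) hH
  rw [show orbit S6 (g • pOne) = maskSet mask2 from orbit2.1 _ ((mask2_inv g _).1 pOne_mem)] at e1 e3 e4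
  set ι : Fin 1782 → Ω := fun x => if x = p0 then a else if x ∈ maskSet mask1 then f x else f2 x with hι
  have i0 : ι p0 = a := if_pos rfl
  have i1 : ∀ x ∈ maskSet mask1, ι x = f x := fun x hx => by
    simp only [hι, if_neg (fun e : x = p0 => p0_not1 (e ▸ hx)), if_pos hx]
  have i2 : ∀ x ∈ maskSet mask2, ι x = f2 x := fun x hx => by
    simp only [hι, if_neg (fun e : x = p0 => p0_not2 (e ▸ hx)), if_neg (fun h1 => not_both h1 hx)]
  have hequiv : ∀ (k : stabilizer G a) (x : Fin 1782), k • ι x = ι (φ k • x) := by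
    intro k x
    rcases cover x with rfl | hx | hx
    · rw [smul_p0, i0]
      exact k.2
    · rw [i1 x hx, i1 _ ((mask1_inv _ x).1 hx), hf.equiv k x hx]
    · rw [i2 x hx, i2 _ ((mask2_inv _ x).1 hx), e1 k x hx]
  have hab : ∀ z ∈ orbit (stabilizer G a) b, z ≠ a := fun z hz e => by
    have := h.hb
    rw [← orbit_eq_iff.2 hz, e, h.orbit_self, Set.ncard_singleton] at this
    omega
  have hbc : ∀ z, z ∈ orbit (stabilizer G a) b → z ∈ orbit (stabilizer G a) c → False := fun z hz hz' => by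
    have := h.hb
    rw [← orbit_eq_iff.2 hz, orbit_eq_iff.2 hz', h.hc] at this
    omega
  have k1 : ∀ x ∈ maskSet mask1, ι x ∈ orbit (stabilizer G a) b := fun x hx =>
    i1 x hx ▸ hf.range.subset ⟨x, hx, rfl⟩
  have k2 : ∀ x ∈ maskSet mask2, ι x ∈ orbit (stabilizer G a) c := fun x hx =>
    i2 x hx ▸ e4.subset ⟨x, hx, rfl⟩
  have hinj : Function.Injective ι := by
    intro x y e
    rcases cover x with rfl | hx | hx <;> rcases cover y with rfl | hy | hy
    · rfl
    · exact absurd (e.symm.trans i0) (hab _ (k1 _ hy))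
    · exact absurd (e.symm.trans i0) (far_facts h (k2 _ hy)).1
    · exact absurd (e.trans i0) (hab _ (k1 _ hx))
    · rw [i1 x hx, i1 y hy] at e
      exact hf.inj x hx y hy e
    · exact (hbc _ (e ▸ k1 _ hx) (k2 _ hy)).elim
    · exact absurd (e.trans i0) (far_facts h (k2 _ hx)).1
    · exact (hbc _ (k1 _ hy) (e ▸ k2 _ hx)).elim
    · rw [i2 x hx, i2 y hy] at e
      exact e3 x hx y hy e
  have hbij : Function.Bijective ι :=
    (Fintype.bijective_iff_injective_and_card ι).2 ⟨hinj, by rw [Fintype.card_fin, h.card]⟩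
  set Γ := orbGraph G a b with hΓ
  have hadj0 : ∀ x, Γ.Adj a (ι x) ↔ x ∈ maskSet mask1 := by
    intro x
    refine ⟨fun hx => ?_, fun hx => h.adj_base.2 (k1 x hx)⟩
    rcases cover x with rfl | hx' | hx'
    · exact absurd i0.symm hx.ne
    · exact hx'
    · exact absurd hx (far_facts h (k2 _ hx')).2
  have hsm : ∀ (k : S6) x y, Γ.Adj (ι (k • x)) (ι (k • y)) ↔ Γ.Adj (ι x) (ι y) := by
    intro k x y
    have h1 := h.smul_adj (φ.symm k).1 (x := ι x) (y := ι y)
    rw [show (φ.symm k).1 • ι x = φ.symm k • ι x from rfl, show (φ.symm k).1 • ι y = φ.symm k • ι y from rfl,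
      hequiv, hequiv, φ.apply_symm_apply] at h1
    exact h1
  have hadj2 : ∀ y ∈ maskSet mask1, Γ.Adj (ι pOne) (ι y) ↔ y ∈ S0 := by
    intro y hy
    have hgy : g • y ∈ maskSet mask1 := (mask1_inv g y).1 hy
    rw [← hsm g, i2 _ ((mask2_inv g _).1 pOne_mem), e2, i1 _ hgy, ← Set.smul_mem_smul_set_iff (a := g) (s := S0),
      ← hg1]
    exact ⟨fun e => ⟨hgy, e⟩, fun e => e.2⟩
  refine ⟨ι, hbij, i0, hequiv, hadj0, fun y hy => ?_, hadj2, ?_, fun g' x y => h.smul_adj g'⟩
  · rw [i1 _ q0_mem, i1 y hy]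
    exact (params h φ).2 f hf y hy
  · obtain ⟨l, m, hS, -, -, -⟩ := h.srg
    set X := {y | y ∈ maskSet mask2 ∧ Γ.Adj (ι pOne) (ι y)} with hX
    have hnp := far_facts h (k2 pOne pOne_mem)
    have hall : {y | Γ.Adj (ι pOne) (ι y)}.ncard = 416 := by
      have e : ι '' {y | Γ.Adj (ι pOne) (ι y)} = {z | Γ.Adj (ι pOne) z} := by
        ext z
        exact ⟨fun ⟨y, hy, e⟩ => e ▸ hy, fun hz => by obtain ⟨y, rfl⟩ := hbij.2 z; exact ⟨y, hz, rfl⟩⟩
      rw [← Set.ncard_image_of_injective _ hinj, e, ← hS.regular (ι pOne),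
        ← SimpleGraph.card_neighborFinset_eq_degree, ← Set.ncard_coe_finset]
      congr 1
      ext z
      simp [hΓ]
    have hsplit : {y | Γ.Adj (ι pOne) (ι y)} = S0 ∪ X := by
      ext y
      constructor
      · intro hy
        rcases cover y with rfl | hy' | hy'
        · exact absurd (show Γ.Adj a (ι pOne) from i0 ▸ (hy : Γ.Adj (ι pOne) (ι p0)).symm) hnp.2
        · exact Or.inl ((hadj2 y hy').1 hy)
        · exact Or.inr ⟨hy', hy⟩
      · rintro (hy | hy)
        · exact (hadj2 y (S0_sub hy)).2 hy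
        · exact hy.2
    have hXc : X.ncard = 320 := by
      have hd : Disjoint S0 X := Set.disjoint_left.2 fun y hy hy' => not_both (S0_sub hy) hy'.1
      rw [hsplit, Set.ncard_union_eq hd, S0_card] at hall
      omega
    have hinv : ∀ k ∈ K0, ∀ y ∈ X, k • y ∈ X := by
      rintro k hk y ⟨hy, hya⟩
      refine ⟨(mask2_inv k y).1 hy, ?_⟩
      have := (hsm k pOne y).2 hya
      rw [K0_eq, mem_stabilizer_iff] at hk
      rwa [hk] at this
    obtain ⟨hlen, htr, hcov, hsz, hone⟩ := classes_ok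
    have hin : ∀ i < 4, (∃ y ∈ X, (sMask i).testBit y.val = true) → maskSet (sMask i) ⊆ X := by
      rintro i hi ⟨x, hx, hxi⟩ y hy
      have hi' : i < sClasses.length := hlen ▸ hi
      have h2 := List.all_eq_true.1 htr _ (List.getElem_mem hi')
      rw [Bool.and_eq_true] at h2
      rw [mem_maskSet, sMask, List.getD_eq_getElem _ _ hi'] at hy
      rw [sMask, List.getD_eq_getElem _ _ hi'] at hxi
      have hb := Nat.le_of_ble_eq_true h2.1
      obtain ⟨r, hr, er⟩ := tree_orbit (fun w hw => (stabW_K0 hw).1) (fun w hw => (stabW_K0 hw).2) hb h2.2 x hxi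
      obtain ⟨s, hs, es⟩ := tree_orbit (fun w hw => (stabW_K0 hw).1) (fun w hw => (stabW_K0 hw).2) hb h2.2 y hy
      have := hinv (s * r⁻¹) (mul_mem hs (inv_mem hr)) x hx
      rwa [mul_smul, ← er, inv_smul_smul, es] at this
    simp only [show List.range 4 = [0, 1, 2, 3] from rfl, List.map_cons, List.map_nil, List.cons.injEq, and_true] at hsz
    obtain ⟨-, s1, s2, s3⟩ := hsz
    have hno0 : ∀ y ∈ X, (sMask 0).testBit y.val = false := by
      intro y hy
      by_contra hb
      rw [Bool.not_eq_false, hone, Nat.one_shiftLeft, Nat.testBit_two_pow, decide_eq_true_eq] at hb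
      exact hy.2.ne (congrArg ι (Fin.ext hb : pOne = y))
    have hclass : ∀ y ∈ X, (sMask 1).testBit y.val = true ∨ (sMask 2).testBit y.val = true ∨
        (sMask 3).testBit y.val = true := by
      intro y hy
      have h1 := List.all_eq_true.1 hcov y.val (List.mem_range.2 y.isLt)
      rw [beq_iff_eq, show mask2.testBit y.val = true from hy.1, eq_comm, List.any_eq_true] at h1
      obtain ⟨i, hi, hiy⟩ := h1
      rw [List.mem_range] at hi
      interval_cases i
      · rw [hno0 y hy] at hiy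
        exact Bool.noConfusion hiy
      · exact Or.inl hiy
      · exact Or.inr (Or.inl hiy)
      · exact Or.inr (Or.inr hiy)
    have no1 : ∀ y ∈ X, (sMask 1).testBit y.val ≠ true := fun y hy e => by
      have := Set.ncard_le_ncard (hin 1 (by norm_num) ⟨y, hy, e⟩) (Set.toFinite _)
      rw [JTwo.ncard_maskSet, s1, hXc] at this
      omega
    have no2 : ∀ y ∈ X, (sMask 2).testBit y.val ≠ true := by
      intro y hy e
      have h2 := hin 2 (by norm_num) ⟨y, hy, e⟩
      by_cases e3' : ∃ z ∈ X, (sMask 3).testBit z.val = true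
      · have hd : Disjoint (maskSet (sMask 2)) (maskSet (sMask 3)) := by
          refine Set.disjoint_left.2 fun z hz hz' => ?_
          have h := List.all_eq_true.1 (List.all_eq_true.1 classes_disj 3 (List.mem_range.2 (by norm_num))) z.val
            (List.mem_range.2 z.isLt)
          rw [mem_maskSet] at hz hz'
          simp only [hz', Bool.not_true, Bool.false_or, List.all_eq_true, List.mem_range, Bool.not_eq_true'] at h
          rw [h 2 (by norm_num)] at hz
          exact Bool.noConfusion hz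
        have := Set.ncard_le_ncard (Set.union_subset h2 (hin 3 (by norm_num) e3')) (Set.toFinite _)
        rw [Set.ncard_union_eq hd, JTwo.ncard_maskSet, JTwo.ncard_maskSet, s2, s3, hXc] at this
        omega
      · push Not at e3'
        have hX2 : X ⊆ maskSet (sMask 2) := fun z hz =>
          ((hclass z hz).resolve_left (no1 z hz)).resolve_right (e3' z hz)
        have := Set.ncard_le_ncard (s := X) (t := maskSet (sMask 2)) hX2 (Set.toFinite _)
        rw [JTwo.ncard_maskSet, s2, hXc] at this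
        omega
    have hXe : X = maskSet (sMask 3) := Set.eq_of_subset_of_ncard_le
      (fun z hz => ((hclass z hz).resolve_left (no1 z hz)).resolve_left (no2 z hz))
      (by rw [JTwo.ncard_maskSet, s3, hXc]) (Set.toFinite _)
    intro y hy
    have h1 : y ∈ X ↔ y ∈ maskSet (sMask 3) := by rw [hXe]
    exact ⟨fun e => h1.1 ⟨hy, e⟩, fun e => (h1.2 e).2⟩

theorem Labelling.adj_smul {φ : stabilizer G a ≃* S6} {ι : Fin 1782 → Ω} (L : Labelling G a b φ ι) (k : S6)
    (x y : Fin 1782) : (orbGraph G a b).Adj (ι (k • x)) (ι (k • y)) ↔ (orbGraph G a b).Adj (ι x) (ι y) := by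
  have h := L.smul (φ.symm k).1 (ι x) (ι y)
  rw [show (φ.symm k).1 • ι x = φ.symm k • ι x from rfl, show (φ.symm k).1 • ι y = φ.symm k • ι y from rfl,
    L.equiv, L.equiv, φ.apply_symm_apply] at h
  exact h

theorem exists_to_q0 {x : Fin 1782} (hx : x ∈ maskSet mask1) : ∃ k : S6, k • x = JTwo.q0 :=
  ⟨_, ((orbit1.1 x hx).symm.subset q0_mem).choose_spec⟩

theorem exists_to_pOne {x : Fin 1782} (hx : x ∈ maskSet mask2) : ∃ k : S6, k • x = pOne :=
  ⟨_, ((orbit2.1 x hx).symm.subset pOne_mem).choose_spec⟩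

variable {Ω' : Type v} [Fintype Ω'] [DecidableEq Ω'] {G' : Subgroup (Equiv.Perm Ω')} {a' b' : Ω'}

/-- Two labelled graphs agree. -/
theorem adj_same {φ : stabilizer G a ≃* S6} {ι : Fin 1782 → Ω} (L : Labelling G a b φ ι)
    {φ' : stabilizer G' a' ≃* S6} {ι' : Fin 1782 → Ω'} (L' : Labelling G' a' b' φ' ι') (x y : Fin 1782) :
    (orbGraph G a b).Adj (ι x) (ι y) ↔ (orbGraph G' a' b').Adj (ι' x) (ι' y) := by
  have zero : ∀ y, (orbGraph G a b).Adj (ι p0) (ι y) ↔ (orbGraph G' a' b').Adj (ι' p0) (ι' y) := fun y => by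
    rw [L.base, L'.base, L.adj0, L'.adj0]
  have near : ∀ x ∈ maskSet mask1, ∀ y ∈ maskSet mask1,
      (orbGraph G a b).Adj (ι x) (ι y) ↔ (orbGraph G' a' b').Adj (ι' x) (ι' y) := by
    intro x hx y hy
    obtain ⟨k, hk⟩ := exists_to_q0 hx
    rw [← L.adj_smul k, ← L'.adj_smul k, hk, L.adj1 _ ((mask1_inv k y).1 hy), L'.adj1 _ ((mask1_inv k y).1 hy)]
  have mixed : ∀ x ∈ maskSet mask2, ∀ y ∈ maskSet mask1,
      (orbGraph G a b).Adj (ι x) (ι y) ↔ (orbGraph G' a' b').Adj (ι' x) (ι' y) := by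
    intro x hx y hy
    obtain ⟨k, hk⟩ := exists_to_pOne hx
    rw [← L.adj_smul k, ← L'.adj_smul k, hk, L.adj2 _ ((mask1_inv k y).1 hy), L'.adj2 _ ((mask1_inv k y).1 hy)]
  have far : ∀ x ∈ maskSet mask2, ∀ y ∈ maskSet mask2,
      (orbGraph G a b).Adj (ι x) (ι y) ↔ (orbGraph G' a' b').Adj (ι' x) (ι' y) := by
    intro x hx y hy
    obtain ⟨k, hk⟩ := exists_to_pOne hx
    rw [← L.adj_smul k, ← L'.adj_smul k, hk, L.adj3 _ ((mask2_inv k y).1 hy), L'.adj3 _ ((mask2_inv k y).1 hy)]
  rcases cover x with rfl | hx | hx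
  · exact zero y
  · rcases cover y with rfl | hy | hy
    · rw [SimpleGraph.adj_comm, zero x, SimpleGraph.adj_comm]
    · exact near x hx y hy
    · rw [SimpleGraph.adj_comm, mixed y hy x hx, SimpleGraph.adj_comm]
  · rcases cover y with rfl | hy | hy
    · rw [SimpleGraph.adj_comm, zero x, SimpleGraph.adj_comm]
    · exact mixed x hx y hy
    · exact far x hx y hy

end Cfsg.Lib.SuzPres.RankThree
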