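import Cfsg.Agent.SuzPres.RankThree.Six

/-!
A subgroup of index 416 of the group on six letters fixes one of the 416 points.
-/

set_option autoImplicit false
set_option maxRecDepth 8000

namespace Cfsg.Lib.SuzPres.RankThree

open Cfsg.Lib.CosetCert Cfsg.Lib.PermCert
open scoped Pointwise

/-- The group on five letters inside the group on six. -/
def inc : F5 →* S6 := Subgroup.inclusion JTwo.five_le_six

theorem inc_injective : Function.Injective inc := Subgroup.inclusion_injective _

theorem stab_q0_eq : MulAction.stabilizer S6 JTwo.q0 = inc.range := by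
  rw [JTwo.stab_q0]
  ext x
  simp only [Subgroup.mem_subgroupOf, MonoidHom.mem_range, inc]
  exact ⟨fun h => ⟨⟨x, h⟩, rfl⟩, fun ⟨y, hy⟩ => hy ▸ y.2⟩

/-- A subgroup of index 416 is a point stabiliser. -/
theorem index_point {H : Subgroup S6} (hH : H.index = 416) :
    ∃ c : S6, H = MulAction.stabilizer S6 (c • JTwo.q0) := by
  classical
  haveI := finite_S6
  haveI := finite_F5
  haveI : Fact (Nat.Prime 5) := ⟨by norm_num⟩
  have hcH : Nat.card H = 604800 := by
    have hmul := Subgroup.card_mul_index H
    rw [hH, card_S6] at hmul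
    omega
  have hfac : (251596800 : ℕ).factorization 5 = 2 := by
    rw [show (251596800 : ℕ) = 5 ^ 2 * 10063872 by norm_num, Nat.factorization_mul (by norm_num) (by norm_num),
      Finsupp.add_apply, Nat.Prime.factorization_pow (show Nat.Prime 5 by norm_num), Finsupp.single_eq_same,
      Nat.factorization_eq_zero_of_not_dvd (show ¬ (5 ∣ 10063872) by norm_num)]
  obtain ⟨R, hR⟩ := Sylow.exists_subgroup_card_pow_prime (G := H) 5 (n := 2) (by rw [hcH]; norm_num)
  let A : Sylow 5 S6 := Sylow.ofCard (P5.map inc) (by
    rw [Subgroup.card_map_of_injective inc_injective, card_P5, card_S6, hfac]; norm_num)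
  let B : Sylow 5 S6 := Sylow.ofCard (R.map H.subtype) (by
    rw [Subgroup.card_map_of_injective H.subtype_injective, hR, card_S6, hfac])
  obtain ⟨c, hc⟩ := MulAction.exists_smul_eq S6 A B
  refine ⟨c, ?_⟩
  have hc' : ∀ p ∈ P5, c * inc p * c⁻¹ ∈ H := by
    intro p hp
    have hmem : c * inc p * c⁻¹ ∈ (B : Subgroup S6) := by
      rw [← hc, Sylow.coe_subgroup_smul, Subgroup.mem_pointwise_smul_iff_inv_smul_mem]
      simp only [map_inv, MulAut.smul_def, MulAut.inv_def, MulAut.conj_symm_apply]
      simpa [mul_assoc] using show inc p ∈ (A : Subgroup S6) from ⟨p, hp, rfl⟩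
    exact Subgroup.map_subtype_le _ (show c * inc p * c⁻¹ ∈ R.map H.subtype from hmem)
  let L : Subgroup F5 := H.comap ((MulAut.conj c).toMonoidHom.comp inc)
  have hP : P5 ≤ L := fun p hp => hc' p hp
  have hidx : L.index ≤ 416 := by
    have hne : H.index ≠ 0 := by omega
    have h1 : L.index = H.relIndex ((MulAut.conj c).toMonoidHom.comp inc).range := Subgroup.index_comap H _
    rw [h1]
    refine le_trans (Subgroup.relIndex_le_of_le_right le_top ?_) (le_of_eq ((Subgroup.relIndex_top_right H).trans hH))
    rw [Subgroup.relIndex_top_right]; exact hne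
  have hcL : Nat.card L * L.index = 604800 := by rw [Subgroup.card_mul_index]; exact card_first_five
  have h1454 : 1454 ≤ Nat.card L := by
    have := Nat.mul_le_mul_left (Nat.card L) hidx
    omega
  have htop := five_top hP h1454
  have hle : MulAction.stabilizer S6 (c • JTwo.q0) ≤ H := by
    intro x hx
    rw [MulAction.stabilizer_smul_eq_stabilizer_map_conj] at hx
    obtain ⟨y, hy, rfl⟩ := hx
    rw [stab_q0_eq] at hy
    obtain ⟨z, rfl⟩ := hy
    exact (htop.ge (Subgroup.mem_top z) : z ∈ L)
  have hs : (MulAction.stabilizer S6 (c • JTwo.q0)).index = 416 := by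
    rw [MulAction.index_stabilizer, MulAction.orbit_smul, JTwo.top_orbit, orbit1.2.1]
  have hrel := Subgroup.relIndex_mul_index hle
  rw [hH, hs] at hrel
  exact (le_antisymm hle (Subgroup.relIndex_eq_one.1 (by omega))).symm

end Cfsg.Lib.SuzPres.RankThree
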