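import Cfsg.Agent.CosetCert.Lower

/-!
Generated: a 2-subgroup, its orbits and images of invariant sets.
-/

set_option autoImplicit false

namespace Cfsg.Lib.SuzPres.RankThree

def vW : List (List ℕ) :=
  [[0],
    [2],
    [4],
    [5],
    [3,2,3,4,3,2,3],
    [3,2,3],
    [1,0,1,0,2,1,5,1,0,2,1,0,1],
    [1,0,1,0,3,4,5,1,2,3,2,4,3,2,1,0,5,1,0,1],
    [1,0,1,0,3,2,1,5,1,0,2,1,0,1,3],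
    [1,0,2,1,0,1,3,2,4,3,2,1,0,1,0,5,1,2,3,2,1,4,3,2,5,1],
    [1,0,1,0,2,3,2,4,3,2,1,0,1,2,3,2,1,4,3,2,1,3,2,4,3,2,1],
    [1,2,3,4,5,1,2,3,2,1,4,3,2,5,1]]

def vSquares : List ℕ :=
  [0, 0, 0, 0, 0, 0, 0, 0, 0, 72, 23, 0]

def vConjs : List (List ℕ) :=
  [[],
    [1],
    [1,2],
    [1,2,4],
    [1,2,5,8],
    [1,3,16,8,4],
    [1,2,4,8,16,40],
    [1,2,13,8,24,52,64],
    [1,10,192,8,221,32,73,77],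
    [1,2,76,8,81,53,64,200,460],
    [1,3,19,8,7,53,72,151,460,598],
    [1,2,78,8,81,1051,64,139,989,584,114]]

def vTree0 : List (ℕ × ℕ × ℕ) :=
  [(76, 47, 0), (79, 47, 2), (82, 47, 3), (761, 47, 4), (149, 47, 5), (81, 47, 6),
    (1237, 47, 7), (267, 47, 8), (453, 47, 10), (121, 76, 2), (1084, 76, 4), (223, 76, 5),
    (954, 76, 7), (277, 76, 8), (632, 76, 10), (128, 79, 3), (301, 79, 5), (127, 79, 6),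
    (1098, 79, 7), (1328, 79, 8), (346, 79, 10), (234, 82, 5), (1441, 82, 7), (276, 82, 8),
    (670, 82, 10), (231, 761, 5), (1097, 761, 6), (1331, 761, 8), (438, 149, 8), (455, 149, 11),
    (233, 81, 5), (1303, 81, 7), (179, 81, 8), (668, 81, 10), (274, 1237, 8), (396, 267, 2),
    (411, 267, 9), (1630, 267, 10), (898, 453, 8), (428, 121, 5), (1626, 121, 8), (982, 1084, 8),
    (471, 223, 8), (457, 223, 11), (412, 277, 2), (1761, 277, 10), (1259, 632, 8), (976, 128, 8),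
    (357, 128, 10), (1327, 127, 8), (358, 127, 10), (981, 1098, 8), (315, 1328, 10), (1342, 346, 8),
    (470, 234, 8), (1747, 276, 10), (1260, 670, 8), (1258, 231, 8), (674, 1097, 8), (1225, 1331, 10),
    (1340, 438, 7), (1762, 455, 8), (992, 396, 10)]

def vBase0 : ℕ := 47

def vTree1_0 : List (ℕ × ℕ × ℕ) :=
  [(112, 72, 0), (99, 72, 1), (115, 72, 2), (117, 72, 3), (404, 72, 4), (188, 72, 6),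
    (536, 72, 7), (116, 72, 8), (364, 72, 9), (350, 72, 10), (1266, 72, 11), (146, 112, 1),
    (172, 112, 2), (576, 112, 4), (200, 112, 6), (534, 112, 7), (365, 112, 9), (237, 112, 10),
    (908, 112, 11), (152, 99, 2), (155, 99, 3), (598, 99, 4), (294, 99, 6), (362, 99, 10),
    (907, 99, 11), (178, 115, 3), (847, 115, 4), (290, 115, 6), (749, 115, 7), (896, 115, 8),
    (993, 115, 9), (192, 115, 10), (854, 115, 11), (604, 117, 4), (198, 117, 6), (1226, 117, 11),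
    (600, 404, 2), (463, 404, 6), (1248, 404, 8), (1241, 404, 9), (522, 404, 10), (447, 404, 11),
    (894, 188, 7), (895, 188, 9), (535, 188, 11), (765, 536, 2), (305, 536, 4), (406, 536, 5),
    (199, 536, 9), (885, 536, 10), (419, 536, 11), (154, 116, 1), (177, 116, 2), (602, 116, 4),
    (129, 116, 6), (516, 116, 7), (1267, 116, 11), (524, 364, 2), (194, 364, 4), (272, 364, 5),
    (310, 364, 8), (1111, 364, 10), (400, 364, 11), (512, 350, 2)]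

def vTree1_1 : List (ℕ × ℕ × ℕ) :=
  [(184, 350, 4), (263, 350, 5), (1257, 350, 6), (468, 350, 8), (880, 350, 10), (594, 350, 11),
    (1012, 1266, 2), (1622, 1266, 4), (779, 1266, 5), (906, 1266, 8), (1592, 1266, 9), (1014, 1266, 10),
    (226, 146, 2), (532, 146, 4), (316, 146, 6), (619, 146, 11), (311, 172, 6), (1255, 172, 8),
    (1341, 172, 9), (286, 172, 10), (1222, 172, 11), (684, 576, 6), (1588, 576, 8), (1583, 576, 9),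
    (653, 576, 11), (607, 200, 7), (1254, 200, 9), (590, 200, 11), (763, 534, 2), (303, 534, 4),
    (408, 534, 5), (314, 534, 9), (883, 534, 10), (282, 534, 11), (525, 365, 2), (195, 365, 4),
    (273, 365, 5), (467, 365, 8), (955, 365, 10), (586, 365, 11), (355, 237, 2), (125, 237, 4),
    (176, 237, 5), (1256, 237, 6), (436, 237, 8), (654, 237, 10), (592, 237, 11), (702, 908, 2),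
    (1314, 908, 4), (1119, 908, 5), (1073, 908, 8), (1320, 908, 9), (940, 908, 10), (240, 152, 3),
    (683, 152, 9), (1103, 152, 11), (775, 155, 4), (904, 155, 11), (307, 598, 6), (1249, 598, 8),
    (1584, 598, 9), (634, 598, 11), (430, 294, 11), (392, 362, 5)]

def vTree1_2 : List (ℕ × ℕ × ℕ) :=
  [(309, 362, 8), (420, 362, 11), (701, 907, 2), (1313, 907, 4), (1343, 907, 5), (421, 907, 7),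
    (849, 907, 8), (1449, 907, 9), (695, 907, 10), (682, 178, 9), (578, 178, 11), (897, 847, 6),
    (1698, 847, 11), (685, 290, 5), (271, 749, 4), (994, 749, 11), (1655, 896, 4), (857, 896, 10),
    (990, 993, 5), (205, 993, 11), (1363, 192, 6), (666, 192, 11), (639, 854, 2), (1283, 854, 4),
    (698, 854, 5), (960, 854, 10), (1589, 604, 8), (1352, 604, 9), (662, 604, 11), (781, 198, 11),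
    (1753, 1226, 4), (1121, 1226, 5), (618, 1226, 8), (1261, 1226, 9), (609, 600, 6), (1446, 600, 11),
    (681, 463, 10), (889, 1248, 1), (461, 1248, 4), (1234, 1248, 11), (464, 1241, 7), (905, 1241, 11),
    (991, 522, 6), (239, 522, 9), (1344, 522, 11), (658, 447, 2), (1594, 447, 7), (971, 447, 9),
    (638, 447, 10), (1702, 894, 5), (1451, 894, 11), (1466, 895, 5), (409, 895, 10), (764, 535, 2),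
    (321, 535, 5), (1321, 535, 8), (868, 535, 10), (1013, 765, 11), (776, 305, 10), (972, 305, 11),
    (608, 406, 9), (433, 199, 4), (938, 199, 11), (899, 885, 6)]

def vTree1_3 : List (ℕ × ℕ × ℕ) :=
  [(1311, 885, 11), (909, 419, 7), (1460, 419, 8), (196, 177, 6), (853, 177, 11), (642, 602, 6),
    (1639, 602, 9), (660, 602, 11), (871, 129, 11), (1623, 1267, 4), (782, 1267, 5), (1595, 1267, 9),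
    (1247, 272, 6), (1005, 272, 11), (610, 310, 4), (1619, 1111, 11), (298, 400, 2), (930, 400, 5),
    (1214, 400, 10), (1319, 184, 11), (697, 263, 11), (1700, 880, 11), (451, 594, 2), (958, 594, 5),
    (1462, 594, 8), (1422, 594, 10), (874, 1012, 5), (443, 1012, 7), (1696, 1622, 2), (1101, 1622, 5),
    (323, 779, 6), (481, 779, 9), (1215, 906, 1), (1004, 906, 10), (703, 1014, 1), (1776, 1014, 4),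
    (1232, 1014, 6), (449, 1014, 9), (1444, 1014, 10), (462, 532, 6), (1746, 532, 9), (966, 619, 4),
    (970, 286, 11), (1305, 1222, 4), (962, 1222, 10), (1339, 1588, 11), (953, 653, 2), (1104, 607, 11),
    (1287, 303, 11), (1116, 282, 8), (1351, 273, 11), (581, 467, 4), (1003, 176, 11), (931, 592, 5),
    (1573, 592, 8), (1114, 702, 5), (324, 1119, 6), (1605, 904, 4), (926, 634, 2), (478, 392, 11),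
    (696, 271, 11), (1282, 857, 11), (1315, 666, 9)]

def vTree1 : List (ℕ × ℕ × ℕ) :=
  vTree1_0 ++ vTree1_1 ++ vTree1_2 ++ vTree1_3

def vBase1 : ℕ := 72

def vTree2 : List (ℕ × ℕ × ℕ) :=
  [(180, 130, 0), (201, 130, 1), (197, 130, 2), (415, 130, 5), (278, 130, 6), (317, 130, 8),
    (1615, 130, 9), (1290, 130, 10), (275, 180, 2), (1445, 180, 9), (1459, 180, 10), (312, 201, 2),
    (472, 201, 5), (1756, 201, 9), (1461, 201, 10), (611, 197, 5), (413, 197, 6), (1757, 197, 9),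
    (780, 197, 10), (1616, 197, 11), (614, 415, 1), (308, 415, 7), (1452, 415, 9), (1699, 278, 9),
    (1115, 278, 10), (465, 317, 4), (410, 317, 7), (1102, 317, 9), (1307, 317, 10), (1122, 1290, 7),
    (1617, 275, 9)]

def vBase2 : ℕ := 130

def vTree3 : List (ℕ × ℕ × ℕ) :=
  [(279, 202, 0), (318, 202, 1), (313, 202, 2), (615, 202, 5), (989, 202, 10), (416, 279, 1),
    (414, 279, 2), (473, 279, 5), (1318, 279, 10), (469, 318, 2), (689, 318, 5), (1253, 318, 10),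
    (900, 313, 5), (1120, 313, 10), (901, 615, 1), (1621, 615, 10), (1338, 989, 1), (1701, 989, 4),
    (1760, 989, 5), (613, 416, 2), (686, 414, 5), (1465, 414, 10), (1330, 473, 10), (1450, 1318, 4),
    (1777, 1318, 5), (466, 469, 5), (1758, 689, 10), (1625, 1253, 5), (612, 900, 1), (1627, 901, 10),
    (1697, 1621, 2)]

def vBase3 : ℕ := 202

def vTree4 : List (ℕ × ℕ × ℕ) :=
  [(347, 228, 1), (352, 228, 2), (513, 228, 4), (439, 228, 6), (690, 228, 8), (1759, 228, 9),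
    (474, 347, 6), (644, 347, 8), (1780, 347, 9), (643, 352, 6), (687, 352, 7), (1265, 352, 8),
    (669, 352, 9), (1002, 513, 8), (961, 513, 9), (995, 439, 8), (661, 439, 9), (688, 690, 6),
    (750, 690, 7), (407, 690, 9), (1775, 1759, 2), (1231, 1759, 8), (1781, 1759, 10), (456, 1759, 11),
    (518, 644, 7), (593, 644, 9), (884, 1780, 8), (603, 1265, 11), (870, 1002, 11), (304, 995, 9),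
    (450, 688, 9)]

def vBase4 : ℕ := 228

def vOrbits : List (ℕ × List (ℕ × ℕ × ℕ)) :=
  [(vBase0, vTree0), (vBase1, vTree1), (vBase2, vTree2), (vBase3, vTree3), (vBase4, vTree4)]

def bad0Sel : List ℕ := [0,2]

def bad0Pts : List ℕ := [315,690,614,470,121,199,152,347,438,750,410,125,177,200,323]

def bad0Words_0 : List (List ℕ) :=
  [[2,1,5,3,4,2,3,1], [5,2,3,4,2,3,1], [1,5,3,4,2,3,1], [4,3,2,1,5,4,3,0,1], [5,3,4,2,3,1], [5,2,3,4,3,2,3,0,1],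
    [2,1,5,2,3,4,2,3,1], [1,5,3,4,3,2,3,0,1], [1,5,2,3,4,2,3,1], [0,1,5,1,2,0,1], [1,5,0,1,2,3,2,1], [5,2,3,4,2,3,0,1],
    [2,1,5,3,4,2,3,2,1], [5,2,3,4,3,2,3,1], [2,1,5,3,4,3,2,3,1], [0,1,5,2,3,4,2,3,1], [2,0,1,5,2,0,1], [0,1,5,4,3,2,3,2,1],
    [5,3,2,3,2,1], [5,2,3,4,1,2,3,2,1], [1,5,3,4,2,3,2,1], [3,2,0,1,5,4,3,0,1], [1,5,3,2,3,2,1], [1,0,1,5,2,3,2,3,1],
    [5,3,4,2,3,2,1], [0,1,5,3,0,1], [1,5,3,4,3,2,3,1], [0,1,5,2,3,2,3,1], [0,1,5,3,4,2,3,0,1], [5,3,4,3,2,3,1],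
    [2,0,1,5,2,3,0,1], [2,3,2,0,1,5,0,1], [5,2,3,1], [3,2,1,5,4,3,2,3,1], [1,5,2,3,4,2,3,0,1], [1,5,4,0,1,2,3,2,1],
    [1,5,2,3,4,3,2,3,1], [2,3,2,1,5,4,3,0,1], [0,1,5,3,2,3,2,1], [0,1,5,0,1,2,3,2,1], [0,1,5,4,3,0,1], [1,5,3,4,2,3,0,1],
    [2,0,1,5,4,2,3,0,1], [0,1,5,4,2,3,2,3,1], [1,5,3,4,3,2,3,2,1], [2,1,5,3,4,2,3,0,1], [3,2,1,5,4,3,0,1], [0,1,5,3,4,2,3,2,1],
    [5,3,4,3,2,3,2,1], [5,4,2,3,1], [4,2,3,2,0,1,5,0,1], [5,4,3,2,3,2,1], [1,5,4,3,2,3,2,1], [2,1,5,4,3,0,1],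
    [0,1,5,4,1,2,3,2,1], [2,1,5,4,1,2,3,2,1], [5,2,3,4,2,3,2,3,1], [2,1,5,3,0,1], [1,5,4,2,3,0,1], [2,1,5,4,2,3,2,0,1],
    [1,5,2,3,0,1], [5,1,2,0,1], [5,4,2,3,1,2,0,1], [5,2,3,1,2,3,2,1], [2,1,5,1,2,3,2,1], [0,1,5,2,3,1,2,1,0,1],
    [2,1,5,2,3,1,2,1,0,1], [1,0,1,5,1,2,3,2,1], [2,1,5,2,3,2,0,1], [5,4,3,0,1], [5,3,0,1], [5,4,2,3,1,2,3,2,1]]

def bad0Words_1 : List (List ℕ) :=
  [[5,2,3,4,2,3,2,0,1], [0,1,5,1,2,3,2,1], [5,2,3,1,2,0,1], [2,1,5,0,1], [5,3,4,0,1,2,3,2,1], [5,3,4,2,3,2,3,1],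
    [1,0,1,5,3,1,2,0,1], [1,5,3,4,2,3,2,3,1], [5,3,2,1], [2,1,5,2,3,0,1], [2,1,5,4,2,3,0,1], [5,3,4,3,2,3,0,1],
    [1,5,4,3,0,1], [5,3,4,2,3,0,1], [1,5,3,0,1], [5,4,3,2,0,1], [1,0,1,5,3,2,3,2,1], [5,4,2,3,2,3,1],
    [5,3,4,1,2,3,2,1], [1,5,2,3,1,2,3,2,1], [3,2,1,5,3,1,2,0,1], [5,3,4,3,1,2,3,2,1], [1,5,1,2,0,1], [5,3,2,0,1],
    [1,5,2,3,2,3,1], [5,2,3,0,1], [5,4,2,3,0,1], [2,3,2,1,5,0,1], [1,5,4,2,3,2,3,1], [5,4,3,2,1],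
    [3,2,1,5,4,2,3,0,1], [5,3,4,2,3,1,2,1,0,1], [5,2,3,2,3,1], [4,2,3,2,1,5,0,1], [1,5,3,4,2,3,2,0,1], [5,3,4,2,3,2,0,1],
    [2,1,5,2,0,1], [5,4,3,0,1,2,3,2,1], [5,3,0,1,2,3,2,1], [5,3,2,3,0,1], [3,2,1,5,2,3,0,1], [2,1,5,0,1,2,3,2,1],
    [5,3,0,1,2,0,1], [5,1,2,1,0,1], [1,5,1,2,3,2,3,1,0,1], [1,5,3,2,3,1,2,1,0,1], [5,4,3,2,3,0,1], [4,3,2,1,5,2,3,0,1],
    [2,1,5,4,3,2,0,1], [1,5,4,3,2,0,1], [2,1,5,4,3,1,2,1,0,1], [5,4,3,0,1,2,0,1], [1,5,0,1], [2,1,5,3,2,0,1],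
    [2,1,5,3,1,2,1,0,1], [1,5,3,2,0,1], [3,2,1,5,3,4,2,3,1], [0,1,5,4,3,2,3,0,1], [5,3,2,3,4,3,2,3,1], [1,5,4,3,0,1,2,1,0,1],
    [1,5,3,2,1], [4,3,2,1,5,3,2,3,1], [5,2,3,4,2,3,1,2,0,1], [1,5,4,3,2,3,0,1], [1,0,1,5,4,3,0,1], [1,5,4,3,2,1],
    [4,3,2,1,5,3,0,1], [1,5,2,3,2,3,1,2,0,1], [1,5,3,4,1,2,3,2,1], [3,2,0,1,5,3,0,1], [3,2,1,5,3,2,3,1], [5,2,3,2,3,1,2,0,1]]

def bad0Words_2 : List (List ℕ) :=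
  [[1,0,1,5,3,0,1], [1,5,3,0,1,2,1,0,1], [1,5,3,0,1,2,3,2,1], [1,2,0,1,5,1,2,1,0,1], [3,2,1,5,3,0,1], [2,1,5,3,2,3,1,2,0,1],
    [3,1,2,3,2,1,5,0,1], [1,5,2,1], [1,5,3,2,3,0,1], [1,5,4,2,3,1], [5,4,2,3,2,3,1,2,0,1], [4,3,2,0,1,5,3,0,1],
    [1,5,2,3,1], [0,1,5,3,2,3,0,1], [5,4,1,2,3,2,3,1,0,1], [0,1,5,3,1,2,0,1], [5,4,3,0,1,2,1,0,1], [0,1,5,4,2,3,2,1],
    [2,1,5,2,3,2,1], [2,0,1,5,3,1,2,0,1], [0,1,5,2,3,2,1], [1,2,3,2,1,5,0,1], [5,3,4,2,3,0,1,2,0,1], [5,3,0,1,2,1,0,1],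
    [1,5,4,2,3,1,2,0,1], [4,1,2,3,2,1,5,0,1], [1,5,2,3,1,2,0,1], [0,1,5,4,3,1,2,0,1], [2,1,5,4,2,3,2,1], [5,0,1],
    [0,1,5,3,2,3,1,2,0,1], [5,1,2,3,2,3,1,0,1], [1,5,1,2,1,0,1], [5,4,3,2,3,1,2,1,0,1], [1,0,1,5,1,2,0,1], [1,0,1,5,2,3,2,1],
    [1,0,1,5,4,2,3,2,1], [2,1,5,3,2,1], [0,1,0,1,5,2,3,2,1], [3,2,1,5,4,3,2,0,1], [2,1,5,4,3,2,1], [2,1,5,3,0,1,2,1,0,1],
    [3,2,1,5,3,2,1], [5,3,2,3,1,2,1,0,1], [3,2,0,1,5,1,2,1,0,1], [5,4,0,1,2,3,2,1], [2,0,1,5,1,2,1,0,1], [3,2,3,2,1,5,0,1],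
    [5,2,1], [5,0,1,2,3,2,1], [4,3,2,3,2,1,5,0,1], [1,2,3,2,0,1,5,0,1], [2,0,1,5,3,2,3,0,1], [1,5,1,0,1,2,3,2,1],
    [1,5,4,1,2,3,2,1], [5,0,1,2,1,0,1], [0,1,5,2,3,0,1], [1,5,3,4,2,3,1,2,0,1], [2,1,5,2,3,2,3,1], [2,0,1,5,3,0,1],
    [5,2,3,0,1,2,0,1], [5,4,3,2,3,1], [5,2,3,4,2,3,2,1], [2,0,1,5,3,1,2,1,0,1], [0,1,5,0,1], [5,4,3,1,2,0,1],
    [5,2,3,0,1,2,3,2,1], [5,3,1], [0,1,5,3,2,0,1], [1,5,1,2,3,2,1], [2,0,1,5,3,2,0,1], [5,4,2,3,0,1,2,0,1]]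

def bad0Words_3 : List (List ℕ) :=
  [[5,3,1,2,0,1], [5,3,2,3,1], [5,2,3,4,3,2,3,2,1], [2,1,5,4,2,3,2,3,1], [2,0,1,5,4,3,0,1], [0,1,5,4,2,3,0,1],
    [2,0,1,5,4,3,2,0,1], [5,4,3,1], [0,1,5,4,3,2,0,1], [2,0,1,5,1,2,0,1], [2,1,5,3,2,3,1], [5,3,2,3,1,2,3,2,1],
    [5,2,3,2,1], [0,1,5,2,3,2,0,1], [1,5,4,3,1,2,3,2,1], [1,5,3,2,3,1], [0,1,5,3,1,2,3,2,1], [0,1,5,2,0,1],
    [0,1,5,3,1,2,1,0,1], [0,1,5,4,3,1,2,1,0,1], [5,1,0,1,2,3,1,2,0,1], [1,5,3,1,2,3,2,1], [1,5,3,1,2,1,0,1], [3,2,1,5,0,1],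
    [1,5,4,3,2,3,1], [0,1,5,4,2,3,2,0,1], [5,4,2,3,2,1], [2,1,5,4,3,2,3,1], [1,5,4,3,1,2,1,0,1], [4,3,2,1,5,0,1],
    [3,2,0,1,5,3,2,0,1], [5,0,1,2,0,1], [1,5,2,3,1,2,1,0,1], [1,5,4,2,3,1,2,1,0,1], [2,0,1,5,2,3,2,0,1], [3,2,1,5,3,1,2,1,0,1],
    [3,4,2,3,2,1,5,0,1], [5,3,1,2,3,2,1], [4,3,2,1,5,1,2,0,1], [2,0,1,5,0,1], [5,4,3,1,2,3,2,1], [3,2,1,5,1,2,0,1],
    [5,4,2,3,2,0,1], [1,5,4,2,3,2,0,1], [1,5,2,3,2,0,1], [5,2,3,2,0,1], [1,2,3,2,1,5,3,0,1], [3,2,1,5,3,2,0,1],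
    [3,2,0,1,5,0,1], [2,1,5,1,2,0,1], [4,3,2,1,5,3,2,0,1], [1,5,2,0,1], [4,3,2,0,1,5,0,1], [2,1,5,2,3,1,2,0,1],
    [0,1,5,2,3,1,2,0,1], [5,3,4,2,3,1,2,0,1], [1,0,1,5,2,3,2,0,1], [0,1,2,3,2,1,5,0,1], [2,1,5,4,2,3,1,2,0,1], [1,5,2,3,2,1],
    [5,3,2,3,1,2,0,1], [4,2,3,2,1,5,3,0,1], [2,1,5,4,3,2,3,0,1], [5,3,4,3,2,3,1,2,0,1], [0,1,5,1,2,1,0,1], [5,1],
    [1,5,4,3,2,3,1,2,0,1], [1,5,3,2,3,1,2,0,1], [0,1,5,4,2,3,1,2,0,1], [1,5,2,3,4,2,3,2,1], [2,3,2,1,5,3,0,1], [2,1,5,3,2,3,0,1]]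

def bad0Words_4 : List (List ℕ) :=
  [[1,5,4,2,3,2,1], [5,4,3,2,3,1,2,0,1], [1,2,0,1,5,3,2,0,1], [5,1,0,1,2,3,2,1], [5,4,1,0,1,2,3,2,1], [1,5,0,1,2,1,0,1],
    [1,0,1,5,0,1], [0,1,5,2,3,0,1,2,0,1], [2,3,2,1,5,1,2,1,0,1], [2,1,5,4,3,1,2,0,1], [5,4,1,2,3,2,1], [1,0,1,5,2,3,1,2,0,1],
    [2,1,5,3,1,2,0,1], [3,2,1,5,2,0,1], [5,3,1,2,1,0,1], [1,5,3,1,2,0,1], [4,3,2,1,5,1,2,1,0,1], [1,5,4,3,1,2,0,1],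
    [4,3,2,1,5,2,0,1], [5,4,3,1,2,1,0,1], [3,2,1,5,1,2,1,0,1], [5,2,0,1], [2,1,5,1,2,1,0,1], [5,1,2,3,2,1],
    [5,2,3,1,2,1,0,1], [5,4,2,3,1,2,1,0,1], [1,5,4,2,3,0,1,2,0,1], [1,5,2,3,0,1,2,0,1]]

def bad0Words : List (List ℕ) :=
  bad0Words_0 ++ bad0Words_1 ++ bad0Words_2 ++ bad0Words_3 ++ bad0Words_4

def bad1Sel : List ℕ := [0,3]

def bad1Pts : List ℕ := [644,901,315,615,416,146,199,346,347,436,314,200,129,410,128]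

def bad1Words_0 : List (List ℕ) :=
  [[2,0,1,5,4,3,1,0,1], [5,1,2,0,1,5,3,2,0,1], [5,0,1,2,1,0,1], [5,1,0,1,2,3,2,1], [0,1,5,4,2,3,1,0,1], [5,4,3,2,3,0,1,0,1],
    [3,2,0,1,5,4,3,1,0,1], [0,1,5,3,4,2,3,1,0,1], [5,3,0,1,2,1,0,1], [1,5,2,3,4,2,3,1,0,1], [5,4,1,0,1,2,3,2,1], [2,1,5,3,4,2,3,1,0,1],
    [4,3,2,1,5,4,3,1,0,1], [5,3,4,2,3,0,1,0,1], [3,2,0,1,5,3,1,2,0,1], [5,4,3,2,3,2,1,0,1], [5,3,4,3,2,3,1,2,0,1], [5,3,4,3,2,3,0,1,0,1],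
    [1,5,3,4,3,2,3,1,0,1], [5,4,3,0,1,2,1,0,1], [2,3,2,1,5,4,3,1,0,1], [5,4,3,0,1,0,1], [4,3,2,0,1,5,1,0,1], [0,1,5,4,3,1,2,0,1],
    [3,2,0,1,5,1,0,1], [2,0,1,5,1,0,1], [3,2,0,1,5,2,3,1,0,1], [5,3,2,3,0,1,0,1], [1,5,3,4,2,3,1,0,1], [3,2,1,5,4,3,1,0,1],
    [5,2,3,4,2,3,0,1,0,1], [5,3,4,2,3,1,2,0,1], [2,0,1,5,3,1,0,1], [0,1,5,2,3,1,0,1], [1,5,3,4,0,1,2,3,2,1], [5,3,2,3,2,1,0,1],
    [5,2,3,4,2,3,2,1,0,1], [5,2,3,4,2,3,1,2,0,1], [2,1,5,2,3,2,3,1,0,1], [3,2,0,1,5,3,2,1,0,1], [0,1,5,3,1,2,0,1], [5,3,0,1,0,1],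
    [5,2,3,4,2,3,1,0,1], [1,5,4,1,0,1,2,3,2,1], [1,5,2,3,1,0,1], [1,5,1,0,1,2,3,2,1], [1,5,4,2,3,1,0,1], [0,1,5,1,0,1,2,3,2,1],
    [1,5,1,2,3,2,3,1,0,1], [5,3,4,1,2,3,2,1], [5,3,1,2,3,2,1], [2,1,5,1,2,1,0,1], [5,3,4,0,1,2,3,2,1], [1,5,2,3,1,2,3,2,1],
    [2,1,5,3,1,0,1], [5,2,3,2,1,0,1], [5,2,3,4,3,2,3,1,0,1], [2,1,5,4,3,1,0,1], [5,4,2,3,2,1,0,1], [5,3,1,0,1],
    [5,4,3,1,2,3,2,1], [5,3,4,3,1,2,3,2,1], [5,4,3,1,0,1], [5,3,4,3,0,1,2,3,2,1], [1,5,2,1,0,1], [3,1,2,0,1,5,3,1,0,1],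
    [2,0,1,5,3,1,2,0,1], [1,5,2,3,2,3,1,0,1], [2,0,1,5,4,3,1,2,0,1], [3,2,1,5,3,2,3,1,0,1], [5,2,3,0,1,0,1], [2,3,2,0,1,5,1,0,1]]

def bad1Words_1 : List (List ℕ) :=
  [[5,4,2,3,0,1,0,1], [4,2,3,2,0,1,5,1,0,1], [5,3,4,3,2,3,2,1,0,1], [4,3,2,1,5,1,2,1,0,1], [0,1,5,3,1,0,1], [0,1,5,4,3,1,0,1],
    [1,0,1,5,3,2,3,1,0,1], [2,0,1,5,2,3,1,0,1], [1,0,1,5,2,3,2,1,0,1], [2,0,1,5,4,2,3,1,0,1], [0,1,5,1,0,1], [5,4,1,2,3,2,1],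
    [5,3,4,2,3,2,1,0,1], [5,1,2,3,2,1], [0,1,5,3,1,2,3,2,1], [5,4,0,1,2,3,2,1], [3,2,1,5,1,2,1,0,1], [2,3,2,1,5,1,2,1,0,1],
    [5,0,1,2,0,1], [1,0,1,5,2,3,1,2,0,1], [3,2,1,5,3,1,2,1,0,1], [3,2,3,2,1,5,2,1,0,1], [1,5,4,2,3,2,3,1,0,1], [5,0,1,2,3,2,1],
    [5,1,2,3,2,0,1,5,0,1], [5,4,2,3,1,2,1,0,1], [1,2,0,1,5,3,1,2,0,1], [2,0,1,5,3,2,1,0,1], [2,0,1,5,4,3,2,1,0,1], [0,1,5,2,3,2,3,1,0,1],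
    [5,1,2,3,2,1,5,3,0,1], [5,3,0,1,2,3,2,1], [2,3,2,1,5,3,2,1,0,1], [2,0,1,5,2,1,0,1], [1,5,3,2,1,0,1], [2,1,5,3,2,3,1,2,0,1],
    [1,5,3,1,2,0,1], [1,5,4,3,1,2,0,1], [1,5,4,3,2,1,0,1], [0,1,5,1,2,1,0,1], [5,2,3,1,2,1,0,1], [5,4,3,0,1,2,3,2,1],
    [2,1,5,4,2,3,1,0,1], [1,5,4,3,1,0,1], [2,0,1,5,1,2,1,0,1], [3,2,0,1,5,1,2,1,0,1], [5,4,2,3,1,0,1], [2,1,5,4,3,2,1,0,1],
    [5,4,2,3,1,2,3,2,1], [4,3,2,1,5,3,2,1,0,1], [3,2,1,5,4,2,3,1,0,1], [0,1,5,3,2,3,1,2,0,1], [1,5,3,2,3,1,2,1,0,1], [5,3,4,2,3,0,1,2,0,1],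
    [3,2,1,5,3,2,1,0,1], [5,3,4,2,3,1,0,1], [0,1,5,3,2,1,0,1], [0,1,5,4,3,2,1,0,1], [2,1,5,3,2,1,0,1], [0,1,5,2,1,0,1],
    [5,3,4,3,2,3,1,0,1], [1,5,3,4,2,3,1,2,0,1], [5,3,4,2,3,2,0,1,0,1], [5,2,3,1,2,3,2,1], [3,2,1,5,2,3,1,2,0,1], [1,5,3,4,1,2,3,2,1],
    [2,1,5,1,0,1,2,3,2,1], [2,1,5,2,3,1,0,1], [1,5,3,1,0,1], [5,2,3,4,1,2,3,2,1], [5,2,3,1,0,1], [5,2,3,4,0,1,2,3,2,1]]

def bad1Words_2 : List (List ℕ) :=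
  [[3,4,2,3,2,1,5,1,0,1], [5,3,4,2,3,2,3,1,0,1], [5,4,2,3,2,0,1,0,1], [4,3,2,1,5,3,1,2,0,1], [1,5,3,2,3,2,1,0,1], [3,2,1,5,2,3,1,0,1],
    [1,5,1,0,1], [5,4,3,2,3,1,0,1], [5,1,2,0,1], [1,5,4,3,1,2,3,2,1], [5,3,2,3,1,0,1], [4,3,2,1,5,2,3,1,0,1],
    [3,2,1,5,3,1,2,0,1], [0,1,5,3,2,3,2,1,0,1], [1,5,4,3,2,3,2,1,0,1], [1,5,3,0,1,2,1,0,1], [1,5,4,3,0,1,2,1,0,1], [4,3,2,1,5,1,0,1],
    [5,2,3,2,0,1,0,1], [1,5,3,1,2,3,2,1], [3,2,1,5,1,0,1], [2,1,5,3,0,1,2,1,0,1], [1,2,3,2,1,5,2,1,0,1], [1,5,4,3,2,3,1,2,0,1],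
    [5,4,2,3,0,1,2,3,2,1], [2,1,5,4,3,1,2,0,1], [2,1,5,2,1,0,1], [1,5,3,4,2,3,2,1,0,1], [1,5,1,2,1,0,1], [5,4,3,2,1,0,1],
    [5,4,3,1,2,1,0,1], [5,3,2,1,0,1], [5,2,3,0,1,2,3,2,1], [1,5,3,2,3,1,2,0,1], [2,1,5,3,1,2,0,1], [5,3,1,2,1,0,1],
    [1,2,3,2,1,5,1,0,1], [4,2,3,2,1,5,1,0,1], [4,1,2,3,2,1,5,1,0,1], [5,3,2,0,1,0,1], [5,4,2,3,2,3,1,0,1], [2,3,2,1,5,1,0,1],
    [5,1,2,1,0,1], [2,3,2,1,5,2,3,1,0,1], [5,2,3,2,3,1,0,1], [5,4,3,2,0,1,0,1], [2,1,5,1,0,1], [1,5,4,3,2,3,1,0,1],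
    [5,4,2,3,2,3,1,2,0,1], [0,1,5,2,3,0,1,2,0,1], [1,2,0,1,5,4,3,1,0,1], [5,3,4,1,0,1,2,3,2,1], [4,2,3,2,1,5,3,1,0,1], [1,5,4,3,0,1,0,1],
    [4,3,2,1,5,3,1,0,1], [1,0,1,5,4,2,3,1,0,1], [2,1,5,3,2,3,1,0,1], [2,1,5,4,3,2,3,1,0,1], [5,2,3,2,3,1,2,0,1], [1,5,2,3,2,0,1,0,1],
    [1,2,0,1,5,3,1,0,1], [1,5,3,0,1,0,1], [1,0,1,5,2,3,1,0,1], [2,3,2,1,5,3,1,0,1], [1,5,4,2,3,2,0,1,0,1], [2,1,5,3,0,1,2,3,2,1],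
    [1,5,2,3,2,3,1,2,0,1], [1,2,0,1,5,1,2,1,0,1], [1,0,1,5,2,1,0,1], [3,2,1,5,3,1,0,1], [1,5,3,2,3,1,0,1], [3,2,1,5,2,3,2,1,0,1]]

def bad1Words_3 : List (List ℕ) :=
  [[5,3,4,2,3,1,2,1,0,1], [2,0,1,5,2,3,2,1,0,1], [2,1,5,2,3,2,1,0,1], [5,4,3,2,3,1,2,1,0,1], [2,1,5,4,2,3,2,1,0,1], [1,0,1,5,1,2,3,2,1],
    [0,1,5,1,2,3,2,1], [2,1,5,3,1,2,1,0,1], [0,1,5,0,1,2,3,2,1], [1,0,1,5,3,1,2,0,1], [5,4,2,3,1,2,0,1], [1,0,1,5,3,2,1,0,1],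
    [4,2,3,2,1,5,2,1,0,1], [2,1,5,4,3,1,2,1,0,1], [5,2,3,1,2,0,1], [0,1,5,4,1,2,3,2,1], [2,3,2,1,5,2,1,0,1], [0,1,5,4,0,1,2,3,2,1],
    [1,0,1,5,4,3,2,1,0,1], [1,0,1,5,4,3,1,2,0,1], [0,1,5,4,3,1,2,1,0,1], [5,3,2,3,1,2,1,0,1], [1,5,1,2,0,1], [2,0,1,5,2,3,1,2,0,1],
    [0,1,5,3,1,2,1,0,1], [5,1,0,1], [2,1,5,2,3,1,2,1,0,1], [1,5,4,2,3,0,1,2,0,1], [5,4,3,2,3,1,2,0,1], [1,5,0,1,0,1],
    [4,3,2,0,1,5,2,1,0,1], [1,5,4,3,0,1,2,3,2,1], [1,5,2,3,0,1,2,0,1], [5,3,2,3,1,2,0,1], [1,0,1,5,1,2,0,1], [1,5,2,3,0,1,2,3,2,1],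
    [2,3,2,0,1,5,2,1,0,1], [1,5,3,0,1,2,3,2,1], [3,2,0,1,5,2,1,0,1], [0,1,5,3,0,1,2,3,2,1], [0,1,5,2,3,2,0,1,0,1], [1,5,4,0,1,2,3,2,1],
    [3,2,0,1,5,3,1,0,1], [0,1,5,3,2,3,1,0,1], [0,1,5,2,3,1,2,1,0,1], [1,5,0,1,2,3,2,1], [5,3,0,1,2,0,1], [0,1,5,4,3,2,3,1,0,1],
    [4,3,2,0,1,5,3,1,0,1], [0,1,5,1,2,0,1], [5,0,1,0,1], [5,4,3,0,1,2,0,1], [4,3,2,1,5,2,1,0,1], [4,3,1,2,0,1,5,1,0,1],
    [2,1,5,4,0,1,2,3,2,1], [4,3,2,3,2,1,5,1,0,1], [1,5,4,2,3,2,1,0,1], [5,1,2,3,2,3,1,0,1], [2,1,5,1,2,0,1], [5,2,1,0,1],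
    [5,4,1,2,3,2,3,1,0,1], [3,2,1,5,4,3,2,1,0,1], [3,2,1,5,4,3,1,2,0,1], [3,2,1,5,2,1,0,1], [2,1,0,1,5,3,1,2,0,1], [2,1,5,0,1,2,3,2,1],
    [1,5,2,3,2,1,0,1], [3,1,2,0,1,5,1,0,1], [3,2,3,2,1,5,1,0,1], [2,0,1,5,3,2,3,1,0,1], [1,5,4,2,3,1,2,0,1], [1,2,0,1,5,1,0,1]]

def bad1Words_4 : List (List ℕ) :=
  [[1,5,2,3,1,2,0,1], [2,1,5,1,2,3,2,1], [5,1,0,1,2,3,1,2,0,1], [1,5,0,1,2,1,0,1], [2,1,5,4,1,2,3,2,1], [5,4,2,3,0,1,2,0,1],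
    [5,2,3,0,1,2,0,1], [1,5,2,3,1,2,1,0,1], [1,5,4,2,3,1,2,1,0,1], [5,1,0,1,5,2,3,2,0,1], [1,5,4,3,1,2,1,0,1], [4,3,2,1,5,1,2,0,1],
    [2,0,1,5,3,1,2,1,0,1], [5,4,3,1,2,0,1], [1,5,3,1,2,1,0,1], [0,1,5,2,3,1,2,0,1], [3,2,1,5,1,2,0,1], [0,1,5,4,2,3,2,1,0,1],
    [5,3,1,2,0,1], [2,0,1,5,1,2,0,1], [0,1,5,4,2,3,1,2,0,1], [0,1,5,2,3,2,1,0,1], [5,2,0,1,0,1], [1,5,4,1,2,3,2,1],
    [2,1,5,4,2,3,1,2,0,1], [2,1,5,2,3,1,2,0,1], [5,3,2,3,1,2,3,2,1], [1,5,1,2,3,2,1]]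

def bad1Words : List (List ℕ) :=
  bad1Words_0 ++ bad1Words_1 ++ bad1Words_2 ++ bad1Words_3 ++ bad1Words_4

def bad2Sel : List ℕ := [0,4]

def bad2Pts : List ℕ := [688,121,231,99,472,112,614,901,315,611,263,392,155,272,47]

def bad2Words_0 : List (List ℕ) :=
  [[1,2,3,4,2,3,0,1], [1,2,3,4,3,2,3,1], [3,2,3,4,3,2,3,1], [2,3,4,3,2,3,0,1], [2,3,4,2,3,1], [3,2,3,4,1,2,3,0,1],
    [2,3,4,2,3,2,0,1], [2,3,4,2,3,1,0,1], [2,1,5,1,2,3,2,1], [2,0,1,5,1,2,0,1], [2,3,0,1], [4,1,2,3,0,1],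
    [2,1,5,3,1,2,0,1], [4,1,2,3,2,1,0,1], [2,3,2,1,0,1], [2,3,4,3,1,2,3,0,1], [2,3,4,3,2,3,2,1], [4,3,2,3,0,1],
    [2,1,5,2,3,1,2,0,1], [1,2,3,0,1], [4,3,2,3,2,1,0,1], [1,2,3,2,1,0,1], [3,4,2,3,0,1,0,1], [1,5,2,3,1,2,0,1],
    [3,1], [3,4,0,1,2,3,0,1], [2,0,1,5,1,2,1,0,1], [3,4,2,3,2,1], [1,5,1,2,1,0,1], [1,5,3,1,2,3,2,1],
    [1,5,2,3,1,2,1,0,1], [0,1,5,3,1,2,0,1], [4,1,2,3,1,2,0,1], [3,2,0,1,0,1], [0,1,2,3,0,1], [0,1,2,3,2,1,0,1],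
    [1,5,4,3,1,2,1,0,1], [0,1,2,3,1,2,0,1], [1,2,3,1,2,0,1], [3,4,2,3,1], [3,0,1,0,1], [0,1,2,3,1,0,1],
    [1,2,3,1,0,1], [1,2,3,2,0,1], [0,1,2,3,2,0,1], [3,4,3,1,2,3,0,1], [3,4,3,2,3,1,0,1], [1,0,1,2,3,2,0,1],
    [3,4,2,3,2,3,1], [0,1,5,3,1,2,1,0,1], [3,2,1], [0,1,5,2,3,1,2,0,1], [3,2,3,1], [3,4,3,2,3,0,1],
    [3,4,3,2,3,2,1,0,1], [2,3,0,1,0,1], [3,4,2,3,2,0,1,0,1], [1,5,4,2,3,1,2,0,1], [2,3,2,1], [1,2,3,1,2,1,0,1],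
    [1,5,1,2,3,2,1], [1,5,4,1,2,3,2,1], [0,1,5,1,2,0,1], [1,5,4,3,1,2,0,1], [2,3,2,3,1,0,1], [1],
    [2,0,1,0,1], [1,2,3,4,1,2,3,0,1], [1,2,3,4,2,3,2,1], [3,4,0,1,2,3,1,0,1], [2,3,4,0,1,2,3,0,1], [0,1,2,3,4,2,3,0,1]]

def bad2Words_1 : List (List ℕ) :=
  [[3,4,0,1,2,3,2,0,1], [4,2,3,0,1], [3,1,2,3,0,1], [2,1,5,4,3,1,2,0,1], [3,1,2,3,2,1,0,1], [4,2,3,2,1,0,1],
    [0,1,0,1], [4,3,1,2,3,1,0,1], [4,1,2,3,2,3,1], [3,4,3,1,2,3,1,0,1], [3,4,1,2,3,2,3,1], [2,3,2,3,1],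
    [3,2,3,1,0,1], [3,4,2,3,1,0,1], [3,4,2,3,2,0,1], [2,1], [0,1,5,1,2,1,0,1], [4,3,2,3,0,1,0,1],
    [4,3,2,3,2,1], [0,1,5,4,3,1,2,0,1], [3,1,2,3,1,2,0,1], [3,4,3,2,3,0,1,0,1], [3,4,3,2,3,2,1], [4,2,3,1,2,3,1,0,1],
    [1,5,3,1,2,0,1], [2,3,4,2,3,2,1], [2,3,4,2,3,2,3,1], [1,2,3,4,3,2,3,0,1], [2,3,4,2,3,0,1,0,1], [4,3,0,1,2,3,1,0,1],
    [2,3,4,3,2,3,1,0,1], [4,0,1,2,3,2,3,1], [4,1,2,3,2,0,1], [4,1,2,3,1,0,1], [3,2,1,5,3,1,2,0,1], [2,1,5,1,2,1,0,1],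
    [4,3,0,1], [3,2,1,5,1,2,1,0,1], [2,3,1], [3,0,1], [2,0,1,5,3,1,2,0,1], [4,1,2,3,1,2,1,0,1],
    [4,3,2,1,0,1], [2,3,1,2,3,0,1], [2,3,2,0,1,0,1], [3,0,1,2,3,0,1], [3,0,1,2,3,1,2,0,1], [3,2,1,0,1],
    [2,3,4,1,2,3,0,1], [3,4,3,2,3,1], [4,3,0,1,0,1], [4,0,1,2,3,1,0,1], [3,4,1,2,3,1,0,1], [3,4,2,3,0,1],
    [3,4,1,2,3,2,0,1], [4,0,1,2,3,2,0,1], [4,2,3,1,0,1], [4,2,3,2,0,1], [0,1,5,1,2,3,2,1], [4,1,0,1,2,3,2,0,1],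
    [3,4,2,3,2,1,0,1], [4,3,2,1], [3,0,1,2,3,1,0,1], [2,3,4,2,3,0,1], [2,3,4,2,3,2,1,0,1], [1,2,3,4,2,3,2,0,1],
    [1,2,3,4,2,3,1,0,1], [2,1,5,3,1,2,1,0,1], [0,1,2,3,2,3,1], [3,1,0,1], [2,1,5,1,2,0,1], [4,3,2,1,5,1,2,0,1]]

def bad2Words_2 : List (List ℕ) :=
  [[3,2,1,5,1,2,0,1], [1,0,1,2,3,2,3,1], [2,3,2,0,1], [2,3,1,0,1], [4,2,3,1,2,3,0,1], [3,4,2,3,2,3,1,0,1],
    [4,3,0,1,2,3,0,1], [1,5,3,2,3,1,2,0,1], [1,5,3,1,2,1,0,1], [1,5,1,2,0,1], [3,2,0,1], [1,5,2,3,0,1,2,0,1],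
    [1,2,3,2,3,1], [3,1,2,3,1,0,1], [4,2,3,2,3,1], [4,3,2,3,1,0,1], [2,3,4,3,2,3,1], [1,0,1],
    [4,3,1,2,3,0,1], [4,3,1,2,3,2,1,0,1], [3,4,2,3,1,2,3,0,1], [3,4,3,0,1,2,3,0,1], [2,3,1,2,3,1,0,1], [3,2,3,0,1,0,1],
    [2,0,1], [3,2,3,2,1], [4,3,1,2,3,1,2,0,1], [2,3,4,1,2,3,1,0,1], [4,3,2,3,1], [2,3,4,1,2,3,2,0,1],
    [3,4,1,2,3,0,1], [3,4,1,2,3,2,1,0,1], [3,2,3,4,3,2,3,0,1], [0,1,2,3,4,2,3,1], [4,2,3,1], [4,3,1,0,1],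
    [4,3,1], [4,2,3,2,3,1,0,1], [4,3,2,0,1,0,1], [3,4,1,2,3,1,2,0,1], [4,0,1,2,3,0,1], [4,0,1,2,3,2,1,0,1],
    [4,2,3,2,0,1,0,1], [4,3,2,0,1], [4,0,1,2,3,1,2,0,1], [1,2,3,4,2,3,1], [3,2,3,0,1], [0,1],
    [3,2,3,2,1,0,1], [4,2,3,0,1,0,1], [4,2,3,2,1], [2,1,0,1], [5,4,2,3,1,2,0,1], [4,3],
    [5,3,2,3,1,2,0,1], [4,3,1,2,0,1,0,1], [2,3,1,2,0,1], [5,2,3,0,1,2,0,1], [5,3,2,3,1,2,1,0,1], [5,1,2,1,0,1],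
    [5,4,3,1,2,3,2,1], [3,4,3,1,2,3,2,1], [5,4,2,3,1,2,1,0,1], [5,2,3,1,2,1,0,1], [3,1,2,3,0,1,0,1], [1,0,1,5,3,1,2,0,1],
    [4,3,2,3,1,2,0,1], [5,3,4,1,2,3,2,1], [5,3,1,2,3,2,1], [3,1,2,3,2,1], [5,4,3,0,1,2,0,1], [5,3,0,1,2,0,1]]

def bad2Words_3 : List (List ℕ) :=
  [[3,4,1,0,1,2,3,2,1], [3,4,3,0,1,2,3,2,1], [1,5,3,0,1,2,3,2,1], [5,4,3,0,1,2,3,2,1], [5,0,1,2,0,1], [3,0,1,2,0,1],
    [5,3,0,1,2,1,0,1], [4,3,1,0,1,2,0,1], [5,3,0,1,2,3,2,1], [5,2,3,2,3,1,2,0,1], [5,3,4,0,1,2,3,2,1], [3,0,1,2,3,2,1],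
    [5,0,1,2,1,0,1], [2,3,1,2,3,2,1], [3,4,2,3,0,1,2,0,1], [5,2,3,0,1,2,3,2,1], [3,1,0,1,2,3,0,1], [5,4,3,2,3,1,2,0,1],
    [2,3,0,1,2,3,2,1], [5,2,3,1,2,3,2,1], [5,1,2,3,2,3,1,0,1], [5,4,3,1,2,1,0,1], [5,1,2,0,1], [3],
    [1,2,3,2,3,1,0,1], [3,4,3,2,3,1,2,0,1], [3,1,2,0,1,0,1], [1,5,0,1,2,3,2,1], [1,5,4,0,1,2,3,2,1], [1,0,1,2,3,2,1],
    [3,0,1,2,1,0,1], [1,5,3,0,1,2,1,0,1], [0,1,2,0,1], [3,1,0,1,2,0,1], [4,1,0,1,2,3,0,1], [4,2,3,1,2,0,1],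
    [5,3,1,2,1,0,1], [3,4,1,2,3,0,1,0,1], [5,3,4,2,3,1,2,0,1], [3,4,1,2,3,2,1], [3,4,2,3,1,2,1,0,1], [3,2,3,1,2,1,0,1],
    [5,4,3,1,2,0,1], [5,1,0,1,2,3,2,1], [4,2,3,2,3,1,2,0,1], [1,5,0,1,2,1,0,1], [3,4,0,1,2,3,2,1], [0,1,2,1,0,1],
    [2,3,4,0,1,2,3,2,1], [2,3,4,1,2,3,2,1], [5,4,2,3,0,1,2,0,1], [4,3,1,2,0,1], [1,0,1,2,3,0,1], [2,3,0,1,2,0,1],
    [3,2,3,1,2,3,2,1], [1,0,1,2,3,1,2,0,1], [3,1,2,0,1], [1,5,1,0,1,2,3,2,1], [4,1,2,3,0,1,0,1], [5,2,3,1,2,0,1],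
    [1,0,1,5,1,2,0,1], [3,4,2,3,1,2,0,1], [4,2,3,1,2,1,0,1], [4,1,2,3,2,1], [0,1,5,0,1,2,3,2,1], [5,1,2,3,2,1],
    [5,4,1,2,3,2,1], [5,3,1,2,0,1], [2,3,4,2,3,1,2,0,1], [2,3,1,2,1,0,1], [3,1,2,1,0,1], [5,4,0,1,2,3,2,1]]

def bad2Words_4 : List (List ℕ) :=
  [[5,0,1,2,3,2,1], [4,0,1,2,3,2,1], [4,3,0,1,2,1,0,1], [5,4,3,0,1,2,1,0,1], [5,4,1,0,1,2,3,2,1], [3,4,1,0,1,2,3,0,1],
    [4,3,2,3,1,2,1,0,1], [1,2,3,0,1,0,1], [1,2,3,2,1], [1,2,1,0,1], [2,3,2,3,1,2,0,1], [0,1,2,3,2,1],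
    [4,1,2,3,2,3,1,0,1], [], [1,2,0,1,0,1], [4,2,3,1,2,3,2,1], [4,3,1,0,1,2,3,0,1], [4,2,3,0,1,2,0,1],
    [4,2,3,0,1,2,3,2,1], [4,3,1,2,1,0,1], [4,3,0,1,2,0,1], [1,0,1,2,0,1], [4,3,1,2,3,0,1,0,1], [3,2,3,1,2,0,1],
    [1,2,0,1], [4,3,1,2,3,2,1], [4,1,0,1,2,3,2,1], [4,3,0,1,2,3,2,1]]

def bad2Words : List (List ℕ) :=
  bad2Words_0 ++ bad2Words_1 ++ bad2Words_2 ++ bad2Words_3 ++ bad2Words_4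

def goodSel : List ℕ := [2,3,4]

def goodPts : List ℕ := [686,900,313,436,468,188,267,309,612,1342,465,82]

def goodWords_0 : List (List ℕ) :=
  [[0,1,2,1,0,1], [3,1,2,3,4,1,2,3,2,1], [3,2,1,0,1], [0,1,2,3,4,1,2,3,2,1], [4,3,1,2,3,4,1,2,3,2,1], [3,4,2,3,1,2,1,0,1],
    [3,0,1,2,1,0,1], [4,2,3,1,2,1,0,1], [3,1,2,1,0,1], [1,2,3,1,2,1,0,1], [0,1,2,3,2,0,1], [2,3,2,3,1,2,0,1],
    [1,2,1,0,1], [3,4,1,0,1,2,3,2,1], [0,1,2,3,2,1], [1,5,3,2,1], [1,0,1,2,3,2,1], [2,3,4,3,1,2,3,1,2,0,1],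
    [1,2,3,2,0,1], [5,3,2,1], [5,2,1], [1,0,1], [4,0,1,2,3,2,0,1], [4,2,3,2,3,1,2,0,1],
    [4,3,1,2,0,1], [3,0,1,2,0,1], [0,1,2,0,1], [3,1,2,3,4,0,1,2,3,2,1], [4,3,2,1], [1,0,1,2,3,4,1,2,3,2,1],
    [3,2,0,1], [0,1,2,3,4,1,2,3,2,0,1], [2,0,1], [0,1,2,3,4,0,1,2,3,2,1], [3,4,1,2,3,2,0,1], [5,1],
    [3,2,1], [3,4,1,2,3,1,2,1,0,1], [2,3,2,3,4,1,2,3,2,0,1], [1,2,3,4,0,1,2,3,2,0,1], [3,1,2,0,1], [2,3,4,0,1,2,3,1,2,0,1],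
    [1,2,3,4,1,0,1,2,3,2,1], [1,2,3,4,2,3,1,2,1,0,1], [0,1], [4,3,0,1,2,1,0,1], [4,3,2,1,0,1], [3,4,1,2,3,2,1],
    [4,3,1,2,1,0,1], [4,1,2,3,2,1], [3,4,0,1,2,3,2,1], [1], [3,0,1,2,3,4,1,2,3,2,1], [1,2,3,4,1,2,3,2,1],
    [2,1,0,1], [4,1,0,1,2,3,2,1], [1,5,2,1], [2,3,1,2,1,0,1], [1,2,3,2,1], [1,2,3,4,1,2,3,1,2,0,1],
    [1,2,3,4,0,1,2,3,2,1], [3,4,2,3,2,3,1,2,0,1], [3,2,3,4,1,2,3,1,2,0,1], [2,3,4,1,2,3,1,2,0,1], [3,4,0,1,2,3,2,0,1], [4,3,2,0,1],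
    [4,1,2,3,2,0,1], [1,2,0,1], [1,2,3,4,1,2,3,2,0,1], [3,1,2,3,4,1,2,3,2,0,1], [2,1], [4,1,2,3,1,2,1,0,1]]

def goodWords_1 : List (List ℕ) :=
  [[4,3,0,1,2,0,1], [5,4,3,2,1], [1,5,4,3,2,1], [4,0,1,2,3,2,1], [3,2,3,4,0,1,2,3,2,1], [0,1,2,3,1,2,0,1],
    [0,1,0,1,2,3,4,2,3,2,1], [1,0,1,2,3,4,2,3,2,0,1], [3,4,3,2,3,1,2,0,1], [3,4,2,3,2,0,1], [0,1,2,3,4,2,3,2,0,1], [4,3,2,3,4,1,2,3,2,1],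
    [1,2,3,4,3,2,3,1,2,0,1], [2,3,2,0,1], [1,2,3,4,2,3,2,1], [2,3,4,2,3,1,2,1,0,1], [2,3,4,1,2,3,2,1], [3,1,2,3,1,2,0,1],
    [5,2,3,2,1], [3,4,3,1,2,3,1,2,0,1], [3,4,0,1,2,3,1,2,0,1], [1,5,3,4,2,3,2,1], [3,2,3,1,2,0,1], [3,2,3,4,1,2,3,2,0,1],
    [4,1,2,3,1,2,0,1], [5,3,4,2,3,2,1], [4,1,0,1,2,3,1,2,0,1], [2,1,5,2,3,4,2,3,2,1], [2,3,4,0,1,2,3,2,0,1], [1,5,2,3,2,1],
    [4,1,2,3,2,1,0,1], [4,2,3,2,1], [0,1,2,3,4,2,3,1,2,0,1], [4,2,3,2,1,0,1], [2,3,4,2,3,2,3,1,2,0,1], [4,2,3,1,2,0,1],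
    [2,3,1,2,3,4,1,2,3,2,1], [0,1,2,3,4,2,3,2,1], [1,0,1,2,3,1,2,0,1], [4,3,2,3,4,0,1,2,3,2,1], [1,0,1,2,3,4,2,3,2,1], [3,4,1,2,3,2,1,0,1],
    [2,3,4,1,0,1,2,3,2,1], [2,3,2,1], [3,4,2,3,2,1], [3,2,3,4,1,2,3,2,1], [1,2,3,4,2,3,2,0,1], [2,3,2,1,0,1],
    [2,3,1,2,0,1], [3,4,2,3,2,1,0,1], [4,0,1,2,3,1,2,0,1], [4,3,1,2,3,1,2,0,1], [2,3,4,1,2,3,2,0,1], [1,2,3,4,1,2,3,2,1,0,1],
    [3,4,1,2,3,1,2,0,1], [3,4,2,3,1,2,0,1], [3,2,3,4,0,1,2,3,2,0,1], [1,2,3,2,1,0,1], [2,3,4,0,1,2,3,2,1], [4,3,2,3,1,2,0,1],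
    [4,2,3,2,0,1], [4,3,2,3,4,1,2,3,2,0,1], [1,2,3,1,2,0,1], [2,3,4,1,2,3,1,2,1,0,1], [1,5,4,2,3,2,1], [5,4,2,3,2,1],
    [1,2,3,4,2,3,1,2,0,1], [3,4,1,0,1,2,3,1,2,0,1], [2,3,4,2,3,1,2,0,1], [2,3,4,2,3,2,1], [1,0,1,2,0,1], [2,3,4,2,3,2,1,0,1]]

def goodWords_2 : List (List ℕ) :=
  [[2,3,4,3,2,3,1,2,0,1], [3,2,3,4,3,2,3,1,2,0,1], [0,1,5,2,3,4,2,3,2,1], [1,2,3,4,2,3,2,1,0,1], [2,1,5,4,3,2,1], [3,2,3,4,1,2,3,2,1,0,1],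
    [], [2,3,4,2,3,2,0,1], [2,1,5,3,4,2,3,2,1], [2,3,4,1,2,3,2,1,0,1], [5,2,3,4,2,3,2,1], [2,1,5,3,2,1],
    [0,1,2,3,4,2,3,2,1,0,1], [1,5,2,3,4,2,3,2,1]]

def goodWords : List (List ℕ) :=
  goodWords_0 ++ goodWords_1 ++ goodWords_2

def bad0Mask : ℕ :=
  0x630080000000000080000000000000000440380000000000000000000000000000000000000281022000000000000000000000000500980000880040000001c0000200200000000000000000000000004080046001000000000000000000000010061000004000000000000040000000000000000000000000000100002000000000000000000000450000000010000480000000000000000000000000000000001c202a000401000bc001000000000600400000029102000007c08000000068080000220001800000020000582000000000690000000800000000000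

def bad1Mask : ℕ :=
  0x20007400800000000002200000000000000004e2000000000000000000000000000000000000002000402000000000000000000000000540d80400080000000001c2000200200000000000000000000000001000006001000000000000000000000012061000004000000000000340000000000000000000000000000000002000000000000000002400450000000010000b00000000000000000000000000000000002e402a0004010015800100000000060040000004a00200000b408000000068080000400000800000020000182000000000690000000800000000000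

def bad2Mask : ℕ :=
  0x30800680080000000000000000000000000000440000000000000000000000000000000000000000000002000000000000000000000000500980000080000000021c0000208200000000000000000000000000000006001000000000000000000004090061000204000000000000040010004000000000000000000000000002004000000000000005800470200018010000000802000000000000000000420000000004c003a400c0100018801000000000610c00000008012000003408000000069080000000000800000020000182000000000690000000800000000000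

def goodMask : ℕ :=
  0x328001f00000000000002a00000000000000000a238000000000000000000000000000000000000228142000000000000000000000000004040040080004000002002000008000000000000000000000000005080040000000000000000000000004082000000200000000000000300010004000000000000000000000100000004000000000000007c00020200018000000f8080200000000000000000042000000000726010400800001e480000000000001080000006311000000c800000000001000000620001000000000000400000000000000000000000000000000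

end Cfsg.Lib.SuzPres.RankThree
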