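import Cfsg.Agent.SuzPres.RankThree.JDefs
import Cfsg.Agent.SuzPres.RankThree.VData

/-!
Tests for a 2-subgroup of the group on six letters and the sets it leaves invariant.
-/

set_option autoImplicit false

namespace Cfsg.Lib.SuzPres.RankThree

open Cfsg.Lib.CosetCert Cfsg.Lib.PermCert

/-- The letters of a word are among the first six. -/
def sixWord (w : List ℕ) : Bool := w.all fun l => Nat.blt l 6

/-- A product of the first generators, named by the bits of a number. -/
def vProd (k m : ℕ) : List ℕ :=
  expand vW ((List.range k).filter fun i => m.testBit i)

/-- The step of the series at one generator. -/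
def vStep (k : ℕ) : Bool :=
  (imgs (vW.getD k [] ++ vW.getD k []) == imgs (vProd k (vSquares.getD k 0))) &&
    (List.range k).all fun j =>
      imgs (conjW (vW.getD j []) (vW.getD k [])) == imgs (vProd k ((vConjs.getD k []).getD j 0))

/-- The mask of a union of orbits of the 2-subgroup. -/
def selMask (sel : List ℕ) : ℕ := sel.foldl (fun s i => s ||| JTwo.treeMask (vOrbits.getD i (0, []))) 0

/-- The size of a union of orbits. -/
def selSize (sel : List ℕ) : ℕ := (sel.map fun i => (vOrbits.getD i (0, [])).2.length + 1).sum

/-- Whether an image of a set holds each of some points. -/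
def fprint (C : ℕ) (pts : List ℕ) (u : List ℕ) : ℕ :=
  pts.foldl (fun v z => 2 * v + (C.testBit (evalW tabs u z)).toNat) 0

/-- Distinct images of a set through the base point. -/
def imagesOK (C : ℕ) (pts : List ℕ) (us : List (List ℕ)) (n : ℕ) : Bool :=
  (us.length == n) && pts.all (fun z => Nat.blt z 1782) &&
    us.all (fun u => sixWord u && C.testBit (evalW tabs u 995)) && incr (fprint C pts) us

end Cfsg.Lib.SuzPres.RankThree
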