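import Cfsg.Agent.SuzPres.RankThree.JClass
import Cfsg.Agent.SuzPres.RankThree.VDefs

/-!
The group on six letters and words in it.
-/

set_option autoImplicit false

namespace Cfsg.Lib.SuzPres.RankThree

open Cfsg.Lib.CosetCert Cfsg.Lib.PermCert

/-- The group on six letters. -/
abbrev S6 : Type := ↥(first 6)

theorem finite_S6 : Finite S6 := bound6.1

/-- A letter in the group on six letters. -/
def imS (l : ℕ) : S6 := if h : l < 6 then ⟨im l, im_mem h⟩ else 1

theorem six_lt {w : List ℕ} (h : sixWord w = true) : ∀ l ∈ w, l < 6 := fun l hl =>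
  Nat.le_of_ble_eq_true (List.all_eq_true.1 h l hl)

theorem coe_wvalS : ∀ {w : List ℕ}, sixWord w = true → ((wval imS w : S6) : Cfsg.Spor.Suz) = wval im w
  | [], _ => by simp [wval]
  | l :: w, h => by
    have hl := six_lt h l List.mem_cons_self
    have hw : sixWord w = true := List.all_eq_true.2 fun a ha =>
      Nat.ble_eq_true_of_le (six_lt h a (List.mem_cons_of_mem l ha))
    rw [wval_cons, wval_cons, Subgroup.coe_mul, coe_wvalS hw]
    simp [imS, hl]

theorem six_append {u v : List ℕ} (hu : sixWord u = true) (hv : sixWord v = true) : sixWord (u ++ v) = true := by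
  simp only [sixWord, List.all_append, Bool.and_eq_true]
  exact ⟨hu, hv⟩

theorem six_reverse {u : List ℕ} (hu : sixWord u = true) : sixWord u.reverse = true := by
  simpa [sixWord] using hu

theorem six_flat {L : List (List ℕ)} (hL : L.all sixWord = true) : ∀ (c : List ℕ), sixWord (expand L c) = true
  | [] => rfl
  | i :: c => by
    refine six_append (v := expand L c) ?_ (six_flat hL c)
    show sixWord (L.getD i []) = true
    by_cases hi : i < L.length
    · rw [List.getD_eq_getElem _ _ hi]
      exact List.all_eq_true.1 hL _ (List.getElem_mem hi)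
    · rw [List.getD_eq_default _ _ (not_lt.1 hi)]
      rfl

theorem wvalS_append (u v : List ℕ) : wval imS (u ++ v) = wval imS u * wval imS v := wval_append' u v

theorem wvalS_conj {u w : List ℕ} (hw : sixWord w = true) :
    wval imS (conjW u w) = (wval imS w)⁻¹ * wval imS u * wval imS w := by
  rw [conjW, wvalS_append, wvalS_append]
  congr 2
  refine wval_reverse imS fun l hl => ?_
  have h := six_lt hw l hl
  refine Subtype.ext ?_
  simp only [imS, h, dite_true, Subgroup.coe_mul, Subgroup.coe_one]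
  exact good_im.inv (by omega)

theorem evalS {w : List ℕ} (hw : sixWord w = true) (x : Fin 1782) :
    (((wval imS w : S6)⁻¹ • x : Fin 1782) : ℕ) = evalW tabs w x.val := by
  show ((((wval imS w : S6)⁻¹ : S6) : Cfsg.Spor.Suz) • x : Fin 1782).val = _
  rw [InvMemClass.coe_inv, coe_wvalS hw]
  exact JTwo.word_smul (fun l hl => by have := six_lt hw l hl; omega) x

theorem imgsS_sound {u v : List ℕ} (hu : sixWord u = true) (hv : sixWord v = true) (h : imgs u = imgs v) :
    wval imS u = wval imS v := by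
  refine Subtype.ext ?_
  rw [coe_wvalS hu, coe_wvalS hv]
  have hu7 : ∀ l ∈ u, l < 7 := fun l hl => by have := six_lt hu l hl; omega
  have hv7 : ∀ l ∈ v, l < 7 := fun l hl => by have := six_lt hv l hl; omega
  refine images_unique (Or.inl rfl) (images_map (fun S => evalW tabs u S.lev.b) fun S _ p hp => ?_)
    (images_map _ fun S hS p hp => ?_)
  · rw [evalW_apply im psi tabs psi_im u hu7 p, hp]
  · rw [evalW_apply im psi tabs psi_im v hv7 p, hp]
    have hb : S.lev.b ∈ bases := sizes_ok.2.2.2.2.1 ▸ List.mem_map.2 ⟨S, hS, rfl⟩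
    exact (List.map_eq_map_iff.1 h S.lev.b hb).symm

/-- Points joined by a spanning tree of some words of a subgroup lie in one orbit. -/
theorem tree_orbit {H : Subgroup S6} {gens : List (List ℕ)} (hsix : ∀ w ∈ gens, sixWord w = true)
    (hH : ∀ w ∈ gens, wval imS w ∈ H) {o : ℕ × List (ℕ × ℕ × ℕ)} (hb : o.1 < 1782)
    (hscan : scanOrb tabs 1782 gens (1 <<< o.1) o.2 = true) (x : Fin 1782)
    (hx : (JTwo.treeMask o).testBit x.val = true) : ∃ h ∈ H, h • (⟨o.1, hb⟩ : Fin 1782) = x := by
  obtain ⟨h, hh, e⟩ := JTwo.reach_words (H := H.map (first 6).subtype) gens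
    (fun w hw l hl => by have := six_lt (hsix w hw) l hl; omega)
    (fun w hw => ⟨_, hH w hw, coe_wvalS (hsix w hw)⟩) (p := ⟨o.1, hb⟩) o.2 (1 <<< o.1) hscan
    (fun j hj => ⟨1, one_mem _, by
      rw [Nat.one_shiftLeft, Nat.testBit_two_pow, decide_eq_true_eq] at hj
      rw [one_smul]
      exact hj⟩) x.val hx
  obtain ⟨h', hh', rfl⟩ := hh
  exact ⟨h', hh', Fin.ext e⟩

theorem mask_inv {m : ℕ} {x : Fin 1782} (hm : ∀ y ∈ maskSet m, MulAction.orbit (first 6) y = maskSet m) (g : S6) :
    x ∈ maskSet m ↔ g • x ∈ maskSet m :=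
  ⟨fun hx => hm x hx ▸ ⟨g, rfl⟩, fun hx => hm _ hx ▸ ⟨g⁻¹, inv_smul_smul g x⟩⟩

theorem mask1_inv (g : S6) (x : Fin 1782) : x ∈ maskSet mask1 ↔ g • x ∈ maskSet mask1 := mask_inv orbit1.1 g

theorem mask2_inv (g : S6) (x : Fin 1782) : x ∈ maskSet mask2 ↔ g • x ∈ maskSet mask2 := mask_inv orbit2.1 g

theorem card_S6 : Nat.card S6 = 251596800 := card_first_six

end Cfsg.Lib.SuzPres.RankThree
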